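import Cfsg.Agent.Lib.Root.Sets

/-!
Sets of abstract root subgroups: the commutator case, lines, components.
-/

set_option autoImplicit false

namespace Cfsg.Agent.RootLib

open Cfsg

variable {G : Type*} [Group G] {S : Set (Subgroup G)}

theorem commutator_mem {A B : Subgroup G} {a b : G} (ha : a ∈ A) (hb : b ∈ B) :
    a * b * a⁻¹ * b⁻¹ ∈ ⁅A, B⁆ :=
  Subgroup.commutator_mem_commutator ha hb

/-- In the commutator case `a ↦ [a, b]` is a homomorphism. -/
theorem commutator_mul {A B : Subgroup G} (h : RootCommutatorCase S A B) {a₁ a₂ b : G}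
    (h1 : a₁ ∈ A) (h2 : a₂ ∈ A) (hb : b ∈ B) :
    (a₁ * a₂) * b * (a₁ * a₂)⁻¹ * b⁻¹ = (a₁ * b * a₁⁻¹ * b⁻¹) * (a₂ * b * a₂⁻¹ * b⁻¹) := by
  have hc2 : Commute (a₂ * b * a₂⁻¹ * b⁻¹) (a₁ * b * a₁⁻¹ * b⁻¹) :=
    h.2.1 _ (commutator_mem h2 hb) _
      (mul_mem (mul_mem (mul_mem (Subgroup.mem_sup_left h1) (Subgroup.mem_sup_right hb))
        (inv_mem (Subgroup.mem_sup_left h1))) (inv_mem (Subgroup.mem_sup_right hb)))
  have hc1 : Commute (a₂ * b * a₂⁻¹ * b⁻¹) a₁ := h.2.1 _ (commutator_mem h2 hb) _ (Subgroup.mem_sup_left h1)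
  calc (a₁ * a₂) * b * (a₁ * a₂)⁻¹ * b⁻¹
      = a₁ * (a₂ * b * a₂⁻¹ * b⁻¹) * a₁⁻¹ * (a₁ * b * a₁⁻¹ * b⁻¹) := by group
    _ = (a₂ * b * a₂⁻¹ * b⁻¹) * (a₁ * b * a₁⁻¹ * b⁻¹) := by rw [← hc1.eq, mul_inv_cancel_right]
    _ = _ := hc2.eq

/-- In the commutator case `a ↦ [a, b]` maps onto `[A, B]`. -/
theorem commutator_surj {A B : Subgroup G} (h : RootCommutatorCase S A B) {b : G} (hb : b ∈ B)
    (hb1 : b ≠ 1) {k : G} (hk : k ∈ ⁅A, B⁆) : ∃ a ∈ A, a * b * a⁻¹ * b⁻¹ = k := by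
  rw [← h.2.2.2 b hb hb1] at hk
  induction hk using Subgroup.closure_induction with
  | mem x hx => exact hx
  | one => exact ⟨1, one_mem _, by group⟩
  | mul x y _ _ hx hy =>
    obtain ⟨a, ha, rfl⟩ := hx
    obtain ⟨a', ha', rfl⟩ := hy
    exact ⟨a * a', mul_mem ha ha', commutator_mul h ha ha' hb⟩
  | inv x _ hx =>
    obtain ⟨a, ha, rfl⟩ := hx
    refine ⟨a⁻¹, inv_mem ha, eq_inv_of_mul_eq_one_right ?_⟩
    rw [← commutator_mul h ha (inv_mem ha) hb]
    group

/-- In the commutator case with non-isolated `B`, `a ↦ [a, b]` is injective. -/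
theorem commutator_inj (hS : IsRootSubgroupSet S) {A B F : Subgroup G} (hA : A ∈ S) (hB : B ∈ S)
    (hF : F ∈ S) (hBF : IsRankOnePair B F) (h : RootCommutatorCase S A B) {a b : G} (ha : a ∈ A)
    (hb : b ∈ B) (hb1 : b ≠ 1) (hab : a * b = b * a) : a = 1 := by
  by_contra ha1
  have hconj : conjBy B a = B := eq_of_inter hS hB (hS.conj_mem B hB a) hF hBF hb
    (by simpa [hab] using conjBy_mem_conjBy (g := a) hb) hb1
  refine hS.ne_bot _ h.1 (bracket_eq_bot_of_commute_left hS hA hB ha ha1 fun x hx => ?_)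
  by_contra hne
  have hk1 : a * x * a⁻¹ * x⁻¹ ≠ 1 := fun e => hne (commutatorElement_eq_one_iff_mul_comm.1 e)
  have hkB : a * x * a⁻¹ * x⁻¹ ∈ B := mul_mem (hconj ▸ conjBy_mem_conjBy hx) (inv_mem hx)
  have e := eq_of_inter hS hB h.1 hF hBF hkB (commutator_mem ha hx) hk1
  exact hne (h.2.1 x (e.symm ▸ hx) a (Subgroup.mem_sup_left ha)).symm

/-- A commutator that is a member forces the commutator case. -/
theorem commutatorCase_of_mem (hS : IsRootSubgroupSet S) {A B : Subgroup G} (hA : A ∈ S)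
    (hB : B ∈ S) (hC : ⁅A, B⁆ ∈ S) : RootCommutatorCase S A B := by
  refine ((hS.pair A hA B hB).resolve_left (hS.ne_bot _ hC)).resolve_left fun h => ?_
  set C := ⁅A, B⁆ with hCdef
  have hCX : C ≤ A ⊔ B := by
    rw [hCdef, Subgroup.commutator_le]
    intro a ha b hb
    exact mul_mem (mul_mem (mul_mem (Subgroup.mem_sup_left ha) (Subgroup.mem_sup_right hb))
      (inv_mem (Subgroup.mem_sup_left ha))) (inv_mem (Subgroup.mem_sup_right hb))
  -- `C` is normalised by `A` and by `B`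
  have hnormal : A ⊔ B ≤ Subgroup.normalizer (C : Set G) := by
    rw [hCdef]
    exact sup_le (Subgroup.normalizer_commutator_ge_left A B) (Subgroup.normalizer_commutator_ge_right A B)
  have key : ∀ (P Q : Subgroup G), P ∈ S → Q ∈ S → IsRankOnePair P Q → P ⊔ Q = A ⊔ B →
      ∀ c ∈ C, ∀ p ∈ P, c * p = p * c := by
    intro P Q hP hQ hPQ hsup c hc p hp
    have hPX : P ≤ A ⊔ B := hsup ▸ le_sup_left
    have hk : ∀ c ∈ C, ∀ p ∈ P, ∀ x ∈ A ⊔ B, (c * p * c⁻¹ * p⁻¹) * x = x * (c * p * c⁻¹ * p⁻¹) := by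
      intro c hc p hp
      have hkC : c * p * c⁻¹ * p⁻¹ ∈ C := by
        rw [mul_assoc c, mul_assoc c]
        exact mul_mem hc ((Subgroup.mem_normalizer_iff.1 (hnormal (hPX hp)) c⁻¹).1 (inv_mem hc))
      have hcomm : ∀ x ∈ P, (c * p * c⁻¹ * p⁻¹) * x = x * (c * p * c⁻¹ * p⁻¹) := by
        rcases hS.pair C hC P hP with h' | h' | h'
        · intro x hx
          exact bracket_eq_bot_iff.1 h' _ hkC x hx
        · intro x hx
          obtain ⟨y, hy, hy1⟩ := exists_ne_one_of_mem hS hP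
          exact absurd (eq_one_of_normalizes (RankOnePair_symm h') hy
            (conjBy_eq_iff_mem_normalizer.2 (hnormal (hPX hy)))) hy1
        · intro x hx
          exact h'.2.1 _ (commutator_mem hc hp) x (Subgroup.mem_sup_right hx)
      obtain ⟨p₀, hp₀, z, hz, hkz⟩ := centralizer_unipotent hPQ (hS.commutative P hP)
        (hsup.symm ▸ hCX hkC) hcomm
      by_cases hp01 : p₀ = 1
      · intro x hx
        rw [hkz, hp01, one_mul]
        exact hz x (hsup.symm ▸ hx)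
      · exfalso
        rw [hkz, ← hz p₀ (Subgroup.mem_sup_left hp₀)] at hkC
        have e := (eq_of_product_mem hS hC hP hQ hPQ hp₀ hp01
          (fun x hx => hz x (Subgroup.mem_sup_left hx)) (fun x hx => hz x (Subgroup.mem_sup_right hx))
          hkC).1
        obtain ⟨y, hy, hy1⟩ := exists_ne_one_of_mem hS hQ
        exact hy1 (eq_one_of_normalizes (RankOnePair_symm hPQ) hy
          (e ▸ conjBy_eq_iff_mem_normalizer.2 (hnormal (hsup ▸ Subgroup.mem_sup_right hy))))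
    have hcX : c ∈ P ⊔ Q := hsup.symm ▸ hCX hc
    have hPc : conjBy P c = P := by
      refine unipotent_eq_of_commute hPQ (unipotent_conj unipotent_mem_A hcX) unipotent_mem_A
        (bracket_eq_bot_iff.2 fun y hy x hx => ?_)
      obtain ⟨q, hq, rfl⟩ : ∃ q ∈ P, y = c * q * c⁻¹ := ⟨c⁻¹ * y * c, mem_conjBy.1 hy, by group⟩
      have h1 : Commute (c * q * c⁻¹ * q⁻¹) x := hk c hc q hq x (hPX hx)
      simpa using (Commute.mul_left h1 (root_comm hS hP hq hx : Commute q x)).eq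
    have hkP : c * p * c⁻¹ * p⁻¹ ∈ P := mul_mem (hPc ▸ conjBy_mem_conjBy hp) (inv_mem hp)
    exact commutatorElement_eq_one_iff_mul_comm.1 (eq_one_of_normalizes hPQ hkP
      (conjBy_eq_of_commute fun x hx => hk c hc p hp x (hsup ▸ Subgroup.mem_sup_right hx)))
  have hcA := key A B hA hB h rfl
  have hcB := key B A hB hA (RankOnePair_symm h) (sup_comm _ _)
  obtain ⟨a, ha, ha1⟩ := exists_ne_one_of_mem hS hA
  refine conj_partner_not_commute h ha ha1 (bracket_eq_bot_iff.2 fun y hy x hx => ?_)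
  obtain ⟨b, hb, rfl⟩ : ∃ b ∈ B, y = a * b * a⁻¹ := ⟨a⁻¹ * y * a, mem_conjBy.1 hy, by group⟩
  have h1 : Commute (a * b * a⁻¹ * b⁻¹) x := hcB _ (commutator_mem ha hb) x hx
  simpa using (Commute.mul_left h1 (root_comm hS hB hb hx : Commute b x)).eq

theorem nonisolated_of_reach {A B : Subgroup G} (h : Relation.ReflTransGen (FAdj S) A B)
    (hne : A ≠ B) : ∃ F ∈ S, IsRankOnePair A F := by
  rcases Relation.ReflTransGen.cases_head h with h | ⟨F, h, -⟩
  · exact absurd h hne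
  · exact ⟨F, h.2.1, h.2.2⟩

theorem reach_conj (hS : IsRootSubgroupSet S) (hall : ∀ A ∈ S, ∃ F ∈ S, IsRankOnePair A F) (g : G) :
    ∀ A ∈ S, Relation.ReflTransGen (FAdj S) A (conjBy A g) := by
  let K : Subgroup G :=
    { carrier := {g | ∀ A ∈ S, Relation.ReflTransGen (FAdj S) A (conjBy A g)}
      one_mem' := fun A _ => by rw [conjBy_one]
      mul_mem' := fun {g h} hg hh A hA => by
        rw [← conjBy_conjBy]
        exact (hh A hA).trans (hg _ (hS.conj_mem A hA h))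
      inv_mem' := fun {g} hg A hA => by
        have := hg _ (hS.conj_mem A hA g⁻¹)
        rw [conjBy_cancel_inv] at this
        exact reach_symm this }
  have hle : (⨆ B ∈ S, B) ≤ K := iSup₂_le fun B hB b hb A hA => by
    obtain ⟨F, hF, hAF⟩ := hall A hA
    exact conj_reach hS hA hB hF hAF hb
  rw [hS.generates] at hle
  exact hle (Subgroup.mem_top g)

theorem map_conjBy {H : Type*} [Group H] (f : G →* H) (A : Subgroup G) (g : G) :
    (conjBy A g).map f = conjBy (A.map f) (f g) := by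
  rw [conjBy, conjBy, Subgroup.map_map, Subgroup.map_map]
  congr 1
  ext x
  simp

end Cfsg.Agent.RootLib
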