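import Cfsg.Agent.Lib.Root.Nondeg
import Cfsg.Agent.Lib.Components.Quasisimple
import Cfsg.Agent.S5032

/-!
Simplicity of groups with a connected set of abstract root subgroups.
-/

set_option autoImplicit false

namespace Cfsg.Agent.RootLib

open Cfsg

variable {G : Type*} [Group G] {S : Set (Subgroup G)}

theorem eq_top_of_member (hS : IsRootSubgroupSet S) (hconj : IsConjClassOfSubgroups S)
    {N : Subgroup G} [hN : N.Normal] {A : Subgroup G} (hA : A ∈ S) (hle : A ≤ N) : N = ⊤ := by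
  refine top_le_iff.1 (hS.generates ▸ iSup₂_le fun B hB => ?_)
  obtain ⟨g, rfl⟩ := hconj.2 A hA B hB
  rintro _ ⟨a, ha, rfl⟩
  exact hN.conj_mem a (hle ha) g

theorem exists_line_case (hS : IsRootSubgroupSet S) (hconj : IsConjClassOfSubgroups S)
    (h : ∃ P ∈ S, ∃ Q ∈ S, RootCommutatorCase S P Q) {A : Subgroup G} (hA : A ∈ S) :
    ∃ Q ∈ S, ⁅A, Q⁆ ∈ S := by
  obtain ⟨P, hP, Q, hQ, hPQ⟩ := h
  obtain ⟨g, rfl⟩ := hconj.2 P hP A hA
  refine ⟨conjBy Q g, hS.conj_mem Q hQ g, ?_⟩
  rw [← Subgroup.map_commutator P Q (MulAut.conj g).toMonoidHom]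
  exact hS.conj_mem _ hPQ.1 g

theorem special_of_case (hS : IsRootSubgroupSet S) (hconj : IsConjClassOfSubgroups S)
    (h : ∃ P ∈ S, ∃ Q ∈ S, RootCommutatorCase S P Q) {A B : Subgroup G} (hA : A ∈ S)
    (hB : B ∈ rankOnePartners S A) :
    (∃ C ∈ linePartners S A, C ∈ commutatorPartners S B) ∧ IsSpecialRankOnePair A B := by
  obtain ⟨Q, hQ, hAQ⟩ := exists_line_case hS hconj h hA
  obtain ⟨P, hP, hPB⟩ := exists_proj hS hA hQ hB.1 hAQ hB.2
  refine ⟨⟨P, hP, hP.1.1, ?_⟩, specialPair_of_proj hS hA hB.1 hP.1.1 hB.2 hP.1.2.2 hPB⟩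
  rw [Subgroup.commutator_comm]
  exact hPB.1

theorem members_comm (hS : IsRootSubgroupSet S) {A : Subgroup G} (hA : A ∈ S) :
    ∀ x ∈ A, ∀ y ∈ A, x * y = y * x := fun _ hx _ hy => root_comm hS hA hx hy

/-- A rank one pair inside a quotient: if the images commute they are equal. -/
theorem map_eq_of_commute {H : Type*} [Group H] (f : G →* H) {A B : Subgroup G}
    (h : IsRankOnePair A B) (hc : ∀ a ∈ A, ∀ b ∈ B, f a * f b = f b * f a) :
    A.map f = B.map f := by
  obtain ⟨⟨a, ha⟩, hne⟩ := A.ne_bot_iff_exists_ne_one.1 (left_ne_bot h)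
  obtain ⟨b, hb, -, he⟩ := h.cond_left a ha (fun e => hne (Subtype.ext e))
  have h1 := congrArg (Subgroup.map f) he
  rw [map_conjBy, map_conjBy, conjBy_eq_of_commute, conjBy_eq_of_commute] at h1
  · exact h1
  · rintro _ ⟨y, hy, rfl⟩
    exact hc _ (inv_mem ha) y hy
  · rintro _ ⟨x, hx, rfl⟩
    exact (hc x hx _ (inv_mem hb)).symm

/-- Normal subgroups are central or everything. -/
theorem normal_cases (hS : IsRootSubgroupSet S) (hconj : IsConjClassOfSubgroups S)
    (hiso : ∀ A ∈ S, ∃ B ∈ S, IsRankOnePair A B)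
    (h2' : ∀ A ∈ S, ∀ C ∈ S, A ≠ C → centralizingMembers S A ≠ centralizingMembers S C)
    (h3 : IsDegenerateRootSet S → ∀ A ∈ S, 3 < ENat.card A)
    (h4 : ∀ A ∈ S, ∀ B ∈ rankOnePartners S A, IsSpecialRankOnePair A B)
    (N : Subgroup G) [hN : N.Normal] : N = ⊤ ∨ N ≤ Subgroup.center G := by
  by_cases hfix : ∀ n ∈ N, ∀ A ∈ S, conjBy A n = A
  · refine Or.inr fun n hn => Subgroup.mem_center_iff.2 fun g => ?_
    have hle : (⨆ A ∈ S, A) ≤ Subgroup.centralizer {n} := iSup₂_le fun A hA a ha => by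
      obtain ⟨B, hB, hAB⟩ := hiso A hA
      rw [Subgroup.mem_centralizer_singleton_iff]
      exact (commute_of_fix_all hAB (fun C hC => hfix n hn C (unipotent_mem_set hS hA hC)) a
        (Subgroup.mem_sup_left ha)).symm
    rw [hS.generates] at hle
    exact Subgroup.mem_centralizer_singleton_iff.1 (hle (Subgroup.mem_top g))
  push Not at hfix
  obtain ⟨n, hn, A, hA, hne⟩ := hfix
  left
  set π := QuotientGroup.mk' N with hπ
  have hker : ∀ {E : Subgroup G}, E ∈ S → E.map π = ⊥ → N = ⊤ := fun hE e => by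
    rw [Subgroup.map_eq_bot_iff, QuotientGroup.ker_mk'] at e
    exact eq_top_of_member hS hconj hE e
  have collapse : ∀ {E F : Subgroup G}, E ∈ S → F ∈ S → IsRankOnePair E F → E.map π = F.map π →
      N = ⊤ := by
    intro E F hE hF hEF he
    by_cases hdeg : IsDegenerateRootSet S
    · have hsp := specialPair_of (h4 E hE F ⟨hF, hEF⟩) (members_comm hS hE) (members_comm hS hF)
      exact hker hE (map_eq_bot_of_collapse π (hsp.perfect (h3 hdeg E hE)) (members_comm hS hE) he)
    · simp only [IsDegenerateRootSet] at hdeg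
      push Not at hdeg
      obtain ⟨Q, hQ, hEQ⟩ := exists_line_case hS hconj hdeg hE
      obtain ⟨P, hP, hPF⟩ := exists_proj hS hE hQ hF hEQ hEF
      refine hker hPF.1 ?_
      rw [Subgroup.map_commutator P F π, ← he, ← Subgroup.map_commutator P E π,
        bracket_eq_bot_symm hP.1.2.2, Subgroup.map_bot]
  set C := conjBy A n with hC
  have hCS : C ∈ S := hS.conj_mem A hA n
  have hAC : C.map π = A.map π := by
    rw [hC, map_conjBy, hπ, QuotientGroup.mk'_apply, (QuotientGroup.eq_one_iff n).2 hn, conjBy_one]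
  have hself : ⁅A.map π, A.map π⁆ = ⊥ := bracket_eq_bot_iff.2 (by
    rintro _ ⟨x, hx, rfl⟩ _ ⟨y, hy, rfl⟩
    rw [← map_mul, ← map_mul, root_comm hS hA hx hy])
  rcases hS.pair A hA C hCS with h | h | h
  swap
  · exact collapse hA hCS h hAC.symm
  swap
  · exact hker h.1 (by rw [Subgroup.map_commutator A C π, hAC, hself])
  -- `A` and `C` commute: use a member commuting with only one of them
  have main : ∀ P Q : Subgroup G, P ∈ S → Q ∈ S → P.map π = Q.map π →
      ∀ E ∈ S, ⁅E, P⁆ = ⊥ → ⁅E, Q⁆ ≠ ⊥ → N = ⊤ := by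
    intro P Q hP hQ he E hE hEP hEQ
    have h0 : ⁅E.map π, Q.map π⁆ = ⊥ := by
      rw [← he, ← Subgroup.map_commutator E P π, hEP, Subgroup.map_bot]
    rcases hS.pair E hE Q hQ with h | h | h
    · exact absurd h hEQ
    · exact collapse hE hQ h (map_eq_of_commute π h fun x hx y hy =>
        bracket_eq_bot_iff.1 h0 _ (Subgroup.mem_map_of_mem π hx) _ (Subgroup.mem_map_of_mem π hy))
    · exact hker h.1 (by rw [Subgroup.map_commutator E Q π, h0])
  have hdiff := h2' A hA C hCS (Ne.symm hne)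
  by_contra hNtop
  apply hdiff
  ext E
  simp only [centralizingMembers, Set.mem_setOf_eq]
  refine and_congr_right fun hE => ?_
  have hiff : ∀ P : Subgroup G, E ≤ Subgroup.centralizer (P : Set G) ↔ ⁅E, P⁆ = ⊥ := fun P => by
    rw [bracket_eq_bot_iff]
    exact ⟨fun h x hx y hy => (Subgroup.mem_centralizer_iff.1 (h hx) y hy).symm,
      fun h x hx => Subgroup.mem_centralizer_iff.2 fun y hy => (h x hx y hy).symm⟩
  rw [hiff, hiff]
  constructor
  · intro h1
    by_contra h2
    exact hNtop (main A C hA hCS hAC.symm E hE h1 h2)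
  · intro h1
    by_contra h2
    exact hNtop (main C A hCS hA hAC E hE h1 h2)

/-- The group is perfect. -/
theorem commutator_eq_top (hS : IsRootSubgroupSet S) (hconj : IsConjClassOfSubgroups S)
    (hiso : ∀ A ∈ S, ∃ B ∈ S, IsRankOnePair A B)
    (h3 : IsDegenerateRootSet S → ∀ A ∈ S, 3 < ENat.card A)
    (h4 : ∀ A ∈ S, ∀ B ∈ rankOnePartners S A, IsSpecialRankOnePair A B) : commutator G = ⊤ := by
  by_cases hdeg : IsDegenerateRootSet S
  · refine top_le_iff.1 (hS.generates ▸ iSup₂_le fun A hA => ?_)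
    obtain ⟨B, hB, hAB⟩ := hiso A hA
    have hsp := specialPair_of (h4 A hA B ⟨hB, hAB⟩) (members_comm hS hA) (members_comm hS hB)
    rw [commutator_def]
    exact (le_sup_left.trans (hsp.perfect (h3 hdeg A hA))).trans (Subgroup.commutator_mono le_top le_top)
  · simp only [IsDegenerateRootSet] at hdeg
    push Not at hdeg
    obtain ⟨P, hP, Q, hQ, hPQ⟩ := hdeg
    exact eq_top_of_member hS hconj hPQ.1 (by
      rw [commutator_def]; exact Subgroup.commutator_mono le_top le_top)

end Cfsg.Agent.RootLib
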