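import Cfsg.Prelude.Def_RootSubgroups
import Mathlib

/-!
Rank one groups: regularity, double transitivity on the unipotent subgroups, centralisers.
-/

set_option autoImplicit false

namespace Cfsg.Agent.RootLib

open Cfsg

variable {G : Type*} [Group G]

theorem mem_conjBy {A : Subgroup G} {g x : G} : x ∈ conjBy A g ↔ g⁻¹ * x * g ∈ A := by
  constructor
  · rintro ⟨a, ha, rfl⟩
    simpa [mul_assoc] using ha
  · intro h
    exact ⟨g⁻¹ * x * g, h, by simp [mul_assoc]⟩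

theorem conjBy_conjBy (A : Subgroup G) (g h : G) : conjBy (conjBy A h) g = conjBy A (g * h) := by
  ext x
  simp only [mem_conjBy, mul_inv_rev, mul_assoc]

theorem conjBy_one (A : Subgroup G) : conjBy A 1 = A := by ext x; simp

theorem conjBy_inv_cancel (A : Subgroup G) (g : G) : conjBy (conjBy A g) g⁻¹ = A := by
  rw [conjBy_conjBy, inv_mul_cancel, conjBy_one]

theorem conjBy_cancel_inv (A : Subgroup G) (g : G) : conjBy (conjBy A g⁻¹) g = A := by
  rw [conjBy_conjBy, mul_inv_cancel, conjBy_one]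

theorem conjBy_mem_conjBy {A : Subgroup G} {g a : G} (ha : a ∈ A) : g * a * g⁻¹ ∈ conjBy A g :=
  ⟨a, ha, rfl⟩

theorem conjBy_eq_iff_mem_normalizer {A : Subgroup G} {g : G} :
    conjBy A g = A ↔ g ∈ Subgroup.normalizer (A : Set G) := by
  rw [Subgroup.mem_normalizer_iff]
  constructor
  · intro h x
    have h' := Subgroup.ext_iff.1 h (g * x * g⁻¹)
    simpa [mem_conjBy, mul_assoc] using h'
  · intro h
    ext x
    rw [mem_conjBy, h (g⁻¹ * x * g)]
    simp [mul_assoc]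

theorem conjBy_eq_self_of_mem {A : Subgroup G} {a : G} (ha : a ∈ A) : conjBy A a = A :=
  conjBy_eq_iff_mem_normalizer.2 (Subgroup.le_normalizer ha)

theorem conjBy_eq_of_commute {A : Subgroup G} {g : G} (h : ∀ a ∈ A, g * a = a * g) :
    conjBy A g = A := by
  refine conjBy_eq_iff_mem_normalizer.2 (Subgroup.mem_normalizer_iff.2 fun a => ?_)
  constructor
  · intro ha
    rw [h a ha, mul_inv_cancel_right]
    exact ha
  · intro ha
    have h1 := h _ ha
    have : g * a * g⁻¹ = a := mul_left_cancel (h1.trans (inv_mul_cancel_right _ _))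
    rwa [this] at ha

theorem conjBy_ne {A B : Subgroup G} (h : A ≠ B) (g : G) : conjBy A g ≠ conjBy B g :=
  fun e => h (by rw [← conjBy_inv_cancel A g, e, conjBy_inv_cancel])

theorem eq_inv_conjBy {A B : Subgroup G} {g : G} (h : conjBy A g = B) : A = conjBy B g⁻¹ := by
  rw [← h, conjBy_inv_cancel]

theorem bracket_eq_bot_iff {A B : Subgroup G} :
    ⁅A, B⁆ = ⊥ ↔ ∀ a ∈ A, ∀ b ∈ B, a * b = b * a := by
  rw [← le_bot_iff, Subgroup.commutator_le]
  simp only [Subgroup.mem_bot, commutatorElement_eq_one_iff_mul_comm]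

theorem bracket_eq_bot_symm {A B : Subgroup G} (h : ⁅A, B⁆ = ⊥) : ⁅B, A⁆ = ⊥ := by
  rwa [Subgroup.commutator_comm]

theorem isRankOnePair_conj {A B : Subgroup G} (h : IsRankOnePair A B) (g : G) :
    IsRankOnePair (conjBy A g) (conjBy B g) := by
  have hn : ∀ {C : Subgroup G}, Group.IsNilpotent C → Group.IsNilpotent (conjBy C g) := fun {C} hC =>
    Group.nilpotent_of_mulEquiv
      (Subgroup.equivMapOfInjective C (MulAut.conj g).toMonoidHom (MulAut.conj g).injective)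
  have hc : ∀ {C D : Subgroup G}, RankOneCondition C D →
      RankOneCondition (conjBy C g) (conjBy D g) := by
    intro C D hCD a ha ha1
    obtain ⟨d, hd, hd1, he⟩ := hCD _ (mem_conjBy.1 ha) (fun h1 => ha1 (by
      have := congrArg (fun t => g * t * g⁻¹) h1
      simpa [mul_assoc] using this))
    refine ⟨g * d * g⁻¹, conjBy_mem_conjBy hd, fun h1 => hd1 (by simpa using h1), ?_⟩
    have h2 := congrArg (fun t => conjBy t g) he
    simp only [conjBy_conjBy] at h2 ⊢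
    simpa [mul_assoc] using h2
  exact ⟨conjBy_ne h.ne g, hn h.nilpotent_left, hn h.nilpotent_right, hc h.cond_left, hc h.cond_right⟩

section Pair

variable {A B : Subgroup G} (h : IsRankOnePair A B)
include h

theorem not_mem_normalizer {a : G} (ha : a ∈ A) (ha1 : a ≠ 1) :
    a ∉ Subgroup.normalizer (B : Set G) := by
  intro hn
  obtain ⟨b, hb, -, he⟩ := h.cond_left a ha ha1
  rw [conjBy_eq_iff_mem_normalizer.2 (inv_mem hn)] at he
  have : A = B := by rw [eq_inv_conjBy he, inv_inv, conjBy_eq_self_of_mem hb]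
  exact h.ne this

theorem eq_one_of_normalizes {a : G} (ha : a ∈ A) (hn : conjBy B a = B) : a = 1 := by
  by_contra ha1
  exact not_mem_normalizer h ha ha1 (conjBy_eq_iff_mem_normalizer.1 hn)

theorem eq_of_conjBy_eq {a a' : G} (ha : a ∈ A) (ha' : a' ∈ A) (he : conjBy B a = conjBy B a') :
    a = a' := by
  have h1 : conjBy B (a⁻¹ * a') = B := by rw [← conjBy_conjBy, ← he, conjBy_inv_cancel]
  exact inv_mul_eq_one.1 (eq_one_of_normalizes h (A.mul_mem (A.inv_mem ha) ha') h1)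

theorem left_ne_bot : A ≠ ⊥ := by
  intro hA
  have hB : B = ⊥ := (Subgroup.eq_bot_iff_forall _).2 fun b hb => by
    by_contra hb1
    obtain ⟨a, ha, ha1, -⟩ := h.cond_right b hb hb1
    exact ha1 (by simpa [hA] using ha)
  exact h.ne (hA.trans hB.symm)

theorem bracket_ne_bot : ⁅A, B⁆ ≠ ⊥ := by
  intro hc
  obtain ⟨a, ha, ha1⟩ := A.ne_bot_iff_exists_ne_one.1 (left_ne_bot h) |> fun ⟨⟨a, ha⟩, hne⟩ =>
    (⟨a, ha, fun e => hne (Subtype.ext e)⟩ : ∃ a ∈ A, a ≠ 1)
  exact not_mem_normalizer h ha ha1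
    (conjBy_eq_iff_mem_normalizer.1 (conjBy_eq_of_commute (bracket_eq_bot_iff.1 hc a ha)))

theorem exists_conjBy_eq : ∃ x ∈ A ⊔ B, conjBy A x = B := by
  obtain ⟨⟨b, hb⟩, hb1⟩ := B.ne_bot_iff_exists_ne_one.1 (left_ne_bot (RankOnePair_symm h))
  obtain ⟨a, ha, -, he⟩ := h.cond_right b hb (fun e => hb1 (Subtype.ext e))
  refine ⟨a * b⁻¹, mul_mem (Subgroup.mem_sup_left ha) (inv_mem (Subgroup.mem_sup_right hb)), ?_⟩
  rw [← conjBy_conjBy, ← he, conjBy_cancel_inv]

omit h in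
theorem unipotent_mem_A : A ∈ unipotentSubgroups A B := ⟨1, one_mem _, (conjBy_one A).symm⟩

theorem unipotent_mem_B : B ∈ unipotentSubgroups A B := by
  obtain ⟨x, hx, he⟩ := exists_conjBy_eq h
  exact ⟨x, hx, he.symm⟩

omit h in
theorem unipotent_conj {C : Subgroup G} (hC : C ∈ unipotentSubgroups A B) {x : G} (hx : x ∈ A ⊔ B) :
    conjBy C x ∈ unipotentSubgroups A B := by
  obtain ⟨y, hy, rfl⟩ := hC
  exact ⟨x * y, mul_mem hx hy, conjBy_conjBy A x y⟩

theorem mem_unipotent_cases {C : Subgroup G} (hC : C ∈ unipotentSubgroups A B) :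
    C = A ∨ ∃ a ∈ A, C = conjBy B a := by
  obtain ⟨x, hx, rfl⟩ := hC
  let T : Set (Subgroup G) := {C | C = A ∨ ∃ a ∈ A, C = conjBy B a}
  have hA : ∀ a ∈ A, ∀ C ∈ T, conjBy C a ∈ T := by
    rintro a ha C (rfl | ⟨a', ha', rfl⟩)
    · exact Or.inl (conjBy_eq_self_of_mem ha)
    · exact Or.inr ⟨a * a', mul_mem ha ha', conjBy_conjBy B a a'⟩
  have hb : ∀ b ∈ B, conjBy A b ∈ T := by
    intro b hb
    by_cases hb1 : b = 1
    · exact Or.inl (by rw [hb1, conjBy_one])
    · obtain ⟨a, ha, -, he⟩ := h.cond_right b⁻¹ (inv_mem hb) (inv_ne_one.2 hb1)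
      rw [inv_inv] at he
      exact Or.inr ⟨a⁻¹, inv_mem ha, he.symm⟩
  have hB : ∀ b ∈ B, ∀ C ∈ T, conjBy C b ∈ T := by
    rintro b hb' C (rfl | ⟨a', ha', rfl⟩)
    · exact hb b hb'
    · by_cases ha1 : a' = 1
      · exact Or.inr ⟨1, one_mem _, by rw [ha1, conjBy_one, conjBy_eq_self_of_mem hb']⟩
      · obtain ⟨b', hb'', -, he⟩ := h.cond_left a'⁻¹ (inv_mem ha') (inv_ne_one.2 ha1)
        rw [inv_inv] at he
        rw [← he, conjBy_conjBy]
        exact hb _ (mul_mem hb' (inv_mem hb''))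
  have key : ∀ x ∈ A ⊔ B, ∀ C ∈ T, conjBy C x ∈ T ∧ conjBy C x⁻¹ ∈ T := by
    intro x hx
    rw [Subgroup.sup_eq_closure] at hx
    induction hx using Subgroup.closure_induction with
    | mem x hx =>
      intro C hC
      rcases hx with hx | hx
      · exact ⟨hA x hx C hC, hA _ (inv_mem hx) C hC⟩
      · exact ⟨hB x hx C hC, hB _ (inv_mem hx) C hC⟩
    | one => intro C hC; simpa [conjBy_one] using hC
    | mul x y _ _ ihx ihy =>
      intro C hC
      rw [mul_inv_rev, ← conjBy_conjBy, ← conjBy_conjBy]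
      exact ⟨(ihx _ (ihy C hC).1).1, (ihy _ (ihx C hC).2).2⟩
    | inv x _ ih =>
      intro C hC
      rw [inv_inv]
      exact (ih C hC).symm
  exact (key x hx A (Or.inl rfl)).1

/-- `A` is regular on the other unipotent subgroups. -/
theorem existsUnique_regular {C D : Subgroup G} (hC : C ∈ unipotentSubgroups A B)
    (hD : D ∈ unipotentSubgroups A B) (hCA : C ≠ A) (hDA : D ≠ A) :
    ∃! a : G, a ∈ A ∧ conjBy C a = D := by
  obtain ⟨c, hc, rfl⟩ := (mem_unipotent_cases h hC).resolve_left hCA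
  obtain ⟨d, hd, rfl⟩ := (mem_unipotent_cases h hD).resolve_left hDA
  refine ⟨d * c⁻¹, ⟨mul_mem hd (inv_mem hc), by rw [conjBy_conjBy, inv_mul_cancel_right]⟩, ?_⟩
  rintro a ⟨ha, he⟩
  rw [conjBy_conjBy] at he
  rw [← eq_of_conjBy_eq h (mul_mem ha hc) hd he, mul_inv_cancel_right]

theorem two_transitive {C₁ C₂ D₁ D₂ : Subgroup G} (h1 : C₁ ∈ unipotentSubgroups A B)
    (h2 : C₂ ∈ unipotentSubgroups A B) (h3 : D₁ ∈ unipotentSubgroups A B)
    (h4 : D₂ ∈ unipotentSubgroups A B) (hC : C₁ ≠ C₂) (hD : D₁ ≠ D₂) :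
    ∃ x ∈ A ⊔ B, conjBy C₁ x = D₁ ∧ conjBy C₂ x = D₂ := by
  have key : ∀ {P Q : Subgroup G}, P ∈ unipotentSubgroups A B → Q ∈ unipotentSubgroups A B → P ≠ Q →
      ∃ x ∈ A ⊔ B, conjBy A x = P ∧ conjBy B x = Q := by
    rintro P Q ⟨x, hx, rfl⟩ hQ hne
    have hne' : conjBy Q x⁻¹ ≠ A := fun e => hne (by rw [← e, conjBy_cancel_inv])
    obtain ⟨a, ha, hea⟩ :=
      (mem_unipotent_cases h (unipotent_conj hQ (inv_mem hx))).resolve_left hne'
    refine ⟨x * a, mul_mem hx (Subgroup.mem_sup_left ha), ?_, ?_⟩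
    · rw [← conjBy_conjBy, conjBy_eq_self_of_mem ha]
    · rw [← conjBy_conjBy, ← hea, conjBy_cancel_inv]
  obtain ⟨x, hx, e1, e2⟩ := key h1 h2 hC
  obtain ⟨y, hy, e3, e4⟩ := key h3 h4 hD
  refine ⟨y * x⁻¹, mul_mem hy (inv_mem hx), ?_, ?_⟩
  · rw [← conjBy_conjBy, ← e1, conjBy_inv_cancel, e3]
  · rw [← conjBy_conjBy, ← e2, conjBy_inv_cancel, e4]

theorem exists_three : ∃ a ∈ A, a ≠ 1 ∧ conjBy B a ≠ A ∧ conjBy B a ≠ B := by
  obtain ⟨⟨a, ha⟩, ha1⟩ := A.ne_bot_iff_exists_ne_one.1 (left_ne_bot h)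
  have ha1' : a ≠ 1 := fun e => ha1 (Subtype.ext e)
  refine ⟨a, ha, ha1', ?_, fun e => ha1' (eq_one_of_normalizes h ha e)⟩
  intro e
  exact h.ne (by rw [← conjBy_eq_self_of_mem (inv_mem ha)]; nth_rewrite 1 [← e]; rw [conjBy_inv_cancel])

theorem unipotent_rankOne {C D : Subgroup G} (hC : C ∈ unipotentSubgroups A B)
    (hD : D ∈ unipotentSubgroups A B) (hne : C ≠ D) : IsRankOnePair C D := by
  obtain ⟨x, -, rfl, rfl⟩ := two_transitive h unipotent_mem_A (unipotent_mem_B h) hC hD h.ne hne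
  exact isRankOnePair_conj h x

omit h in
theorem unipotent_le {C : Subgroup G} (hC : C ∈ unipotentSubgroups A B) : C ≤ A ⊔ B := by
  obtain ⟨x, hx, rfl⟩ := hC
  intro y hy
  have h1 : x * (x⁻¹ * y * x) * x⁻¹ ∈ A ⊔ B :=
    mul_mem (mul_mem hx (Subgroup.mem_sup_left (mem_conjBy.1 hy))) (inv_mem hx)
  simpa [mul_assoc] using h1

theorem unipotent_sup {C D : Subgroup G} (hC : C ∈ unipotentSubgroups A B)
    (hD : D ∈ unipotentSubgroups A B) (hne : C ≠ D) : C ⊔ D = A ⊔ B := by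
  obtain ⟨x, hx, rfl, rfl⟩ := two_transitive h unipotent_mem_A (unipotent_mem_B h) hC hD h.ne hne
  rw [← Subgroup.map_sup]
  exact conjBy_eq_self_of_mem hx

theorem unipotentSubgroups_eq {C D : Subgroup G} (hC : C ∈ unipotentSubgroups A B)
    (hD : D ∈ unipotentSubgroups A B) (hne : C ≠ D) :
    unipotentSubgroups C D = unipotentSubgroups A B := by
  obtain ⟨x, hx, rfl⟩ := hC
  ext E
  simp only [unipotentSubgroups, Set.mem_ofPred_eq]
  rw [unipotent_sup h ⟨x, hx, rfl⟩ hD hne]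
  constructor
  · rintro ⟨y, hy, rfl⟩
    exact ⟨y * x, mul_mem hy hx, conjBy_conjBy A y x⟩
  · rintro ⟨y, hy, rfl⟩
    exact ⟨y * x⁻¹, mul_mem hy (inv_mem hx), by rw [conjBy_conjBy, inv_mul_cancel_right]⟩

/-- The elements fixing every unipotent subgroup centralise the group. -/
theorem commute_of_fix_all {g : G}
    (hfix : ∀ C ∈ unipotentSubgroups A B, conjBy C g = C) : ∀ x ∈ A ⊔ B, g * x = x * g := by
  have key : ∀ C ∈ unipotentSubgroups A B, ∀ c ∈ C, g * c = c * g := by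
    intro C hC c hc
    obtain ⟨D, hD, hne⟩ : ∃ D ∈ unipotentSubgroups A B, C ≠ D := by
      by_cases e : C = A
      · exact ⟨B, unipotent_mem_B h, e ▸ h.ne⟩
      · exact ⟨A, unipotent_mem_A, e⟩
    have hgc : g * c * g⁻¹ ∈ C := by
      have h1 := conjBy_mem_conjBy (g := g) hc
      rwa [hfix C hC] at h1
    have h1 : conjBy D (g * c * g⁻¹) = conjBy D c := by
      conv_lhs => rw [← hfix D hD, conjBy_conjBy, inv_mul_cancel_right, ← conjBy_conjBy]
      exact hfix _ (unipotent_conj hD (unipotent_le hC hc))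
    have := eq_of_conjBy_eq (unipotent_rankOne h hC hD hne) hgc hc h1
    exact mul_inv_eq_iff_eq_mul.1 this
  intro x hx
  rw [Subgroup.sup_eq_closure] at hx
  induction hx using Subgroup.closure_induction with
  | mem x hx =>
    rcases hx with hx | hx
    · exact key A unipotent_mem_A x hx
    · exact key B (unipotent_mem_B h) x hx
  | one => simp
  | mul x y _ _ ihx ihy => rw [← mul_assoc, ihx, mul_assoc, ihy, ← mul_assoc]
  | inv x _ ih => exact Commute.inv_right ih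

/-- Centraliser of an abelian unipotent subgroup inside the group. -/
theorem centralizer_unipotent (hA : IsMulCommutative A) {g : G} (hg : g ∈ A ⊔ B)
    (hc : ∀ a ∈ A, g * a = a * g) :
    ∃ a₀ ∈ A, ∃ z, (∀ x ∈ A ⊔ B, z * x = x * z) ∧ g = a₀ * z := by
  have hgA : conjBy A g = A := conjBy_eq_of_commute hc
  have hne : conjBy B g ≠ A := by
    intro e
    exact conjBy_ne h.ne g (hgA.trans e.symm)
  obtain ⟨a₀, ha₀, he⟩ :=
    (mem_unipotent_cases h (unipotent_conj (unipotent_mem_B h) hg)).resolve_left hne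
  refine ⟨a₀, ha₀, a₀⁻¹ * g,
    commute_of_fix_all h ?_, by group⟩
  intro C hC
  rcases mem_unipotent_cases h hC with rfl | ⟨a, ha, rfl⟩
  · rw [← conjBy_conjBy, hgA, conjBy_eq_self_of_mem (inv_mem ha₀)]
  · have e : a₀⁻¹ * g * a = a * (a₀⁻¹ * g) := by
      have hcomm : a₀⁻¹ * a = a * a₀⁻¹ :=
        congrArg Subtype.val (hA.is_comm.comm (⟨a₀⁻¹, inv_mem ha₀⟩ : A) ⟨a, ha⟩)
      rw [mul_assoc, hc a ha, ← mul_assoc, hcomm, mul_assoc]
    rw [conjBy_conjBy, e, ← conjBy_conjBy]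
    congr 1
    rw [← conjBy_conjBy, he, conjBy_inv_cancel]

end Pair

end Cfsg.Agent.RootLib
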