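import Cfsg.Prelude.Def_RootSubgroups
import Mathlib

/-!
Groups of linear maps acting unipotently: the span of the `g - 1`, and Baer's lemma for conjugation
closed families of subgroups with pairwise unipotent joins.
-/

set_option autoImplicit false

namespace Cfsg.Agent.RootLib

open Cfsg

variable {k : Type*} [Field k] {M : Type*} [AddCommGroup M] [Module k M]

/-- The span of the maps `g - 1`, `g ∈ H`. -/
def augSpan (H : Subgroup (LinearMap.GeneralLinearGroup k M)) : Submodule k (Module.End k M) :=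
  Submodule.span k ((fun g : LinearMap.GeneralLinearGroup k M => (g : Module.End k M) - 1) '' (H : Set _))

variable {H K L : Subgroup (LinearMap.GeneralLinearGroup k M)}

theorem sub_one_mem_augSpan {g : LinearMap.GeneralLinearGroup k M} (hg : g ∈ H) :
    (g : Module.End k M) - 1 ∈ augSpan H :=
  Submodule.subset_span ⟨g, hg, rfl⟩

theorem augSpan_mono (h : H ≤ K) : augSpan H ≤ augSpan K :=
  Submodule.span_mono (Set.image_mono h)

theorem augSpan_mul_self : augSpan H * augSpan H ≤ augSpan H := by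
  rw [augSpan, Submodule.span_mul_span, Submodule.span_le]
  rintro _ ⟨_, ⟨g, hg, rfl⟩, _, ⟨h, hh, rfl⟩, rfl⟩
  have e : ((g : Module.End k M) - 1) * ((h : Module.End k M) - 1) =
      (((g * h : LinearMap.GeneralLinearGroup k M) : Module.End k M) - 1) - ((g : Module.End k M) - 1)
        - ((h : Module.End k M) - 1) := by
    rw [Units.val_mul]; noncomm_ring
  rw [SetLike.mem_coe]
  show ((g : Module.End k M) - 1) * ((h : Module.End k M) - 1) ∈ _
  rw [e]
  exact sub_mem (sub_mem (sub_one_mem_augSpan (mul_mem hg hh)) (sub_one_mem_augSpan hg))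
    (sub_one_mem_augSpan hh)

theorem mulLeftLe {S T : Submodule k (Module.End k M)} (h : S ≤ T) (R : Submodule k (Module.End k M)) :
    R * S ≤ R * T := mul_le_mul' le_rfl h

theorem mulRightLe {S T : Submodule k (Module.End k M)} (h : S ≤ T) (R : Submodule k (Module.End k M)) :
    S * R ≤ T * R := mul_le_mul' h le_rfl

theorem isUnipotentOn_iff :
    IsUnipotentOn H ↔ ∃ n : ℕ, 0 < n ∧ augSpan H ^ n = ⊥ := by
  constructor
  · rintro ⟨n, hn⟩
    simp only [bind_pure_comp, List.map_eq_map, List.map_map] at hn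
    refine ⟨n + 1, n.succ_pos, ?_⟩
    rw [augSpan, Submodule.span_pow, eq_bot_iff, Submodule.span_le]
    intro x hx
    obtain ⟨f, hf⟩ := Set.mem_pow.1 hx
    rw [List.ofFn_succ, List.prod_cons] at hf
    set l : List (LinearMap.GeneralLinearGroup k M) := List.ofFn fun i : Fin n => (f i.succ).2.choose with hl
    have hprod : (List.ofFn fun i : Fin n => (f i.succ : Module.End k M)).prod = 0 := by
      have h2 := hn l (fun g hg => by
        obtain ⟨i, rfl⟩ := List.mem_ofFn.1 hg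
        exact (f i.succ).2.choose_spec.1) (by simp [hl])
      rw [hl, List.map_ofFn] at h2
      convert h2 using 3
      funext i
      exact ((f i.succ).2.choose_spec.2).symm
    rw [hprod, mul_zero] at hf
    rw [SetLike.mem_coe, Submodule.mem_bot, ← hf]
  · rintro ⟨n, -, hn⟩
    refine ⟨n, fun l hl hlen => ?_⟩
    simp only [bind_pure_comp, List.map_eq_map, List.map_map]
    have key : ∀ l : List (LinearMap.GeneralLinearGroup k M), (∀ g ∈ l, g ∈ H) →
        (List.map ((fun g => g - 1) ∘ Units.val) l : List (Module.End k M)).prod ∈ augSpan H ^ l.length := by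
      intro l
      induction l with
      | nil => intro _; simp only [List.map_nil, List.prod_nil, List.length_nil, pow_zero]; exact Submodule.one_le.1 le_rfl
      | cons a l ih =>
        intro h
        rw [List.map_cons, List.prod_cons, List.length_cons, pow_succ']
        exact Submodule.mul_mem_mul (sub_one_mem_augSpan (h a (List.mem_cons_self ..)))
          (ih fun g hg => h g (List.mem_cons_of_mem _ hg))
    have := key l hl
    rwa [hlen, hn, Submodule.mem_bot] at this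

theorem augSpan_le {S : Submodule k (Module.End k M)} (hS : S * S ≤ S)
    {T : Set (LinearMap.GeneralLinearGroup k M)} (hT : ∀ g ∈ T, (g : Module.End k M) - 1 ∈ S)
    (hT' : ∀ g ∈ T, ((g⁻¹ : LinearMap.GeneralLinearGroup k M) : Module.End k M) - 1 ∈ S) :
    augSpan (Subgroup.closure T) ≤ S := by
  rw [augSpan, Submodule.span_le]
  rintro _ ⟨g, hg, rfl⟩
  suffices h : (g : Module.End k M) - 1 ∈ S ∧
      ((g⁻¹ : LinearMap.GeneralLinearGroup k M) : Module.End k M) - 1 ∈ S from h.1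
  induction hg using Subgroup.closure_induction with
  | mem x hx => exact ⟨hT x hx, hT' x hx⟩
  | one => simp
  | inv x _ hx => rw [inv_inv]; exact ⟨hx.2, hx.1⟩
  | mul x y _ _ hx hy =>
    have key : ∀ a b : LinearMap.GeneralLinearGroup k M, (a : Module.End k M) - 1 ∈ S →
        (b : Module.End k M) - 1 ∈ S →
        ((a * b : LinearMap.GeneralLinearGroup k M) : Module.End k M) - 1 ∈ S := by
      intro a b ha hb
      have e : ((a * b : LinearMap.GeneralLinearGroup k M) : Module.End k M) - 1 =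
          ((a : Module.End k M) - 1) * ((b : Module.End k M) - 1) + ((a : Module.End k M) - 1)
            + ((b : Module.End k M) - 1) := by
        rw [Units.val_mul]; noncomm_ring
      rw [e]
      exact add_mem (add_mem (hS (Submodule.mul_mem_mul ha hb)) ha) hb
    exact ⟨key x y hx.1 hy.1, by rw [mul_inv_rev]; exact key _ _ hy.2 hx.2⟩

theorem sup_augSpan_le {S : Submodule k (Module.End k M)} (hS : S * S ≤ S) (hH : augSpan H ≤ S)
    (hK : augSpan K ≤ S) : augSpan (H ⊔ K) ≤ S := by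
  rw [Subgroup.sup_eq_closure]
  refine augSpan_le hS ?_ ?_ <;> rintro g (hg | hg)
  · exact hH (sub_one_mem_augSpan hg)
  · exact hK (sub_one_mem_augSpan hg)
  · exact hH (sub_one_mem_augSpan (inv_mem hg))
  · exact hK (sub_one_mem_augSpan (inv_mem hg))

theorem iSup_augSpan_le {S : Submodule k (Module.End k M)} (hS : S * S ≤ S)
    {U : Set (Subgroup (LinearMap.GeneralLinearGroup k M))} (hU : ∀ A ∈ U, augSpan A ≤ S) :
    augSpan (⨆ A ∈ U, A) ≤ S := by
  have e : (⨆ A ∈ U, A) = Subgroup.closure (⋃ A ∈ U, (A : Set (LinearMap.GeneralLinearGroup k M))) := by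
    simp only [Subgroup.closure_iUnion, Subgroup.closure_eq]
  rw [e]
  refine augSpan_le hS ?_ ?_ <;> intro g hg <;> simp only [Set.mem_iUnion, SetLike.mem_coe] at hg <;>
    obtain ⟨A, hA, hgA⟩ := hg
  · exact hU A hA (sub_one_mem_augSpan hgA)
  · exact hU A hA (sub_one_mem_augSpan (inv_mem hgA))

theorem isUnipotentOn_of_le (h : augSpan H ≤ augSpan K) (hK : IsUnipotentOn K) : IsUnipotentOn H := by
  obtain ⟨n, hn0, hn⟩ := isUnipotentOn_iff.1 hK
  exact isUnipotentOn_iff.2 ⟨n, hn0, le_bot_iff.1 ((pow_le_pow_left' h n).trans hn.le)⟩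

/-- A unipotent group normalised by a unipotent group gives a unipotent join. -/
theorem isUnipotentOn_sup (hK : IsUnipotentOn K) (hL : IsUnipotentOn L)
    (hn : L ≤ Subgroup.normalizer (K : Set (LinearMap.GeneralLinearGroup k M))) :
    IsUnipotentOn (K ⊔ L) := by
  obtain ⟨m, hm0, hm⟩ := isUnipotentOn_iff.1 hK
  obtain ⟨n, hn0, hn'⟩ := isUnipotentOn_iff.1 hL
  set P := augSpan K with hP
  set Q := augSpan L with hQ
  set X : Submodule k (Module.End k M) := 1 ⊔ Q with hX
  have hQP : Q * P ≤ P * X := by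
    rw [hQ, hP, augSpan, augSpan, Submodule.span_mul_span, Submodule.span_le]
    rintro _ ⟨_, ⟨l, hl, rfl⟩, _, ⟨x, hx, rfl⟩, rfl⟩
    have hx' : l * x * l⁻¹ ∈ K := (Subgroup.mem_normalizer_iff.1 (hn hl) x).1 hx
    show ((l : Module.End k M) - 1) * ((x : Module.End k M) - 1) ∈ P * X
    have e : ((l : Module.End k M) - 1) * ((x : Module.End k M) - 1) =
        (((l * x * l⁻¹ : LinearMap.GeneralLinearGroup k M) : Module.End k M) - 1) *
          ((l : Module.End k M) - 1) +
        ((((l * x * l⁻¹ : LinearMap.GeneralLinearGroup k M) : Module.End k M) - 1) -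
          ((x : Module.End k M) - 1)) * 1 := by
      have h0 : ((l * x * l⁻¹ : LinearMap.GeneralLinearGroup k M) : Module.End k M) * (l : Module.End k M)
          = (l : Module.End k M) * x := by
        rw [← Units.val_mul, inv_mul_cancel_right, Units.val_mul]
      linear_combination (norm := noncomm_ring) -h0
    rw [e]
    exact add_mem (Submodule.mul_mem_mul (sub_one_mem_augSpan hx')
        ((le_sup_right : Q ≤ X) (sub_one_mem_augSpan hl)))
      (Submodule.mul_mem_mul (sub_mem (sub_one_mem_augSpan hx') (sub_one_mem_augSpan hx))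
        ((le_sup_left : (1 : Submodule k (Module.End k M)) ≤ X) (Submodule.one_le.1 le_rfl)))
  have hXP : X * P ≤ P * X := by
    rw [hX, Submodule.sup_mul, one_mul]
    refine sup_le ?_ hQP
    calc P = P * 1 := (mul_one P).symm
      _ ≤ P * (1 ⊔ Q) := mulLeftLe le_sup_left P
  have hXX : X * X ≤ X := by
    rw [hX, Submodule.sup_mul, Submodule.mul_sup, Submodule.mul_sup, one_mul, one_mul, mul_one]
    exact sup_le le_rfl (sup_le le_sup_right (augSpan_mul_self.trans le_sup_right))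
  set I := P * X with hI
  have hPI : P ≤ I := by
    calc P = P * 1 := (mul_one P).symm
      _ ≤ P * (1 ⊔ Q) := mulLeftLe le_sup_left P
  have hQI : Q * I ≤ I := by
    calc Q * (P * X) = Q * P * X := (mul_assoc _ _ _).symm
      _ ≤ P * X * X := mulRightLe hQP X
      _ = P * (X * X) := mul_assoc _ _ _
      _ ≤ P * X := mulLeftLe hXX P
  have hIQ : I * Q ≤ I := by
    calc P * X * Q = P * (X * Q) := mul_assoc _ _ _
      _ ≤ P * X := mulLeftLe ((mulLeftLe le_sup_right X).trans hXX) P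
  have hII : I * I ≤ I := by
    calc P * X * (P * X) = P * (X * P) * X := by simp only [mul_assoc]
      _ ≤ P * (P * X) * X := mulRightLe (mulLeftLe hXP P) X
      _ = P * P * (X * X) := by simp only [mul_assoc]
      _ ≤ P * X := mul_le_mul' augSpan_mul_self hXX
  have hT : (I ⊔ Q) * (I ⊔ Q) ≤ I ⊔ Q := by
    rw [Submodule.sup_mul, Submodule.mul_sup, Submodule.mul_sup]
    exact sup_le (sup_le (hII.trans le_sup_left) (hIQ.trans le_sup_left))
      (sup_le (hQI.trans le_sup_left) (augSpan_mul_self.trans le_sup_right))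
  have hle : augSpan (K ⊔ L) ≤ I ⊔ Q :=
    sup_augSpan_le hT (hPI.trans le_sup_left) le_sup_right
  have h1 : ∀ j, (I ⊔ Q) ^ (j + 1) ≤ I ⊔ Q ^ (j + 1) := by
    intro j
    induction j with
    | zero => simp
    | succ j ih =>
      rw [pow_succ (I ⊔ Q), pow_succ Q (j + 1)]
      refine (mulRightLe ih _).trans ?_
      rw [Submodule.sup_mul, Submodule.mul_sup, Submodule.mul_sup]
      refine sup_le (sup_le (hII.trans le_sup_left) (hIQ.trans le_sup_left))
        (sup_le (le_sup_of_le_left ?_) le_sup_right)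
      clear ih
      induction j with
      | zero => simpa using hQI
      | succ j ih =>
        rw [pow_succ' Q (j + 1), mul_assoc]
        exact (mulLeftLe ih Q).trans hQI
  obtain ⟨n', rfl⟩ : ∃ n', n = n' + 1 := ⟨n - 1, by omega⟩
  have h2 : (I ⊔ Q) ^ (n' + 1) ≤ I := (h1 n').trans (sup_le le_rfl (hn'.le.trans bot_le))
  have h3 : ∀ j, I ^ (j + 1) ≤ P ^ (j + 1) * X := by
    intro j
    induction j with
    | zero => simp [hI]
    | succ j ih =>
      rw [pow_succ I]
      calc I ^ (j + 1) * (P * X) ≤ P ^ (j + 1) * X * (P * X) := mulRightLe ih _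
        _ = P ^ (j + 1) * (X * P) * X := by simp only [mul_assoc]
        _ ≤ P ^ (j + 1) * (P * X) * X := mulRightLe (mulLeftLe hXP _) X
        _ = P ^ (j + 1 + 1) * (X * X) := by rw [pow_succ P (j + 1)]; simp only [mul_assoc]
        _ ≤ P ^ (j + 1 + 1) * X := mulLeftLe hXX _
  obtain ⟨m', rfl⟩ : ∃ m', m = m' + 1 := ⟨m - 1, by omega⟩
  refine isUnipotentOn_iff.2 ⟨(n' + 1) * (m' + 1), by positivity, le_bot_iff.1 ?_⟩
  calc augSpan (K ⊔ L) ^ ((n' + 1) * (m' + 1)) ≤ (I ⊔ Q) ^ ((n' + 1) * (m' + 1)) := pow_le_pow_left' hle _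
    _ = ((I ⊔ Q) ^ (n' + 1)) ^ (m' + 1) := pow_mul _ _ _
    _ ≤ I ^ (m' + 1) := pow_le_pow_left' h2 _
    _ ≤ P ^ (m' + 1) * X := h3 m'
    _ = ⊥ := by rw [hm, Submodule.bot_mul]

/-- Inside a unipotent group, a family of members not exhausting the members has a further member
normalising it. -/
theorem exists_member_normalizing {R : Subgroup (LinearMap.GeneralLinearGroup k M)} (hR : IsUnipotentOn R)
    {U I : Set (Subgroup (LinearMap.GeneralLinearGroup k M))} (hUR : ∀ A ∈ U, A ≤ R)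
    (hconj : ∀ A ∈ U, ∀ g ∈ R, conjBy A g ∈ U) (hIU : I ⊆ U)
    (hsat : ∀ A ∈ U, A ≤ (⨆ B ∈ I, B) → A ∈ I) (hne : ∃ A ∈ U, A ∉ I) :
    ∃ A ∈ U, A ∉ I ∧ A ≤ Subgroup.normalizer ((⨆ B ∈ I, B : Subgroup _) : Set _) := by
  classical
  set K := ⨆ B ∈ I, B with hKdef
  have hKR : K ≤ R := iSup₂_le fun B hB => hUR B (hIU hB)
  obtain ⟨n, hn0, hn⟩ := isUnipotentOn_iff.1 hR
  -- the congruence levels
  let D : ℕ → Set (LinearMap.GeneralLinearGroup k M) := fun i =>
    {x | x ∈ R ∧ (x : Module.End k M) - 1 ∈ augSpan R ^ (i + 1)}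
  have hD : ∀ i, ∀ x ∈ D i, ∀ y ∈ R, x * y * x⁻¹ * y⁻¹ ∈ D (i + 1) := by
    intro i x hx y hy
    refine ⟨mul_mem (mul_mem (mul_mem hx.1 hy) (inv_mem hx.1)) (inv_mem hy), ?_⟩
    set X := (x : Module.End k M) - 1 with hXdef
    set Y := (y : Module.End k M) - 1 with hYdef
    have e : ((x * y * x⁻¹ * y⁻¹ : LinearMap.GeneralLinearGroup k M) : Module.End k M) - 1 =
        (X * Y - Y * X) * ((x⁻¹ * y⁻¹ : LinearMap.GeneralLinearGroup k M) : Module.End k M) := by
      have h1 : ((x : Module.End k M) * y - (y : Module.End k M) * x) *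
          ((x⁻¹ * y⁻¹ : LinearMap.GeneralLinearGroup k M) : Module.End k M) =
          ((x * y * x⁻¹ * y⁻¹ : LinearMap.GeneralLinearGroup k M) : Module.End k M) - 1 := by
        rw [sub_mul, ← Units.val_mul, ← Units.val_mul, ← Units.val_mul, ← Units.val_mul,
          show y * x * (x⁻¹ * y⁻¹) = 1 by group, Units.val_one, ← mul_assoc (x * y)]
      rw [← h1, hXdef, hYdef]
      noncomm_ring
    rw [e]
    have h2 : X * Y - Y * X ∈ augSpan R ^ (i + 1 + 1) := by
      refine sub_mem ?_ ?_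
      · rw [pow_succ]; exact Submodule.mul_mem_mul hx.2 (sub_one_mem_augSpan hy)
      · rw [pow_succ']; exact Submodule.mul_mem_mul (sub_one_mem_augSpan hy) hx.2
    set z : Module.End k M := ((x⁻¹ * y⁻¹ : LinearMap.GeneralLinearGroup k M) : Module.End k M) with hzdef
    have h3 : (X * Y - Y * X) * (z - 1) ∈ augSpan R ^ (i + 1 + 1) * augSpan R :=
      Submodule.mul_mem_mul h2 (sub_one_mem_augSpan (mul_mem (inv_mem hx.1) (inv_mem hy)))
    have h4 : augSpan R ^ (i + 1 + 1) * augSpan R ≤ augSpan R ^ (i + 1 + 1) := by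
      rw [pow_succ _ (i + 1), mul_assoc]
      exact mulLeftLe augSpan_mul_self _
    have := add_mem (h4 h3) h2
    rwa [mul_sub, mul_one, sub_add_cancel] at this
  let E : ℕ → Subgroup (LinearMap.GeneralLinearGroup k M) := fun i =>
    Subgroup.closure ((K : Set _) ∪ D i)
  have hER : ∀ i, E i ≤ R := fun i =>
    (Subgroup.closure_le R).2 (by rintro x (hx | hx); exacts [hKR hx, hx.1])
  have hE0 : ∀ A ∈ U, A ≤ E 0 := fun A hA a ha =>
    Subgroup.subset_closure (Or.inr ⟨hUR A hA ha, by rw [pow_one]; exact sub_one_mem_augSpan (hUR A hA ha)⟩)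
  have hEn : ∀ i, n ≤ i + 1 → E i ≤ K := by
    intro i hi
    refine (Subgroup.closure_le K).2 ?_
    rintro x (hx | hx)
    · exact hx
    · have h0 : augSpan R ^ (i + 1) = ⊥ := by
        rw [← Nat.sub_add_cancel hi, pow_add, hn, Submodule.mul_bot]
      have h1 := hx.2
      rw [h0, Submodule.mem_bot, sub_eq_zero] at h1
      rw [SetLike.mem_coe, show x = 1 from Units.ext h1]
      exact one_mem _
  -- the largest level containing a new member
  have hex : ∃ i, ∀ A ∈ U, A ∉ I → ¬ A ≤ E i :=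
    ⟨n, fun A hA hAI hle => hAI (hsat A hA (hle.trans (hEn n (Nat.le_succ n))))⟩
  obtain ⟨A₀, hA₀, hA₀I⟩ := hne
  have hpos : Nat.find hex ≠ 0 := fun h0 => by
    have := Nat.find_spec hex A₀ hA₀ hA₀I
    rw [h0] at this
    exact this (hE0 A₀ hA₀)
  obtain ⟨i, hi⟩ : ∃ i, Nat.find hex = i + 1 := ⟨Nat.find hex - 1, by omega⟩
  have hmin := Nat.find_min hex (show i < Nat.find hex by omega)
  push Not at hmin
  obtain ⟨A, hA, hAI, hAE⟩ := hmin
  refine ⟨A, hA, hAI, ?_⟩
  have hnorm : E i ≤ Subgroup.normalizer (E (i + 1) : Set _) := by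
    have key : ∀ x ∈ (K : Set _) ∪ D i, ∀ y ∈ E (i + 1), x * y * x⁻¹ ∈ E (i + 1) := by
      intro x hx y hy
      rcases hx with hx | hx
      · exact mul_mem (mul_mem (Subgroup.subset_closure (Or.inl hx)) hy)
          (inv_mem (Subgroup.subset_closure (Or.inl hx)))
      · rw [show x * y * x⁻¹ = (x * y * x⁻¹ * y⁻¹) * y by group]
        exact mul_mem (Subgroup.subset_closure (Or.inr (hD i x hx y (hER _ hy)))) hy
    have hinv : ∀ x ∈ (K : Set _) ∪ D i, x⁻¹ ∈ (K : Set _) ∪ D i := by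
      rintro x (hx | hx)
      · exact Or.inl (K.inv_mem hx)
      · refine Or.inr ⟨R.inv_mem hx.1, ?_⟩
        have e : ((x⁻¹ : LinearMap.GeneralLinearGroup k M) : Module.End k M) - 1 =
            -(((x : Module.End k M) - 1) * ((x⁻¹ : LinearMap.GeneralLinearGroup k M) : Module.End k M)) := by
          rw [sub_mul, Units.mul_inv, one_mul, neg_sub]
        rw [e]
        refine neg_mem ?_
        have h3 : ((x : Module.End k M) - 1) *
            (((x⁻¹ : LinearMap.GeneralLinearGroup k M) : Module.End k M) - 1) ∈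
              augSpan R ^ (i + 1) * augSpan R :=
          Submodule.mul_mem_mul hx.2 (sub_one_mem_augSpan (R.inv_mem hx.1))
        have h4 : augSpan R ^ (i + 1) * augSpan R ≤ augSpan R ^ (i + 1) := by
          rw [pow_succ _ i, mul_assoc]
          exact mulLeftLe augSpan_mul_self _
        have := add_mem (h4 h3) hx.2
        rwa [mul_sub, mul_one, sub_add_cancel] at this
    refine (Subgroup.closure_le _).2 fun x hx => Subgroup.mem_normalizer_iff.2 fun y => ⟨key x hx y, fun h => ?_⟩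
    have := key x⁻¹ (hinv x hx) _ h
    simpa [mul_assoc] using this
  intro a ha
  have hconj' : ∀ x ∈ A, ∀ B ∈ I, conjBy B x ∈ I := by
    intro x hx B hB
    refine Classical.byContradiction fun hBI => ?_
    refine (hi ▸ Nat.find_spec hex) (conjBy B x) (hconj B (hIU hB) x (hUR A hA hx)) hBI ?_
    rintro _ ⟨b, hb, rfl⟩
    exact (Subgroup.mem_normalizer_iff.1 (hnorm (hAE hx)) b).1
      (Subgroup.subset_closure (Or.inl (le_biSup id hB hb)))
  have hK : ∀ x ∈ A, conjBy K x ≤ K := by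
    intro x hx
    simp only [hKdef, conjBy, Subgroup.map_iSup]
    exact iSup₂_le fun B hB => le_iSup₂_of_le (conjBy B x) (hconj' x hx B hB) le_rfl
  refine Subgroup.mem_normalizer_iff.2 fun y => ⟨fun hy => hK a ha ⟨y, hy, rfl⟩, fun hy => ?_⟩
  have := hK a⁻¹ (inv_mem ha) ⟨_, hy, rfl⟩
  simpa [mul_assoc] using this

variable [FiniteDimensional k M]

/-- Baer's lemma for unipotent pairs. -/
theorem isUnipotentOn_iSup {G : Subgroup (LinearMap.GeneralLinearGroup k M)}
    {W : Set (Subgroup (LinearMap.GeneralLinearGroup k M))} (hWG : ∀ A ∈ W, A ≤ G)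
    (hWW : ∀ A ∈ W, ∀ B ∈ W, IsUnipotentOn (A ⊔ B))
    (hWconj : ∀ A ∈ W, ∀ g ∈ G, conjBy A g ∈ W) : IsUnipotentOn (⨆ A ∈ W, A) := by
  classical
  let J : Set (Subgroup (LinearMap.GeneralLinearGroup k M)) → Subgroup (LinearMap.GeneralLinearGroup k M) :=
    fun U => ⨆ A ∈ U, A
  let Good : Set (Subgroup (LinearMap.GeneralLinearGroup k M)) → Prop := fun U =>
    U ⊆ W ∧ IsUnipotentOn (J U)
  let Maxl : Set (Subgroup (LinearMap.GeneralLinearGroup k M)) → Prop := fun U =>
    Good U ∧ ∀ A ∈ W, augSpan A ≤ augSpan (J U) → A ∈ U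
  have hsat : ∀ {U}, Maxl U → ∀ A ∈ W, A ≤ J U → A ∈ U := fun hU A hA h =>
    hU.2 A hA (augSpan_mono h)
  have hext : ∀ U, Good U → ∃ U', U ⊆ U' ∧ Maxl U' ∧
      ∀ U'', U' ⊆ U'' → Good U'' → U'' = U' := by
    intro U hU
    let S : Set ℕ := {d | ∃ V, U ⊆ V ∧ Good V ∧ Module.finrank k (augSpan (J V)) = d}
    have hb : BddAbove S := ⟨Module.finrank k (Module.End k M), by
      rintro _ ⟨V, -, -, rfl⟩; exact Submodule.finrank_le _⟩
    obtain ⟨V, hUV, hV, hd⟩ := Nat.sSup_mem (s := S) ⟨_, U, subset_rfl, hU, rfl⟩ hb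
    set U' := {A | A ∈ W ∧ augSpan A ≤ augSpan (J V)} with hU'
    have hVU' : V ⊆ U' := fun A hA => ⟨hV.1 hA, augSpan_mono (le_biSup id hA)⟩
    have hle : augSpan (J U') ≤ augSpan (J V) := iSup_augSpan_le augSpan_mul_self fun A hA => hA.2
    have hG' : Good U' := ⟨fun A hA => hA.1, isUnipotentOn_of_le hle hV.2⟩
    refine ⟨U', hUV.trans hVU', ⟨hG', fun A hA h => ⟨hA, h.trans hle⟩⟩, fun U'' h1 h2 => ?_⟩
    refine Set.Subset.antisymm (fun A hA => ⟨h2.1 hA, ?_⟩) h1
    have h3 : augSpan (J V) ≤ augSpan (J U'') := augSpan_mono (biSup_mono (hVU'.trans h1))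
    have h4 : Module.finrank k (augSpan (J U'')) ≤ Module.finrank k (augSpan (J V)) :=
      hd ▸ le_csSup hb ⟨U'', (hUV.trans hVU').trans h1, h2, rfl⟩
    rw [Submodule.eq_of_le_of_finrank_le h3 h4]
    exact augSpan_mono (le_biSup id hA)
  have hmaxsub : ∀ {U}, Maxl U → ∀ A ∈ W, IsUnipotentOn (J U ⊔ A) → A ∈ U ∨
      ∃ U', Maxl U' ∧ U ⊆ U' ∧ U ≠ U' := by
    intro U hU A hA hu
    by_cases hAU : A ∈ U
    · exact Or.inl hAU
    obtain ⟨U', h1, h2, -⟩ := hext (insert A U) ⟨Set.insert_subset hA hU.1.1,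
      isUnipotentOn_of_le (augSpan_mono (iSup₂_le fun B hB => by
        rcases hB with rfl | hB
        exacts [le_sup_right, (le_biSup id hB).trans le_sup_left])) hu⟩
    exact Or.inr ⟨U', h2, (Set.subset_insert A U).trans h1, fun e => hAU (e ▸ h1 (Set.mem_insert A U))⟩
  -- maximal families
  let Top : Set (Subgroup (LinearMap.GeneralLinearGroup k M)) → Prop := fun U =>
    Maxl U ∧ ∀ U', U ⊆ U' → Good U' → U' = U
  have hextT : ∀ U, Good U → ∃ U', U ⊆ U' ∧ Top U' := fun U hU => by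
    obtain ⟨U', h1, h2, h3⟩ := hext U hU
    exact ⟨U', h1, h2, h3⟩
  by_cases huniq : ∀ U V, Top U → Top V → U = V
  · obtain ⟨U, -, hU⟩ := hextT ∅ ⟨Set.empty_subset W, isUnipotentOn_iff.2 ⟨1, one_pos, by
      rw [pow_one, augSpan, Submodule.span_eq_bot]
      rintro _ ⟨g, hg, rfl⟩
      have : g = 1 := by simpa [J] using hg
      simp [this]⟩⟩
    have hWU : W ⊆ U := fun A hA => by
      obtain ⟨V, hAV, hV⟩ := hextT {A} ⟨Set.singleton_subset_iff.2 hA, by
        simpa [J] using hWW A hA A hA⟩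
      exact huniq V U hV hU ▸ hAV rfl
    exact isUnipotentOn_of_le (augSpan_mono (biSup_mono hWU)) hU.1.1.2
  exfalso
  push Not at huniq
  obtain ⟨U₀, V₀, hU₀, hV₀, hne₀⟩ := huniq
  let S : Set ℕ := {d | ∃ U V, Top U ∧ Top V ∧ U ≠ V ∧ Module.finrank k (augSpan (J (U ∩ V))) = d}
  have hb : BddAbove S := ⟨Module.finrank k (Module.End k M), by
    rintro _ ⟨U, V, -, -, -, rfl⟩; exact Submodule.finrank_le _⟩
  obtain ⟨U₁, U₂, h1, h2, hne, hd⟩ :=
    Nat.sSup_mem (s := S) ⟨_, U₀, V₀, hU₀, hV₀, hne₀, rfl⟩ hb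
  set I := U₁ ∩ U₂ with hI
  have hIsat : ∀ {U}, Top U → I ⊆ U → ∀ A ∈ U, A ≤ J I → A ∈ I := by
    intro U hU hIU A hA hle
    exact ⟨hsat h1.1 A (hU.1.1.1 hA) (hle.trans (biSup_mono Set.inter_subset_left)),
      hsat h2.1 A (hU.1.1.1 hA) (hle.trans (biSup_mono Set.inter_subset_right))⟩
  have hout : ∀ {U}, Top U → ∀ {V}, Top V → U ≠ V → I = U ∩ V →
      ∃ A ∈ U, A ∉ I ∧ A ≤ Subgroup.normalizer (J I : Set _) := by
    intro U hU V hV hUV hIe
    refine exists_member_normalizing hU.1.1.2 (fun A hA => le_biSup id hA) ?_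
      (hIe ▸ Set.inter_subset_left) (hIsat hU (hIe ▸ Set.inter_subset_left)) ?_
    · intro A hA g hg
      refine hsat hU.1 _ (hWconj A (hU.1.1.1 hA) g ?_) ?_
      · exact (iSup₂_le fun B hB => hWG B (hU.1.1.1 hB)) hg
      · rintro _ ⟨a, ha, rfl⟩
        exact mul_mem (mul_mem hg (le_biSup id hA ha)) (inv_mem hg)
    · by_contra hc
      push Not at hc
      have hsub : U ⊆ V := fun A hA => (hIe ▸ hc A hA : A ∈ U ∩ V).2
      exact hUV (hU.2 V hsub hV.1.1).symm
  obtain ⟨A, hA, hAI, hAn⟩ := hout h1 h2 hne rfl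
  obtain ⟨B, hB, hBI, hBn⟩ := hout h2 h1 hne.symm (Set.inter_comm _ _)
  have hun : IsUnipotentOn (J I ⊔ (A ⊔ B)) := isUnipotentOn_sup
    (isUnipotentOn_of_le (augSpan_mono (biSup_mono Set.inter_subset_left)) h1.1.1.2)
    (hWW A (h1.1.1.1 hA) B (h2.1.1.1 hB)) (sup_le hAn hBn)
  obtain ⟨U₃, h3sub, h3⟩ := hextT (insert A (insert B I)) ⟨Set.insert_subset (h1.1.1.1 hA)
      (Set.insert_subset (h2.1.1.1 hB) (Set.inter_subset_left.trans h1.1.1.1)),
    isUnipotentOn_of_le (augSpan_mono (iSup₂_le fun C hC => by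
      rcases hC with rfl | rfl | hC
      exacts [le_sup_left.trans le_sup_right, le_sup_right.trans le_sup_right,
        (le_biSup id hC).trans le_sup_left])) hun⟩
  have hne13 : U₁ ≠ U₃ := fun e =>
    hBI ⟨e ▸ h3sub (Or.inr (Or.inl rfl)), hB⟩
  have hle : augSpan (J I) ≤ augSpan (J (U₁ ∩ U₃)) := augSpan_mono (biSup_mono fun C hC =>
    ⟨hC.1, h3sub (Or.inr (Or.inr hC))⟩)
  have heq := Submodule.eq_of_le_of_finrank_le hle (hd ▸ le_csSup hb ⟨U₁, U₃, h1, h3, hne13, rfl⟩)
  refine hAI ⟨hA, h2.1.2 A (h1.1.1.1 hA) ?_⟩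
  calc augSpan A ≤ augSpan (J (U₁ ∩ U₃)) :=
        augSpan_mono (le_biSup id (show A ∈ U₁ ∩ U₃ from ⟨hA, h3sub (Or.inl rfl)⟩))
    _ = augSpan (J I) := heq.symm
    _ ≤ augSpan (J U₂) := augSpan_mono (biSup_mono Set.inter_subset_right)

end Cfsg.Agent.RootLib
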