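import Cfsg.Agent.Lib.Root.SetsMore

/-!
Commutators of joins, and nilpotency from a central chain given on generators.
-/

set_option autoImplicit false

namespace Cfsg.Agent.RootLib

open Cfsg

variable {G : Type*} [Group G]

/-- Commutators with a join lie in a normalised subgroup as soon as those with the parts do. -/
theorem comm_sup_le {P₁ P₂ Q L : Subgroup G} (n₁ : P₁ ≤ Subgroup.normalizer (L : Set G))
    (n₂ : P₂ ≤ Subgroup.normalizer (L : Set G)) (h₁ : ⁅P₁, Q⁆ ≤ L) (h₂ : ⁅P₂, Q⁆ ≤ L) :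
    ⁅P₁ ⊔ P₂, Q⁆ ≤ L := by
  let T : Subgroup G :=
    { carrier := {x | x ∈ Subgroup.normalizer (L : Set G) ∧ ∀ q ∈ Q, x * q * x⁻¹ * q⁻¹ ∈ L}
      one_mem' := ⟨one_mem _, fun q _ => by simp⟩
      mul_mem' := fun {x y} hx hy => ⟨mul_mem hx.1 hy.1, fun q hq => by
        rw [show x * y * q * (x * y)⁻¹ * q⁻¹ = x * (y * q * y⁻¹ * q⁻¹) * x⁻¹ * (x * q * x⁻¹ * q⁻¹) by group]
        exact mul_mem ((Subgroup.mem_normalizer_iff.1 hx.1 _).1 (hy.2 q hq)) (hx.2 q hq)⟩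
      inv_mem' := fun {x} hx => ⟨inv_mem hx.1, fun q hq => by
        rw [show x⁻¹ * q * x⁻¹⁻¹ * q⁻¹ = x⁻¹ * (x * q * x⁻¹ * q⁻¹)⁻¹ * x⁻¹⁻¹ by group]
        exact (Subgroup.mem_normalizer_iff.1 (inv_mem hx.1) _).1 (inv_mem (hx.2 q hq))⟩ }
  have hle : P₁ ⊔ P₂ ≤ T := sup_le
    (fun x hx => ⟨n₁ hx, fun q hq => h₁ (Subgroup.commutator_mem_commutator hx hq)⟩)
    (fun x hx => ⟨n₂ hx, fun q hq => h₂ (Subgroup.commutator_mem_commutator hx hq)⟩)
  rw [Subgroup.commutator_le]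
  exact fun x hx q hq => (hle hx).2 q hq

theorem le_normalizer_of_comm {P L : Subgroup G} (h : ⁅L, P⁆ ≤ L) :
    P ≤ Subgroup.normalizer (L : Set G) := by
  have key : ∀ g ∈ P, ∀ u ∈ L, g * u * g⁻¹ ∈ L := fun g hg u hu => by
    have h1 := h (Subgroup.commutator_mem_commutator hu hg)
    have h2 : g * u * g⁻¹ = (u * g * u⁻¹ * g⁻¹)⁻¹ * u := by group
    rw [h2]
    exact mul_mem (inv_mem h1) hu
  intro g hg
  rw [Subgroup.mem_normalizer_iff]
  exact fun u => ⟨key g hg u, fun hu => by simpa [mul_assoc] using key g⁻¹ (inv_mem hg) _ hu⟩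

/-- A chain reaching `⊥` in four steps gives nilpotency. -/
theorem isNilpotent_of_chain {R L₁ L₂ L₃ : Subgroup G} (h₁ : ⁅R, R⁆ ≤ L₁) (h₂ : ⁅L₁, R⁆ ≤ L₂)
    (h₃ : ⁅L₂, R⁆ ≤ L₃) (h₄ : ⁅L₃, R⁆ = ⊥) : Group.IsNilpotent ↥R := by
  rw [Subgroup.nilpotent_iff_lowerCentralSeries]
  have step : ∀ (n : ℕ) (L L' : Subgroup G),
      ((⊤ : Subgroup ↥R).lowerCentralSeries n).map R.subtype ≤ L → ⁅L, R⁆ ≤ L' →
      ((⊤ : Subgroup ↥R).lowerCentralSeries (n + 1)).map R.subtype ≤ L' := by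
    intro n L L' hn hL
    rw [Subgroup.lowerCentralSeries_succ, Subgroup.map_commutator, ← MonoidHom.range_eq_map,
      Subgroup.range_subtype]
    exact (Subgroup.commutator_mono hn le_rfl).trans hL
  have h0 : ((⊤ : Subgroup ↥R).lowerCentralSeries 0).map R.subtype ≤ R := by
    rw [Subgroup.lowerCentralSeries_zero, ← MonoidHom.range_eq_map, Subgroup.range_subtype]
  refine ⟨4, ?_⟩
  have := step 3 _ ⊥ (step 2 _ _ (step 1 _ _ (step 0 _ _ h0 h₁) h₂) h₃) h₄.le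
  exact (Subgroup.map_eq_bot_iff_of_injective _ R.subtype_injective).1 (le_bot_iff.1 this)

end Cfsg.Agent.RootLib
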