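import Cfsg.Agent.Lib.Root.SLTwo
import Cfsg.Agent.Lib.Root.SetsMore

/-!
Tools for examples of abstract root subgroups: rank one pairs from homomorphic copies of `SL₂`,
commutator cases from a commutator formula.
-/

set_option autoImplicit false

namespace Cfsg.Agent.RootLib

open Cfsg

variable {G : Type*} [Group G]

theorem rankOneCondition_map {X : Type*} [Group X] {φ : X →* G} (hφ : Function.Injective φ)
    {P Q : Subgroup X} (h : RankOneCondition P Q) : RankOneCondition (P.map φ) (Q.map φ) := by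
  rintro _ ⟨a, ha, rfl⟩ ha1
  obtain ⟨b, hb, hb1, e⟩ := h a ha fun e => ha1 (by rw [e, map_one])
  refine ⟨φ b, Subgroup.mem_map_of_mem φ hb, fun e' => hb1 (hφ (e'.trans (map_one φ).symm)), ?_⟩
  rw [← map_inv, ← map_inv, ← map_conjBy, ← map_conjBy, e]

theorem isRankOnePair_map {X : Type*} [Group X] {φ : X →* G} (hφ : Function.Injective φ)
    {P Q : Subgroup X} (h : IsRankOnePair P Q) : IsRankOnePair (P.map φ) (Q.map φ) := by
  refine ⟨fun e => h.ne (Subgroup.map_injective hφ e), ?_, ?_, rankOneCondition_map hφ h.cond_left,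
    rankOneCondition_map hφ h.cond_right⟩
  · haveI := h.nilpotent_left
    exact Group.nilpotent_of_mulEquiv (P.equivMapOfInjective φ hφ)
  · haveI := h.nilpotent_right
    exact Group.nilpotent_of_mulEquiv (Q.equivMapOfInjective φ hφ)

/-- An injective copy of `SL₂` gives a rank one pair of `k`-root subgroups. -/
theorem pair_of_hom {k : Type*} [Field k] (φ : Matrix.SpecialLinearGroup (Fin 2) k →* G)
    (hφ : Function.Injective φ) {A B : Subgroup G} (hu : (upperUnipotentSL2 k).map φ = A)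
    (hl : (lowerUnipotentSL2 k).map φ = B) : IsRankOnePair A B ∧ IsPSL2PairOver k A B := by
  refine ⟨hu ▸ hl ▸ isRankOnePair_map hφ (RankOnePair_symm rankOne_sl_two.1.2), φ, ?_, ?_, hu, hl⟩
  · rw [← hu, ← hl, ← Subgroup.map_sup, sup_comm, sl_two_sup, MonoidHom.range_eq_map]
  · rw [(MonoidHom.ker_eq_bot_iff φ).2 hφ]
    exact bot_le

/-- The commutator case from a commutator formula. -/
theorem case_of_formula {S : Set (Subgroup G)} {A B C : Subgroup G} (hC : C ∈ S) (hA : A ≠ ⊥)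
    (hcm : ∀ a ∈ A, ∀ b ∈ B, a * b * a⁻¹ * b⁻¹ ∈ C)
    (hcA : ∀ z ∈ C, ∀ a ∈ A, z * a = a * z) (hcB : ∀ z ∈ C, ∀ b ∈ B, z * b = b * z)
    (hl : ∀ a ∈ A, a ≠ 1 → ∀ z ∈ C, ∃ b ∈ B, a * b * a⁻¹ * b⁻¹ = z)
    (hr : ∀ b ∈ B, b ≠ 1 → ∀ z ∈ C, ∃ a ∈ A, a * b * a⁻¹ * b⁻¹ = z) :
    RootCommutatorCase S A B := by
  have hle : ⁅A, B⁆ ≤ C := by
    rw [Subgroup.commutator_le]
    intro a ha b hb
    rw [commutatorElement_def]
    exact hcm a ha b hb
  have hge : ∀ {a}, a ∈ A → a ≠ 1 →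
      Subgroup.closure ((fun b : G => a * b * a⁻¹ * b⁻¹) '' (B : Set G)) = C := by
    intro a ha ha1
    refine le_antisymm ((Subgroup.closure_le C).2 ?_) fun z hz => ?_
    · rintro _ ⟨b, hb, rfl⟩
      exact hcm a ha b hb
    · obtain ⟨b, hb, e⟩ := hl a ha ha1 z hz
      exact Subgroup.subset_closure ⟨b, hb, e⟩
  obtain ⟨⟨a₀, ha₀⟩, ha₀1⟩ := A.ne_bot_iff_exists_ne_one.1 hA
  have heq : ⁅A, B⁆ = C := by
    refine le_antisymm hle ?_
    rw [← hge ha₀ (fun e => ha₀1 (Subtype.ext e)), Subgroup.closure_le]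
    rintro _ ⟨b, hb, rfl⟩
    exact Subgroup.commutator_mem_commutator ha₀ hb
  rw [RootCommutatorCase, heq]
  refine ⟨hC, fun z hz x hx => ?_, fun a ha ha1 => hge ha ha1, fun b hb hb1 => ?_⟩
  · have hle' : A ⊔ B ≤ Subgroup.centralizer {z} :=
      sup_le (fun a ha => Subgroup.mem_centralizer_singleton_iff.2 (hcA z hz a ha).symm)
        (fun b hb => Subgroup.mem_centralizer_singleton_iff.2 (hcB z hz b hb).symm)
    exact (Subgroup.mem_centralizer_singleton_iff.1 (hle' hx)).symm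
  · refine le_antisymm ((Subgroup.closure_le C).2 ?_) fun z hz => ?_
    · rintro _ ⟨a, ha, rfl⟩
      exact hcm a ha b hb
    · obtain ⟨a, ha, e⟩ := hr b hb hb1 z hz
      exact Subgroup.subset_closure ⟨a, ha, e⟩

end Cfsg.Agent.RootLib
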