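import Cfsg.Agent.Lib.Root.RankOne

/-!
`SL₂(k)` with its unitriangular subgroups as a rank one group.
-/

set_option autoImplicit false

namespace Cfsg.Agent.RootLib

open Cfsg Matrix

variable {k : Type*} [Field k]

/-- The upper unitriangular element. -/
def uEl (t : k) : Matrix.SpecialLinearGroup (Fin 2) k := ⟨!![1, t; 0, 1], by simp [Matrix.det_fin_two_of]⟩

/-- The lower unitriangular element. -/
def lEl (t : k) : Matrix.SpecialLinearGroup (Fin 2) k := ⟨!![1, 0; t, 1], by simp [Matrix.det_fin_two_of]⟩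

@[simp] theorem uEl_val (t : k) :
    ((uEl t : Matrix.SpecialLinearGroup (Fin 2) k) : Matrix (Fin 2) (Fin 2) k) = !![1, t; 0, 1] := rfl

@[simp] theorem lEl_val (t : k) :
    ((lEl t : Matrix.SpecialLinearGroup (Fin 2) k) : Matrix (Fin 2) (Fin 2) k) = !![1, 0; t, 1] := rfl

theorem uEl_mul (s t : k) : uEl s * uEl t = uEl (s + t) := by
  apply Subtype.ext
  ext i j
  fin_cases i <;> fin_cases j <;> simp [Matrix.mul_apply, Fin.sum_univ_two, add_comm]

theorem lEl_mul (s t : k) : lEl s * lEl t = lEl (s + t) := by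
  apply Subtype.ext
  ext i j
  fin_cases i <;> fin_cases j <;> simp [Matrix.mul_apply, Fin.sum_univ_two, add_comm]

theorem uEl_zero : uEl (0 : k) = 1 := by
  apply Subtype.ext
  ext i j
  fin_cases i <;> fin_cases j <;> simp

theorem lEl_zero : lEl (0 : k) = 1 := by
  apply Subtype.ext
  ext i j
  fin_cases i <;> fin_cases j <;> simp

theorem uEl_inv (t : k) : (uEl t)⁻¹ = uEl (-t) :=
  inv_eq_of_mul_eq_one_right (by rw [uEl_mul, add_neg_cancel, uEl_zero])

theorem lEl_inv (t : k) : (lEl t)⁻¹ = lEl (-t) :=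
  inv_eq_of_mul_eq_one_right (by rw [lEl_mul, add_neg_cancel, lEl_zero])

theorem mem_upper {g : Matrix.SpecialLinearGroup (Fin 2) k} :
    g ∈ upperUnipotentSL2 k ↔ ∃ t, g = uEl t := by
  constructor
  · intro h
    induction h using Subgroup.closure_induction with
    | mem x hx =>
      obtain ⟨h1, h2, h3⟩ := hx
      refine ⟨(x : Matrix (Fin 2) (Fin 2) k) 0 1, Subtype.ext ?_⟩
      ext i j
      fin_cases i <;> fin_cases j <;> simp [h1, h2, h3]
    | one => exact ⟨0, uEl_zero.symm⟩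
    | mul x y _ _ hx hy =>
      obtain ⟨s, rfl⟩ := hx
      obtain ⟨t, rfl⟩ := hy
      exact ⟨s + t, uEl_mul s t⟩
    | inv x _ hx =>
      obtain ⟨s, rfl⟩ := hx
      exact ⟨-s, uEl_inv s⟩
  · rintro ⟨t, rfl⟩
    exact Subgroup.subset_closure ⟨by simp, by simp, by simp⟩

theorem mem_lower {g : Matrix.SpecialLinearGroup (Fin 2) k} :
    g ∈ lowerUnipotentSL2 k ↔ ∃ t, g = lEl t := by
  constructor
  · intro h
    induction h using Subgroup.closure_induction with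
    | mem x hx =>
      obtain ⟨h1, h2, h3⟩ := hx
      refine ⟨(x : Matrix (Fin 2) (Fin 2) k) 1 0, Subtype.ext ?_⟩
      ext i j
      fin_cases i <;> fin_cases j <;> simp [h1, h2, h3]
    | one => exact ⟨0, lEl_zero.symm⟩
    | mul x y _ _ hx hy =>
      obtain ⟨s, rfl⟩ := hx
      obtain ⟨t, rfl⟩ := hy
      exact ⟨s + t, lEl_mul s t⟩
    | inv x _ hx =>
      obtain ⟨s, rfl⟩ := hx
      exact ⟨-s, lEl_inv s⟩
  · rintro ⟨t, rfl⟩
    exact Subgroup.subset_closure ⟨by simp, by simp, by simp⟩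

theorem uEl_lEl_conj {s : k} (hs : s ≠ 0) (x : k) :
    uEl (-s⁻¹) * lEl x * uEl s⁻¹ = lEl (-s) * uEl (-x / s ^ 2) * lEl s := by
  apply Subtype.ext
  ext i j
  fin_cases i <;> fin_cases j <;>
    simp [Matrix.mul_apply, Fin.sum_univ_two] <;> field_simp <;> ring

theorem conj_lower_upper {s : k} (hs : s ≠ 0) :
    conjBy (lowerUnipotentSL2 k) (uEl s⁻¹)⁻¹ = conjBy (upperUnipotentSL2 k) (lEl s)⁻¹ := by
  ext g
  rw [mem_conjBy, mem_conjBy, inv_inv, inv_inv, mem_lower, mem_upper]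
  constructor
  · rintro ⟨x, hx⟩
    refine ⟨-x / s ^ 2, ?_⟩
    have hg : g = uEl (-s⁻¹) * lEl x * uEl s⁻¹ := by rw [← hx, ← uEl_inv]; group
    rw [hg, uEl_lEl_conj hs, ← lEl_inv]
    group
  · rintro ⟨y, hy⟩
    refine ⟨-y * s ^ 2, ?_⟩
    have hg : g = lEl (-s) * uEl y * lEl s := by rw [← hy, ← lEl_inv]; group
    have e : -(-y * s ^ 2) / s ^ 2 = y := by field_simp
    rw [hg, ← e, ← uEl_lEl_conj hs, e, ← uEl_inv]
    group

theorem sl_two_sup : lowerUnipotentSL2 k ⊔ upperUnipotentSL2 k = ⊤ := by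
  have hu : ∀ t : k, uEl t ∈ lowerUnipotentSL2 k ⊔ upperUnipotentSL2 k := fun t =>
    Subgroup.mem_sup_right (mem_upper.2 ⟨t, rfl⟩)
  have hl : ∀ t : k, lEl t ∈ lowerUnipotentSL2 k ⊔ upperUnipotentSL2 k := fun t =>
    Subgroup.mem_sup_left (mem_lower.2 ⟨t, rfl⟩)
  have key : ∀ g : Matrix.SpecialLinearGroup (Fin 2) k, (g : Matrix (Fin 2) (Fin 2) k) 1 0 ≠ 0 →
      g ∈ lowerUnipotentSL2 k ⊔ upperUnipotentSL2 k := by
    intro g hc
    have hdet : (g : Matrix (Fin 2) (Fin 2) k).det = 1 := g.2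
    rw [Matrix.det_fin_two] at hdet
    set a := (g : Matrix (Fin 2) (Fin 2) k) 0 0 with ha
    set b := (g : Matrix (Fin 2) (Fin 2) k) 0 1 with hb
    set c := (g : Matrix (Fin 2) (Fin 2) k) 1 0 with hc'
    set d := (g : Matrix (Fin 2) (Fin 2) k) 1 1 with hd
    have e : g = uEl ((a - 1) / c) * lEl c * uEl ((d - 1) / c) := by
      apply Subtype.ext
      ext i j
      fin_cases i <;> fin_cases j <;>
        simp [Matrix.mul_apply, Fin.sum_univ_two, ← ha, ← hb, ← hc', ← hd] <;> field_simp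
      · ring
      · linear_combination -hdet
      · ring
    rw [e]
    exact mul_mem (mul_mem (hu _) (hl _)) (hu _)
  refine top_le_iff.1 fun g _ => ?_
  by_cases hc : (g : Matrix (Fin 2) (Fin 2) k) 1 0 = 0
  · have hdet : (g : Matrix (Fin 2) (Fin 2) k).det = 1 := g.2
    rw [Matrix.det_fin_two, hc, mul_zero, sub_zero] at hdet
    have hd : (g : Matrix (Fin 2) (Fin 2) k) 1 1 ≠ 0 := fun e => by simp [e] at hdet
    have h1 := key (g * lEl 1) (by simp [Matrix.mul_apply, Fin.sum_univ_two, hc, hd])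
    simpa using mul_mem h1 (inv_mem (hl 1))
  · exact key g hc

theorem rankOne_sl_two :
    IsRankOneGroup (Matrix.SpecialLinearGroup (Fin 2) k) (lowerUnipotentSL2 k) (upperUnipotentSL2 k) ∧
      IsSpecialRankOnePair (lowerUnipotentSL2 k) (upperUnipotentSL2 k) ∧
      HasAbelianUnipotents (lowerUnipotentSL2 k) (upperUnipotentSL2 k) := by
  have hA : IsMulCommutative (lowerUnipotentSL2 k) := ⟨⟨fun x y => by
    obtain ⟨s, hs⟩ := mem_lower.1 x.2
    obtain ⟨t, ht⟩ := mem_lower.1 y.2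
    apply Subtype.ext
    show (x : Matrix.SpecialLinearGroup (Fin 2) k) * y = y * x
    rw [hs, ht, lEl_mul, lEl_mul, add_comm]⟩⟩
  have hB : IsMulCommutative (upperUnipotentSL2 k) := ⟨⟨fun x y => by
    obtain ⟨s, hs⟩ := mem_upper.1 x.2
    obtain ⟨t, ht⟩ := mem_upper.1 y.2
    apply Subtype.ext
    show (x : Matrix.SpecialLinearGroup (Fin 2) k) * y = y * x
    rw [hs, ht, uEl_mul, uEl_mul, add_comm]⟩⟩
  have hne : lowerUnipotentSL2 k ≠ upperUnipotentSL2 k := by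
    intro e
    obtain ⟨t, ht⟩ := mem_upper.1 (e ▸ mem_lower.2 ⟨1, rfl⟩)
    have := congrArg (fun g : Matrix.SpecialLinearGroup (Fin 2) k => (g : Matrix (Fin 2) (Fin 2) k) 1 0) ht
    simp [lEl] at this
  have hu0 : ∀ {t : k}, t ≠ 0 → uEl t ≠ 1 := fun {t} ht e => ht (by
    have := congrArg (fun g : Matrix.SpecialLinearGroup (Fin 2) k => (g : Matrix (Fin 2) (Fin 2) k) 0 1) e
    simpa using this)
  have hl0 : ∀ {t : k}, t ≠ 0 → lEl t ≠ 1 := fun {t} ht e => ht (by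
    have := congrArg (fun g : Matrix.SpecialLinearGroup (Fin 2) k => (g : Matrix (Fin 2) (Fin 2) k) 1 0) e
    simpa using this)
  have hpair : IsRankOnePair (lowerUnipotentSL2 k) (upperUnipotentSL2 k) := by
    have hn : ∀ P : Subgroup (Matrix.SpecialLinearGroup (Fin 2) k), IsMulCommutative P → Group.IsNilpotent P :=
      fun P hP => Subgroup.isNilpotent_of_lowerCentralSeries_eq_bot (n := 1) (bracket_eq_bot_iff.2
        fun x hx y hy => congrArg Subtype.val (hP.is_comm.comm ⟨x, hx⟩ ⟨y, hy⟩))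
    refine ⟨hne, hn _ hA, hn _ hB, ?_, ?_⟩
    · intro a ha ha1
      obtain ⟨s, rfl⟩ := mem_lower.1 ha
      have hs : s ≠ 0 := fun e => ha1 (by rw [e, lEl_zero])
      exact ⟨uEl s⁻¹, mem_upper.2 ⟨_, rfl⟩, hu0 (inv_ne_zero hs), conj_lower_upper hs⟩
    · intro b hb hb1
      obtain ⟨t, rfl⟩ := mem_upper.1 hb
      have ht : t ≠ 0 := fun e => hb1 (by rw [e, uEl_zero])
      refine ⟨lEl t⁻¹, mem_lower.2 ⟨_, rfl⟩, hl0 (inv_ne_zero ht), ?_⟩
      rw [← conj_lower_upper (inv_ne_zero ht), inv_inv]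
  refine ⟨⟨sl_two_sup, hpair⟩, ⟨hpair, fun a ha ha1 b hb _ he => ?_⟩, hA, hB⟩
  obtain ⟨s, rfl⟩ := mem_lower.1 ha
  have hs : s ≠ 0 := fun e => ha1 (by rw [e, lEl_zero])
  have hb' := eq_of_conjBy_eq (RankOnePair_symm hpair) (inv_mem hb) (inv_mem (mem_upper.2 ⟨s⁻¹, rfl⟩))
    (he.trans (conj_lower_upper hs).symm)
  rw [_root_.inv_inj] at hb'
  rw [hb', uEl_inv, uEl_lEl_conj hs, lEl_inv]
  congr 2
  field_simp

end Cfsg.Agent.RootLib
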