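import Cfsg.Agent.Lib.Root.Simple
import Cfsg.Agent.Lib.Root.SLTwo
import Cfsg.Agent.S5032

/-!
Classes of abstract transvection groups: a rank one pair with a member commuting with exactly one side
is special; translations between members with equal sets of commuting partners.
-/

set_option autoImplicit false

namespace Cfsg.Agent.RootLib

open Cfsg

variable {G : Type*} [Group G] {S : Set (Subgroup G)}

/-- The subgroup generated by the commuting partners of `P`. -/
def partnersSup (S : Set (Subgroup G)) (P : Subgroup G) : Subgroup G :=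
  ⨆ M ∈ commutingPartners S P, M

theorem mem_partnersSup {P M : Subgroup G} (h : M ∈ commutingPartners S P) {x : G} (hx : x ∈ M) :
    x ∈ partnersSup S P :=
  le_iSup₂ (f := fun M (_ : M ∈ commutingPartners S P) => M) M h hx

theorem partnersSup_congr {P Q : Subgroup G}
    (h : commutingPartners S P = commutingPartners S Q) : partnersSup S P = partnersSup S Q := by
  rw [partnersSup, partnersSup, h]

theorem partnersSup_commute {P : Subgroup G} {k p : G} (hk : k ∈ partnersSup S P) (hp : p ∈ P) :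
    k * p = p * k := by
  have hle : partnersSup S P ≤ Subgroup.centralizer {p} := iSup₂_le fun M hM m hm =>
    Subgroup.mem_centralizer_singleton_iff.2 (bracket_eq_bot_iff.1 hM.2.2 p hp m hm).symm
  exact Subgroup.mem_centralizer_singleton_iff.1 (hle hk)

theorem partnersSup_fix {P : Subgroup G} {k : G} (hk : k ∈ partnersSup S P) : conjBy P k = P :=
  conjBy_eq_of_commute fun _ hp => partnersSup_commute hk hp

theorem bracket_conj_bot {A B : Subgroup G} (g : G) (h : ⁅A, B⁆ = ⊥) :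
    ⁅conjBy A g, conjBy B g⁆ = ⊥ := by
  show ⁅A.map _, B.map _⁆ = ⊥
  rw [← Subgroup.map_commutator, h, Subgroup.map_bot]

theorem commutingPartners_conj (hS : IsRootSubgroupSet S) {P M : Subgroup G} (g : G)
    (h : M ∈ commutingPartners S P) : conjBy M g ∈ commutingPartners S (conjBy P g) :=
  ⟨hS.conj_mem M h.1 g, conjBy_ne h.2.1 g, bracket_conj_bot g h.2.2⟩

theorem partners_conj_congr (hS : IsRootSubgroupSet S) {P Q : Subgroup G}
    (h : commutingPartners S P = commutingPartners S Q) (g : G) :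
    commutingPartners S (conjBy P g) = commutingPartners S (conjBy Q g) := by
  have key : ∀ P Q : Subgroup G, commutingPartners S P = commutingPartners S Q →
      ∀ M ∈ commutingPartners S (conjBy P g), M ∈ commutingPartners S (conjBy Q g) := by
    intro P Q h M hM
    have h1 := commutingPartners_conj hS g⁻¹ hM
    rw [conjBy_inv_cancel, h] at h1
    simpa [conjBy_cancel_inv] using commutingPartners_conj hS g h1
  exact Set.ext fun M => ⟨key P Q h M, key Q P h.symm M⟩

theorem partnersSup_conj (hS : IsRootSubgroupSet S) {P : Subgroup G} {k : G} (g : G)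
    (hk : k ∈ partnersSup S P) : g * k * g⁻¹ ∈ partnersSup S (conjBy P g) := by
  have hle : partnersSup S P ≤ (partnersSup S (conjBy P g)).comap (MulAut.conj g).toMonoidHom :=
    iSup₂_le fun M hM m hm =>
      mem_partnersSup (commutingPartners_conj hS g hM) (conjBy_mem_conjBy hm)
  exact hle hk

/-- `C` is a member commuting with `A` and forming, like `A`, a rank one pair with `B`. -/
structure GoodTriple (S : Set (Subgroup G)) (A B C : Subgroup G) : Prop where
  memA : A ∈ S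
  memB : B ∈ S
  pair : IsRankOnePair A B
  part : C ∈ commutingPartners S A
  third : IsRankOnePair C B

theorem good_aux (hS : IsRootSubgroupSet S) {A B C : Subgroup G} (h : GoodTriple S A B C) {a b c : G}
    (ha : a ∈ A) (hb : b ∈ B) (hc : c ∈ C) (ea : conjBy A b = conjBy B a)
    (ec : conjBy C b = conjBy B c) :
    conjBy B (a⁻¹ * c) ∈ commutingPartners S B ∧
      conjBy A (b⁻¹ * ((a⁻¹ * c) * b * (a⁻¹ * c)⁻¹)) = C := by
  obtain ⟨hC, hCA, hAC⟩ := h.part
  have hac : ∀ x ∈ A, ∀ y ∈ C, x * y = y * x := bracket_eq_bot_iff.1 hAC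
  have hua : ∀ x ∈ A, (a⁻¹ * c) * x = x * (a⁻¹ * c) := fun x hx =>
    ((show Commute a⁻¹ x from root_comm hS h.memA (inv_mem ha) hx).mul_left
      (show Commute c x from (hac x hx c hc).symm)).eq
  have huB : conjBy B (a⁻¹ * c) = conjBy C (a⁻¹ * b) := by
    rw [← conjBy_conjBy, ← ec, conjBy_conjBy]
  have hBA : B = conjBy A (a⁻¹ * b) := by rw [← conjBy_conjBy, ea, conjBy_inv_cancel]
  refine ⟨⟨hS.conj_mem B h.memB _, fun e => ?_, ?_⟩, ?_⟩
  · refine conjBy_ne hCA (a⁻¹ * b) ?_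
    rw [← huB, e]
    exact hBA
  · rw [huB]
    nth_rewrite 1 [hBA]
    exact bracket_conj_bot _ hAC
  · have hu' : (a⁻¹ * c) * a = c := by rw [hua a ha]; group
    rw [← conjBy_conjBy, ← conjBy_conjBy, ← conjBy_conjBy,
      conjBy_eq_of_commute (g := (a⁻¹ * c)⁻¹)
        (fun x hx => ((show Commute (a⁻¹ * c) x from hua x hx).inv_left).eq),
      ea, conjBy_conjBy _ (a⁻¹ * c) a, hu', ← ec, conjBy_inv_cancel]

/-- A rank one pair with a member commuting with exactly one side is special. -/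
theorem GoodTriple.special (hS : IsRootSubgroupSet S) {A B C : Subgroup G} (h : GoodTriple S A B C) :
    SpecialPair A B := by
  obtain ⟨hC, hCA, hAC⟩ := h.part
  refine ⟨h.pair, fun x hx y hy => root_comm hS h.memA hx hy,
    fun x hx y hy => root_comm hS h.memB hx hy, fun a' b p => ?_⟩
  obtain ⟨ha', hb, -, hb1, he⟩ := p
  obtain ⟨a, rfl⟩ : ∃ a, a' = a⁻¹ := ⟨a'⁻¹, (inv_inv _).symm⟩
  have ha : a ∈ A := inv_mem_iff.1 ha'
  rw [inv_inv] at he
  obtain ⟨c₀, hc₀, -, hc₀e⟩ := h.third.cond_right b⁻¹ (inv_mem hb) (inv_ne_one.2 hb1)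
  rw [inv_inv] at hc₀e
  have hc : c₀⁻¹ ∈ C := inv_mem hc₀
  obtain ⟨hkB, hvA⟩ := good_aux hS h ha hb hc he hc₀e.symm
  obtain ⟨c, hcdef⟩ : ∃ c, c = c₀⁻¹ := ⟨_, rfl⟩
  rw [← hcdef] at hkB hvA hc hc₀e
  obtain ⟨u, hu⟩ : ∃ u, u = a⁻¹ * c := ⟨_, rfl⟩
  rw [← hu] at hkB hvA
  obtain ⟨v, hv⟩ : ∃ v, v = b⁻¹ * (u * b * u⁻¹) := ⟨_, rfl⟩
  rw [← hv] at hvA
  have hvc : ∀ x ∈ B, v * x = x * v := fun x hx => by
    rw [hv]
    exact ((show Commute b⁻¹ x from root_comm hS h.memB (inv_mem hb) hx).mul_left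
      (show Commute (u * b * u⁻¹) x from
        (bracket_eq_bot_iff.1 hkB.2.2 x hx _ (conjBy_mem_conjBy hb)).symm)).eq
  have hac : ∀ y ∈ C, a * y = y * a := bracket_eq_bot_iff.1 hAC a ha
  have hau : a * u = u * a := by rw [hu, mul_inv_cancel_left, mul_assoc, ← hac c hc, inv_mul_cancel_left]
  have hcv : v * a * v⁻¹ = c := by
    refine eq_of_conjBy_eq h.third (hvA ▸ conjBy_mem_conjBy ha) hc ?_
    rw [hc₀e, ← hvA, conjBy_conjBy A b v,
      show v * a * v⁻¹ = (v * a) * v⁻¹ from rfl, ← conjBy_conjBy B (v * a) v⁻¹,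
      conjBy_eq_of_commute (g := v⁻¹) (fun x hx => ((show Commute v x from hvc x hx).inv_left).eq),
      ← conjBy_conjBy B v a, ← he, conjBy_conjBy, hvc b hb]
  have hva : a⁻¹ * v * a = u * v := by rw [hu, ← hcv]; group
  have hbv : u * b * u⁻¹ * b⁻¹ = v := by
    calc u * b * u⁻¹ * b⁻¹ = b * v * b⁻¹ := by rw [hv]; group
      _ = v := by rw [← hvc b hb, mul_inv_cancel_right]
  have hub : b * u * b⁻¹ = v⁻¹ * u := by rw [← hbv]; group
  have hub' : b⁻¹ * u * b = v * u := by rw [hv]; group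
  have hau' : a⁻¹ * u * a = u := by rw [mul_assoc, ← hau, inv_mul_cancel_left]
  obtain ⟨x₁, hx₁⟩ : ∃ x, x = b * a⁻¹ * b⁻¹ := ⟨_, rfl⟩
  obtain ⟨x₂, hx₂⟩ : ∃ x, x = a * b * a⁻¹ := ⟨_, rfl⟩
  have h1 : x₁ * u * x₁⁻¹ = v⁻¹ * u * u := by
    calc x₁ * u * x₁⁻¹ = b * (a⁻¹ * (b⁻¹ * u * b) * a) * b⁻¹ := by rw [hx₁]; group
      _ = b * ((a⁻¹ * v * a) * (a⁻¹ * u * a)) * b⁻¹ := by rw [hub']; group
      _ = (b * u * b⁻¹) * (b * v * b⁻¹) * (b * u * b⁻¹) := by rw [hva, hau']; group
      _ = _ := by rw [hub, ← hvc b hb, mul_inv_cancel_right]; group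
  have h2 : x₂ * u * x₂⁻¹ = v⁻¹ * u * u := by
    have e1 : u = v * a * v⁻¹ * a⁻¹ := by
      rw [hcv, hu]
      exact (show Commute a c from hac c hc).inv_left.eq
    calc x₂ * u * x₂⁻¹ = a * (b * (a⁻¹ * u * a) * b⁻¹) * a⁻¹ := by rw [hx₂]; group
      _ = a * v⁻¹ * (u * a⁻¹) := by rw [hau', hub]; group
      _ = a * v⁻¹ * a⁻¹ * u := by
        rw [show u * a⁻¹ = a⁻¹ * u by rw [eq_inv_mul_iff_mul_eq, ← mul_assoc, hau, mul_inv_cancel_right]]
        group
      _ = _ := by nth_rewrite 2 [e1]; group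
  have hcom : (x₁⁻¹ * x₂) * u = u * (x₁⁻¹ * x₂) := by
    have := h2.trans h1.symm
    calc (x₁⁻¹ * x₂) * u = x₁⁻¹ * (x₂ * u * x₂⁻¹) * x₂ := by group
      _ = _ := by rw [this]; group
  have hmem : x₁⁻¹ * x₂ ∈ conjBy B a := by
    refine mul_mem (inv_mem ?_) ?_
    · rw [hx₁, ← he]; exact conjBy_mem_conjBy (inv_mem ha)
    · rw [hx₂]; exact conjBy_mem_conjBy hb
  obtain ⟨β, hβ, hβe⟩ : ∃ β ∈ B, x₁⁻¹ * x₂ = a * β * a⁻¹ :=
    ⟨a⁻¹ * (x₁⁻¹ * x₂) * a, mem_conjBy.1 hmem, by group⟩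
  have hx : x₁ = x₂ := by
    by_contra hne
    have hβ1 : β ≠ 1 := fun e => hne (by
      rw [e, mul_one, mul_inv_cancel] at hβe
      exact inv_mul_eq_one.1 hβe)
    have hβu : β ∈ conjBy B u := by
      rw [mem_conjBy]
      have hcu : Commute (a⁻¹ * (x₁⁻¹ * x₂) * a) u := by
        have ha' : Commute a u := hau
        exact (ha'.inv_left.mul_left hcom).mul_left ha'
      have e : a⁻¹ * (x₁⁻¹ * x₂) * a = β := by rw [hβe]; group
      rw [e] at hcu
      rw [mul_assoc, hcu.eq, inv_mul_cancel_left]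
      exact hβ
    exact hkB.2.1 (eq_of_inter hS h.memB hkB.1 h.memA (RankOnePair_symm h.pair) hβ hβu hβ1)
  have e : b * a⁻¹ * b⁻¹ = a * b * a⁻¹ := by rw [← hx₁, ← hx₂, hx]
  calc a⁻¹ * b * a⁻¹ = a⁻¹ * (b * a⁻¹ * b⁻¹) * b := by group
    _ = a⁻¹ * (a * b * a⁻¹) * b := by rw [e]
    _ = b * a⁻¹ * b := by group

theorem cases_partners (hS : IsRootSubgroupSet S) (hdeg : IsDegenerateRootSet S) {P Q : Subgroup G}
    (hP : P ∈ S) (hQ : Q ∈ S) (hne : Q ≠ P) :
    Q ∈ commutingPartners S P ∨ IsRankOnePair P Q := by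
  rcases hS.pair P hP Q hQ with h | h | h
  · exact Or.inl ⟨hQ, hne, h⟩
  · exact Or.inr h
  · exact absurd h (hdeg P hP Q hQ)

/-- Without a member commuting with one side only, both sides have the same commuting partners. -/
theorem partners_eq (hS : IsRootSubgroupSet S) (hdeg : IsDegenerateRootSet S) {P Q : Subgroup G}
    (hP : P ∈ S) (hQ : Q ∈ S) (hPQ : IsRankOnePair P Q) (hno : ∀ C, ¬ GoodTriple S P Q C) :
    commutingPartners S P = commutingPartners S Q := by
  have hsub : ∀ C ∈ commutingPartners S P, C ∈ commutingPartners S Q := by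
    intro C hC
    have hne : C ≠ Q := fun e => bracket_ne_bot hPQ (e ▸ hC.2.2)
    rcases cases_partners hS hdeg hQ hC.1 hne with h | h
    · exact h
    · exact absurd ⟨hP, hQ, hPQ, hC, RankOnePair_symm h⟩ (hno C)
  refine Set.Subset.antisymm hsub fun C hC => ?_
  obtain ⟨x, hx, hxe⟩ := exists_conjBy_eq hPQ
  have h1 : conjBy C x⁻¹ ∈ commutingPartners S P := by
    have := commutingPartners_conj hS x⁻¹ hC
    rwa [← hxe, conjBy_inv_cancel] at this
  have hle : P ⊔ Q ≤ Subgroup.centralizer (conjBy C x⁻¹ : Set G) :=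
    sup_le (Subgroup.commutator_eq_bot_iff_le_centralizer.1 h1.2.2)
      (Subgroup.commutator_eq_bot_iff_le_centralizer.1 (hsub _ h1).2.2)
  have hfix : conjBy (conjBy C x⁻¹) x = conjBy C x⁻¹ := conjBy_eq_of_commute fun y hy =>
    (Subgroup.mem_centralizer_iff.1 (hle hx) y hy).symm
  rw [conjBy_cancel_inv] at hfix
  rw [hfix]
  exact h1

theorem exists_good (hS : IsRootSubgroupClass S) (hdeg : IsDegenerateRootSet S)
    (hcomm : ∃ A ∈ S, ∃ C ∈ S, A ≠ C ∧ ⁅A, C⁆ = ⊥) {A B : Subgroup G} (hA : A ∈ S) (hB : B ∈ S)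
    (hAB : IsRankOnePair A B) : ∃ B' C', GoodTriple S A B' C' := by
  obtain ⟨A₀, hA₀, C₀, hC₀, hne, h0⟩ := hcomm
  have hedge : ∃ P Q C, GoodTriple S P Q C := by
    by_contra hno
    push Not at hno
    have hconn := (S5032.result hS.1 ⟨A, hA, B, hB, hAB.ne⟩).2
      ⟨hS.2, A, hA, fun hi => (hi.2 B).1 ⟨hA, hB, hAB⟩⟩
    have hall : ∀ Q, Relation.ReflTransGen (FAdj S) A₀ Q →
        commutingPartners S A₀ = commutingPartners S Q := by
      intro Q hQ
      induction hQ with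
      | refl => rfl
      | tail _ h ih => exact ih.trans (partners_eq hS.1 hdeg h.1 h.2.1 h.2.2 (hno _ _))
    have hmem : C₀ ∈ commutingPartners S A₀ := ⟨hC₀, Ne.symm hne, h0⟩
    rw [hall C₀ (hconn A₀ hA₀ C₀ hC₀)] at hmem
    exact hmem.2.1 rfl
  obtain ⟨P, Q, C, h⟩ := hedge
  obtain ⟨g, rfl⟩ := hS.2.2 P h.memA A hA
  exact ⟨conjBy Q g, conjBy C g, hA, hS.1.conj_mem Q h.memB g, isRankOnePair_conj h.pair g,
    commutingPartners_conj hS.1 g h.part, isRankOnePair_conj h.third g⟩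

namespace GoodTriple

variable {A B C : Subgroup G} (h : GoodTriple S A B C)
include h

theorem partners_ne : commutingPartners S A ≠ commutingPartners S B := fun e =>
  bracket_ne_bot h.third (by
    have := h.part
    rw [e] at this
    exact bracket_eq_bot_symm this.2.2)

theorem exists_symm (hS : IsRootSubgroupSet S) (hdeg : IsDegenerateRootSet S) :
    ∃ C', GoodTriple S B A C' := by
  by_contra hno
  push Not at hno
  exact h.partners_ne (partners_eq hS hdeg h.memB h.memA (RankOnePair_symm h.pair) hno).symm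

/-- Members with the commuting partners of `A` are translates of `A` under partners of `B`. -/
theorem translate (hS : IsRootSubgroupSet S) (hdeg : IsDegenerateRootSet S) {P : Subgroup G}
    (hP : P ∈ S) (hPA : commutingPartners S P = commutingPartners S A) :
    ∃ z ∈ partnersSup S B, conjBy A z = P := by
  have hCP : C ∈ commutingPartners S P := hPA ▸ h.part
  have hPB : IsRankOnePair P B := by
    have hne : B ≠ P := fun e => bracket_ne_bot h.third (by
      rw [← e] at hCP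
      exact bracket_eq_bot_symm hCP.2.2)
    refine (cases_partners hS hdeg hP h.memB hne).resolve_left fun e => ?_
    rw [hPA] at e
    exact bracket_ne_bot h.pair e.2.2
  have hflip : ∀ {P : Subgroup G}, P ∈ S → IsRankOnePair P B → C ∈ commutingPartners S P →
      GoodTriple S C B P := fun hP hPB hCP =>
    ⟨hCP.1, h.memB, h.third, ⟨hP, hCP.2.1.symm, bracket_eq_bot_symm hCP.2.2⟩, hPB⟩
  obtain ⟨b, hb, hb1⟩ := exists_ne_one_of_mem hS h.memB
  have hk : ∀ {P : Subgroup G}, P ∈ S → IsRankOnePair P B → C ∈ commutingPartners S P →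
      ∃ k ∈ partnersSup S B, conjBy C (b⁻¹ * k) = P := by
    intro P hP hPB hCP
    obtain ⟨a, ha, -, ea⟩ := h.third.cond_right b⁻¹ (inv_mem hb) (inv_ne_one.2 hb1)
    obtain ⟨c, hc, -, ec⟩ := hPB.cond_right b⁻¹ (inv_mem hb) (inv_ne_one.2 hb1)
    rw [inv_inv] at ea ec
    obtain ⟨h1, h2⟩ := good_aux hS (hflip hP hPB hCP) (inv_mem ha) hb (inv_mem hc) ea.symm ec.symm
    exact ⟨_, mem_partnersSup h1 (conjBy_mem_conjBy hb), h2⟩
  obtain ⟨k, hk1, hk2⟩ := hk h.memA h.pair h.part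
  obtain ⟨l, hl1, hl2⟩ := hk hP hPB hCP
  refine ⟨l * k⁻¹, mul_mem hl1 (inv_mem hk1), ?_⟩
  rw [← hk2, conjBy_conjBy, ← hl2]
  congr 1
  rw [← partnersSup_commute hk1 (inv_mem hb), ← mul_assoc, inv_mul_cancel_right,
    partnersSup_commute hl1 (inv_mem hb)]

/-- Elements of the partners of `B` moving `A` inside its class fix all blocks. -/
theorem blocks (hS : IsRootSubgroupSet S) {z : G} (hz : z ∈ partnersSup S B)
    (hzA : commutingPartners S (conjBy A z) = commutingPartners S A) {a : G} (ha : a ∈ A) :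
    commutingPartners S (conjBy B (z * a)) = commutingPartners S (conjBy B a) := by
  by_cases ha1 : a = 1
  · rw [ha1, mul_one, partnersSup_fix hz, conjBy_one]
  obtain ⟨b, hb, -, he⟩ := h.pair.cond_left a⁻¹ (inv_mem ha) (inv_ne_one.2 ha1)
  rw [inv_inv] at he
  rw [← conjBy_conjBy, ← he, conjBy_conjBy, partnersSup_commute hz (inv_mem hb), ← conjBy_conjBy]
  exact partners_conj_congr hS hzA b⁻¹

theorem block_inj (hS : IsRootSubgroupSet S) {a : G} (ha : a ∈ A)
    (he : commutingPartners S (conjBy B a) = commutingPartners S B) : a = 1 := by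
  by_contra ha1
  obtain ⟨b, hb, -, heb⟩ := h.pair.cond_left a⁻¹ (inv_mem ha) (inv_ne_one.2 ha1)
  rw [inv_inv] at heb
  rw [← heb] at he
  apply h.partners_ne
  have := partners_conj_congr hS he b
  rwa [conjBy_cancel_inv, conjBy_eq_self_of_mem hb] at this

theorem block_inj₂ (hS : IsRootSubgroupSet S) {a a' : G} (ha : a ∈ A) (ha' : a' ∈ A)
    (he : commutingPartners S (conjBy B a) = commutingPartners S (conjBy B a')) : a = a' := by
  have h1 := partners_conj_congr hS he a'⁻¹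
  rw [conjBy_conjBy, conjBy_inv_cancel] at h1
  exact (inv_mul_eq_one.1 (h.block_inj hS (mul_mem (inv_mem ha') ha) h1)).symm

end GoodTriple

/-- `g` acts on the blocks `a' B a'⁻¹` as the translation by `a`. -/
def ActsAs (S : Set (Subgroup G)) (A B : Subgroup G) (g a : G) : Prop :=
  a ∈ A ∧ ∀ a' ∈ A, commutingPartners S (conjBy B (g * a')) = commutingPartners S (conjBy B (a * a'))

theorem ActsAs.mul (hS : IsRootSubgroupSet S) {A B : Subgroup G} {g g' a a' : G}
    (h : ActsAs S A B g a) (h' : ActsAs S A B g' a') : ActsAs S A B (g * g') (a * a') := by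
  refine ⟨mul_mem h.1 h'.1, fun x hx => ?_⟩
  rw [mul_assoc, ← conjBy_conjBy, partners_conj_congr hS (h'.2 x hx) g, conjBy_conjBy,
    h.2 _ (mul_mem h'.1 hx), mul_assoc]

theorem ActsAs.inv (hS : IsRootSubgroupSet S) {A B : Subgroup G} {g a : G}
    (h : ActsAs S A B g a) : ActsAs S A B g⁻¹ a⁻¹ := by
  refine ⟨inv_mem h.1, fun x hx => ?_⟩
  have h1 := partners_conj_congr hS (h.2 _ (mul_mem (inv_mem h.1) hx)) g⁻¹
  rw [conjBy_conjBy, conjBy_conjBy, inv_mul_cancel_left, mul_inv_cancel_left] at h1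
  exact h1.symm

theorem actsAs_self {A B : Subgroup G} {a : G} (ha : a ∈ A) : ActsAs S A B a a := ⟨ha, fun _ _ => rfl⟩

theorem actsAs_one_of_partners (hS : IsRootSubgroupSet S) {A B C : Subgroup G}
    (h : GoodTriple S A B C) {z : G} (hz : z ∈ partnersSup S B)
    (hzA : commutingPartners S (conjBy A z) = commutingPartners S A) : ActsAs S A B z 1 :=
  ⟨one_mem _, fun x hx => by rw [one_mul]; exact h.blocks hS hz hzA hx⟩

/-- A second partner of `A` with the commuting partners of `A`: the rank one group of that pair has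
derived subgroup meeting `A` trivially. -/
theorem GoodTriple.commutator_inf (hS : IsRootSubgroupSet S) (hdeg : IsDegenerateRootSet S)
    {A B' C B : Subgroup G} (h : GoodTriple S A B' C) (hB : B ∈ S)
    (hSig : commutingPartners S B = commutingPartners S A) {x : G} (hxA : x ∈ A)
    (hx : x ∈ ⁅A ⊔ B, A ⊔ B⁆) : x = 1 := by
  obtain ⟨z, hz, hzA⟩ := h.translate hS hdeg hB hSig
  have hz1 := actsAs_one_of_partners hS h hz (by rw [hzA, hSig])
  let Γ : Subgroup G :=
    { carrier := {g | ∃ a, ActsAs S A B' g a}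
      one_mem' := ⟨1, actsAs_self (one_mem _)⟩
      mul_mem' := fun ⟨a, ha⟩ ⟨b, hb⟩ => ⟨a * b, ha.mul hS hb⟩
      inv_mem' := fun ⟨a, ha⟩ => ⟨a⁻¹, ha.inv hS⟩ }
  let K : Subgroup G :=
    { carrier := {g | ActsAs S A B' g 1}
      one_mem' := actsAs_self (one_mem _)
      mul_mem' := fun ha hb => by simpa using ha.mul hS hb
      inv_mem' := fun ha => by simpa using ha.inv hS }
  have hle : A ⊔ B ≤ Γ := by
    refine sup_le (fun a ha => ⟨a, actsAs_self ha⟩) fun β hβ => ?_
    rw [← hzA] at hβ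
    refine ⟨1 * (z⁻¹ * β * z) * 1⁻¹, ?_⟩
    have := (hz1.mul hS (actsAs_self (mem_conjBy.1 hβ))).mul hS (hz1.inv hS)
    rwa [show z * (z⁻¹ * β * z) * z⁻¹ = β by group] at this
  have hK : ⁅Γ, Γ⁆ ≤ K := by
    rw [Subgroup.commutator_le]
    rintro g ⟨a, ha⟩ g' ⟨a', ha'⟩
    show ActsAs S A B' _ 1
    have := ((ha.mul hS ha').mul hS (ha.inv hS)).mul hS (ha'.inv hS)
    rwa [root_comm hS h.memA ha.1 ha'.1, mul_inv_cancel_right, mul_inv_cancel] at this
  have h1 : ActsAs S A B' x 1 := hK (Subgroup.commutator_mono hle hle hx)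
  refine h.block_inj hS hxA ?_
  have := h1.2 1 (one_mem _)
  rwa [mul_one, one_mul, conjBy_one] at this

/-- Squares of Weyl elements and cubes of their components act alike on classes. -/
theorem GoodTriple.weyl_rel (hS : IsRootSubgroupSet S) (hdeg : IsDegenerateRootSet S)
    {A B C D : Subgroup G} (h : GoodTriple S A B C) (hD : D ∈ S)
    (hDB : commutingPartners S D = commutingPartners S B) :
    ∃ e : G, ∀ a c, Partner A B a c →
      conjBy B e⁻¹ = conjBy D ((a * c * a * (a * c * a))⁻¹ * c ^ 3) := by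
  have hsp := h.special hS
  obtain ⟨C', h'⟩ := h.exists_symm hS hdeg
  obtain ⟨e, he, heD⟩ := h'.translate hS hdeg hD hDB
  refine ⟨e, fun a c p => ?_⟩
  have ha := p.1
  have hc := p.2.1
  have hcA : conjBy A c = conjBy B a⁻¹ := p.2.2.2.2
  have hPsig : commutingPartners S (conjBy D (c⁻¹ * a⁻¹)) = commutingPartners S A := by
    rw [partners_conj_congr hS hDB, ← conjBy_conjBy, ← hcA, conjBy_inv_cancel]
  obtain ⟨z, hz, hzA⟩ := h.translate hS hdeg (hS.conj_mem D hD (c⁻¹ * a⁻¹)) hPsig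
  have hzA' : commutingPartners S (conjBy A z) = commutingPartners S A := by rw [hzA, hPsig]
  have hzc : z * c = c * z := partnersSup_commute hz hc
  have hazB : conjBy B (a * z * a⁻¹) = D := by
    rw [← conjBy_conjBy, ← hcA, conjBy_conjBy, mul_assoc, hzc, ← mul_assoc, ← conjBy_conjBy, hzA,
      conjBy_conjBy, show a * c * (c⁻¹ * a⁻¹) = 1 by group, conjBy_one]
  obtain ⟨w, hw⟩ : ∃ w, w = e⁻¹ * a * z * a⁻¹ := ⟨_, rfl⟩
  have hwB : conjBy B w = B := by
    rw [hw, mul_assoc, mul_assoc, ← conjBy_conjBy, ← mul_assoc, hazB, ← heD, conjBy_inv_cancel]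
  have haPsig : commutingPartners S (conjBy A (a * z)) = commutingPartners S A := by
    rw [← conjBy_conjBy, partners_conj_congr hS hzA', conjBy_eq_self_of_mem ha]
  have heaP : conjBy (conjBy A (a * z)) e⁻¹ = conjBy A (a * z) :=
    partnersSup_fix (by rw [partnersSup_congr haPsig]; exact inv_mem he)
  have hwA : conjBy A w = conjBy A (a * z) := by
    rw [hw, ← conjBy_conjBy A _ a⁻¹, conjBy_eq_self_of_mem (inv_mem ha), mul_assoc, ← conjBy_conjBy, heaP]
  have hwc : w * c = c * w := by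
    have hmem : w * c * w⁻¹ ∈ B := by
      have := conjBy_mem_conjBy (g := w) hc
      rwa [hwB] at this
    have h1 : commutingPartners S (conjBy A (w * c)) = commutingPartners S (conjBy A (w * c * w⁻¹)) := by
      rw [show w * c = w * c * w⁻¹ * w by group, ← conjBy_conjBy A (w * c * w⁻¹) w, hwA,
        partners_conj_congr hS haPsig, mul_inv_cancel_right]
    have h2 : commutingPartners S (conjBy A (w * c)) = commutingPartners S (conjBy A c) := by
      have e1 : commutingPartners S (conjBy B e⁻¹) = commutingPartners S B := by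
        have := partners_conj_congr hS hDB e⁻¹
        rw [← heD, conjBy_inv_cancel] at this
        exact this.symm
      calc commutingPartners S (conjBy A (w * c))
          = commutingPartners S (conjBy (conjBy B (z * (a⁻¹ * a⁻¹))) (e⁻¹ * a)) := by
            rw [← conjBy_conjBy A w c, hcA, conjBy_conjBy, conjBy_conjBy, hw]
            congr 2
            group
        _ = commutingPartners S (conjBy (conjBy B (a⁻¹ * a⁻¹)) (e⁻¹ * a)) :=
            partners_conj_congr hS (h.blocks hS hz hzA' (mul_mem (inv_mem ha) (inv_mem ha))) _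
        _ = commutingPartners S (conjBy A (e⁻¹ * c)) := by
            rw [← conjBy_conjBy A e⁻¹ c, hcA, conjBy_conjBy, conjBy_conjBy]
            congr 2
            group
        _ = _ := h'.blocks hS (inv_mem he) e1 hc
    exact mul_inv_eq_iff_eq_mul.1 (h'.block_inj₂ hS hmem hc (h1.symm.trans h2))
  obtain ⟨n, hn⟩ : ∃ n, n = a * c * a := ⟨_, rfl⟩
  have hnA : conjBy A n = B := hn ▸ hsp.weyl_A p
  have hnB : conjBy B n = A := hn ▸ hsp.weyl_B p
  -- `n z n⁻¹` commutes with `a`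
  have hnz : n * z * n⁻¹ = a * (c * e * c⁻¹ * w) * a⁻¹ := by
    have e1 : z = a⁻¹ * e * w * a := by rw [hw]; group
    rw [e1, hn]
    calc a * c * a * (a⁻¹ * e * w * a) * (a * c * a)⁻¹
        = a * c * e * (w * c⁻¹) * a⁻¹ := by group
      _ = _ := by
        rw [(show Commute w c from hwc).inv_right.eq]
        group
  have hnzA : conjBy A (n * z * n⁻¹) = A := by
    refine partnersSup_fix (S := S) ?_
    have := partnersSup_conj hS n hz
    rwa [hnB] at this
  have hkey : conjBy A (a * z) = conjBy A (c * e⁻¹ * c⁻¹) := by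
    have h1 : conjBy A (c * e * c⁻¹ * w) = A := by
      have h2 : conjBy A (a * (c * e * c⁻¹ * w)) = A := by
        rw [hnz, ← conjBy_conjBy, conjBy_eq_self_of_mem (inv_mem ha)] at hnzA
        exact hnzA
      rw [← conjBy_conjBy] at h2
      rw [eq_inv_conjBy h2, conjBy_eq_self_of_mem (inv_mem ha)]
    rw [← hwA, show c * e⁻¹ * c⁻¹ = (c * e * c⁻¹)⁻¹ by group]
    rw [← conjBy_conjBy] at h1
    exact eq_inv_conjBy h1
  have e3 : a * c * a = c * a * c := hsp.braid a c p
  have e2 : conjBy A c⁻¹ = conjBy B a := by simpa using (hsp.partner_inv p).2.2.2.2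
  have e4 : conjBy B (c * a * e⁻¹) = conjBy D (a * (c⁻¹ * a⁻¹)) := by
    have ea : a * e⁻¹ = e⁻¹ * a :=
      ((show Commute e a from partnersSup_commute he ha).inv_left).eq.symm
    rw [← conjBy_conjBy D, ← hzA, conjBy_conjBy A, hkey, mul_assoc c, ea, ← mul_assoc, ← conjBy_conjBy,
      ← e2, conjBy_conjBy]
  have hW : a⁻¹ * c⁻¹ * (a * (c⁻¹ * a⁻¹)) = (n * n)⁻¹ * c ^ 3 := by
    have i1 : n⁻¹ * a = c * n⁻¹ := by
      rw [inv_mul_eq_iff_eq_mul, ← mul_assoc, eq_mul_inv_iff_mul_eq]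
      have := hsp.conj_weyl_c p
      rw [← hn, mul_inv_eq_iff_eq_mul] at this
      exact this.symm
    have i2 : n⁻¹ = c⁻¹ * a⁻¹ * c⁻¹ := by rw [hn, e3]; group
    have i3 : Commute (n * n)⁻¹ c := by
      refine Commute.inv_left ?_
      have h1 := hsp.conj_weyl_c p
      have h2 := hsp.conj_weyl_a p
      rw [← hn, mul_inv_eq_iff_eq_mul] at h1 h2
      show n * n * c = c * (n * n)
      rw [mul_assoc, h1, ← mul_assoc, h2, mul_assoc]
    calc a⁻¹ * c⁻¹ * (a * (c⁻¹ * a⁻¹)) = a⁻¹ * c⁻¹ * a⁻¹ * a * a * (c⁻¹ * a⁻¹ * c⁻¹) * c := by group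
      _ = n⁻¹ * a * a * n⁻¹ * c := by rw [← i2, hn]; group
      _ = c * (n⁻¹ * a) * n⁻¹ * c := by nth_rewrite 1 [i1]; group
      _ = c * c * ((n * n)⁻¹ * c) := by rw [i1]; group
      _ = (n * n)⁻¹ * (c * c) * c := by
        rw [← mul_assoc (c * c), (i3.mul_right i3).eq]
      _ = _ := by rw [pow_succ, pow_two]; group
  rw [← hn, ← hW, ← conjBy_conjBy D (a⁻¹ * c⁻¹) (a * (c⁻¹ * a⁻¹)), ← e4, conjBy_conjBy]
  congr 1
  group

/-- With a second partner of `A` having the commuting partners of `A`, elements of `A` have square or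
ninth power one. -/
theorem GoodTriple.exponent (hS : IsRootSubgroupSet S) (hdeg : IsDegenerateRootSet S)
    {A B' C B : Subgroup G} (h : GoodTriple S A B' C) (hB : B ∈ S) (hAB : IsRankOnePair A B)
    (hSig : commutingPartners S B = commutingPartners S A) {a : G} (ha : a ∈ A) (ha1 : a ≠ 1) :
    a ^ 2 = 1 ∨ a ^ 9 = 1 := by
  have hsp := h.special hS
  obtain ⟨c, p⟩ := hsp.exists_partner ha ha1
  have hc := p.2.1
  obtain ⟨n, hn⟩ : ∃ n, n = a * c * a := ⟨_, rfl⟩
  have hna : n * a * n⁻¹ = c := hn ▸ hsp.conj_weyl_a p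
  have hnc : n * c * n⁻¹ = a := hn ▸ hsp.conj_weyl_c p
  by_cases hc2 : c ^ 2 = 1
  · left
    rw [← hnc, conj_pow, hc2, mul_one, mul_inv_cancel]
  right
  obtain ⟨y, py, hy⟩ := hsp.exists_root 2 2 le_rfl one_le_two p fun k hk hk' => by
    have : k = 1 := by
      by_contra hne
      obtain ⟨r, hr, hrk⟩ := Nat.exists_prime_and_dvd hne
      exact absurd (hk' r hr hrk) (not_lt.2 hr.two_le)
    subst this
    exact ⟨by rw [pow_one]; exact p.2.2.2.1, by simpa using hc2⟩
  obtain ⟨y₀, hy₀⟩ : ∃ y₀, y₀ = n * y * n⁻¹ := ⟨_, rfl⟩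
  have hy₀c : y₀ ^ 2 = c := by rw [hy₀, conj_pow, hy, hna]
  have hnA : conjBy A n = B' := hn ▸ hsp.weyl_A p
  have hnB : conjBy B' n = A := hn ▸ hsp.weyl_B p
  have hy₀B : y₀ ∈ B' := by rw [hy₀, ← hnA]; exact conjBy_mem_conjBy py.1
  have hnc2 : n * c ^ 2 * n⁻¹ = a ^ 2 := by rw [← conj_pow, hnc]
  have ha2 : a ^ 2 ≠ 1 := fun e => hc2 (by rwa [← hnc2, conj_eq_one_iff] at e)
  have pa : Partner A B' (a ^ 2) y₀ := by
    have h0 : Partner A B' (a ^ 2)⁻¹ y₀⁻¹ := by
      refine ⟨inv_mem (pow_mem ha 2), inv_mem hy₀B, inv_ne_one.2 ha2, inv_ne_one.2 ?_, ?_⟩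
      · exact fun e => py.2.2.1 (by rwa [hy₀, conj_eq_one_iff] at e)
      · have h1 := congrArg (fun T => conjBy T n) py.2.2.2.2
        simp only [conjBy_conjBy] at h1
        calc conjBy A y₀⁻¹ = conjBy B' (y₀⁻¹ * n) := by rw [← conjBy_conjBy, hnB]
          _ = conjBy B' (n * y⁻¹) := by congr 1; rw [hy₀]; group
          _ = conjBy A (n * c ^ 2) := h1.symm
          _ = conjBy B' (a ^ 2)⁻¹⁻¹ := by
            rw [inv_inv, ← hnc2, ← hnA, conjBy_conjBy, inv_mul_cancel_right]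
    simpa using hsp.partner_inv h0
  obtain ⟨m, hm⟩ : ∃ m, m = y * c ^ 2 * y := ⟨_, rfl⟩
  have hconj : a ^ 2 * y₀ * a ^ 2 = n * m * n⁻¹ := by
    rw [hsp.braid _ _ pa, hm, hy₀, ← hnc2]; group
  have hmy : m * y * m⁻¹ = c ^ 2 := hm ▸ hsp.conj_weyl_a py
  have hmc : m * c ^ 2 * m⁻¹ = y := hm ▸ hsp.conj_weyl_c py
  have hmm : Commute (m * m) a := by
    have h1 : (m * m) * y * (m * m)⁻¹ = y := by
      calc (m * m) * y * (m * m)⁻¹ = m * (m * y * m⁻¹) * m⁻¹ := by group
        _ = y := by rw [hmy, hmc]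
    have h2 : Commute (m * m) y := mul_inv_eq_iff_eq_mul.1 h1
    rw [← hy]
    exact h2.pow_right 2
  have hmA : conjBy A (m * m) = A := by
    rw [← conjBy_conjBy, hm, hsp.weyl_A py, hsp.weyl_B py]
  have hmB : conjBy B' (m * m) = B' := by
    rw [← conjBy_conjBy, hm, hsp.weyl_B py, hsp.weyl_A py]
  have hmc' : m * m * c = c * (m * m) := by
    refine mul_inv_eq_iff_eq_mul.1 (hsp.partner_unique ?_ p)
    refine ⟨ha, by
      have := conjBy_mem_conjBy (g := m * m) hc
      rwa [hmB] at this, ha1, fun e => p.2.2.2.1 (conj_eq_one_iff.1 e), ?_⟩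
    have h1 := congrArg (fun T => conjBy T (m * m)) p.2.2.2.2
    simp only [conjBy_conjBy] at h1
    rw [← conjBy_conjBy, ← conjBy_conjBy, eq_inv_conjBy hmA |>.symm, conjBy_conjBy, h1,
      hmm.inv_right.eq, ← conjBy_conjBy, hmB]
  have hnn : Commute n (m * m) := by
    rw [hn]
    exact ((hmm.mul_right (show Commute (m * m) c from hmc')).mul_right hmm).symm
  have hsq : a ^ 2 * y₀ * a ^ 2 * (a ^ 2 * y₀ * a ^ 2) = m * m := by
    rw [hconj]
    calc n * m * n⁻¹ * (n * m * n⁻¹) = n * (m * m) * n⁻¹ := by group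
      _ = _ := by rw [hnn.eq, mul_inv_cancel_right]
  -- compare on the member `n B n⁻¹`
  have hD : conjBy B n ∈ S := hS.conj_mem B hB n
  have hDB : commutingPartners S (conjBy B n) = commutingPartners S B' := by
    rw [partners_conj_congr hS hSig, hnA]
  obtain ⟨e, he⟩ := h.weyl_rel hS hdeg hD hDB
  have e1 := (he _ _ py).symm.trans (he _ _ pa)
  rw [← hm, hsq] at e1
  have hpair : IsRankOnePair B' (conjBy B n) := hnA ▸ isRankOnePair_conj hAB n
  have e2 : (c ^ 2) ^ 3 = y₀ ^ 3 := by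
    rw [← conjBy_conjBy, ← conjBy_conjBy] at e1
    have e3 := congrArg (fun T => conjBy T (m * m)) e1
    simp only [conjBy_cancel_inv] at e3
    exact eq_of_conjBy_eq hpair (pow_mem (pow_mem hc 2) 3) (pow_mem hy₀B 3) e3
  rw [← pow_mul, ← hy₀c, ← pow_mul] at e2
  have e9 : y₀ ^ 9 = 1 := mul_left_cancel (a := y₀ ^ 3) (by rw [← pow_add, mul_one]; exact e2)
  rw [← hnc, conj_pow, ← hy₀c, ← pow_mul, mul_comm, pow_mul, e9, one_pow, mul_one, mul_inv_cancel]

end Cfsg.Agent.RootLib
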