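import Cfsg.Agent.Lib.Root.Nondeg

/-!
Lines of sets of abstract root subgroups: projection of a line from a rank one partner of one of its points.
-/

set_option autoImplicit false

namespace Cfsg.Agent.RootLib

open Cfsg

variable {G : Type*} [Group G] {S : Set (Subgroup G)}

/-- The triangle of a rank one pair `A, B` and a member `C` commuting with `A` in the commutator case with `B`. -/
theorem proj_facts (hS : IsRootSubgroupSet S) {A B C : Subgroup G} (hA : A ∈ S)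
    (hB : B ∈ S) (hC : C ∈ S) (hAB : IsRankOnePair A B) (hAC : ⁅A, C⁆ = ⊥)
    (hCB : RootCommutatorCase S C B) :
    RootCommutatorCase S ⁅C, B⁆ A ∧
      ∀ e ∈ ⁅⁅C, B⁆, A⁆, (∀ x ∈ C, e * x = x * e) ∧ ∃ c ∈ C, ∀ x ∈ B, (e * c) * x = x * (e * c) := by
  set D := ⁅C, B⁆ with hDdef
  have hDS : D ∈ S := hCB.1
  have hBA := RankOnePair_symm hAB
  have hCA' : ∀ c ∈ C, ∀ x ∈ A, c * x = x * c := fun c hc x hx =>
    (bracket_eq_bot_iff.1 hAC x hx c hc).symm
  have hDC : ∀ d ∈ D, ∀ x ∈ C, d * x = x * d := fun d hd x hx =>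
    hCB.2.1 d hd x (Subgroup.mem_sup_left hx)
  have hDB : ∀ d ∈ D, ∀ x ∈ B, d * x = x * d := fun d hd x hx =>
    hCB.2.1 d hd x (Subgroup.mem_sup_right hx)
  -- for `c ≠ 1` and `b ≠ 1` the commutator is non-trivial
  have hne1 : ∀ c ∈ C, c ≠ 1 → ∀ b ∈ B, b ≠ 1 → c * b * c⁻¹ * b⁻¹ ≠ 1 := fun c hc hc1 b hb hb1 e =>
    hc1 (commutator_inj hS hC hB hA hBA hCB hc hb hb1 (commutatorElement_eq_one_iff_mul_comm.1 e))
  obtain ⟨a₀, ha₀, ha₀1⟩ := exists_ne_one_of_mem hS hA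
  obtain ⟨b₀, hb₀, hb₀1, he⟩ := hAB.cond_left a₀ ha₀ ha₀1
  obtain ⟨c₀, hc₀, hc₀1⟩ := exists_ne_one_of_mem hS hC
  -- `D` does not commute with `A`
  have hDA : ⁅D, A⁆ ≠ ⊥ := by
    intro h0
    have hDA' := bracket_eq_bot_iff.1 h0
    have hk : c₀ * b₀⁻¹ * c₀⁻¹ * b₀ ∈ D := by
      have := commutator_mem hc₀ (inv_mem hb₀)
      rwa [inv_inv] at this
    have e1 : conjBy (conjBy A b₀⁻¹) c₀ = conjBy A b₀⁻¹ := by
      rw [conjBy_conjBy, show c₀ * b₀⁻¹ = (c₀ * b₀⁻¹ * c₀⁻¹ * b₀) * b₀⁻¹ * c₀ by group,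
        ← conjBy_conjBy A _ c₀, conjBy_eq_of_commute (hCA' c₀ hc₀), ← conjBy_conjBy]
      refine conjBy_eq_of_commute fun y hy => ?_
      have hy' := mem_conjBy.1 hy
      rw [inv_inv] at hy'
      have h1 : Commute (c₀ * b₀⁻¹ * c₀⁻¹ * b₀) b₀ := hDB _ hk b₀ hb₀
      have h2 : Commute (c₀ * b₀⁻¹ * c₀⁻¹ * b₀) (b₀ * y * b₀⁻¹) := hDA' _ hk _ hy'
      have := ((h1.inv_right.mul_right h2).mul_right h1).eq
      simpa [mul_assoc] using this
    rw [he, conjBy_conjBy, (hCA' c₀ hc₀ _ (inv_mem ha₀)), ← conjBy_conjBy] at e1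
    have e2 : conjBy B c₀ = B := by
      have := congrArg (fun T => conjBy T a₀) e1
      simp only [conjBy_cancel_inv] at this
      exact this
    have hkB : c₀ * b₀ * c₀⁻¹ * b₀⁻¹ ∈ B := mul_mem (e2 ▸ conjBy_mem_conjBy hb₀) (inv_mem hb₀)
    have e := eq_of_inter hS hB hDS hA hBA hkB (commutator_mem hc₀ hb₀) (hne1 c₀ hc₀ hc₀1 b₀ hb₀ hb₀1)
    exact hS.ne_bot D hDS (bracket_eq_bot_iff.2 fun x hx y hy => (hDC y (e.symm ▸ hy) x hx).symm)
  -- `(D, A)` is in the commutator case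
  have hDAc : RootCommutatorCase S D A := by
    refine ((hS.pair D hDS A hA).resolve_left hDA).resolve_left fun h => ?_
    have hCb : IsRankOnePair (conjBy C b₀) A := by
      set p := b₀ * c₀ * b₀⁻¹ with hp
      have hpm : p ∈ conjBy C b₀ := conjBy_mem_conjBy hc₀
      have hk : b₀ * c₀ * b₀⁻¹ * c₀⁻¹ ∈ D := by
        rw [hDdef, Subgroup.commutator_comm]; exact commutator_mem hb₀ hc₀
      have hpd : p = (b₀ * c₀ * b₀⁻¹ * c₀⁻¹) * c₀ := by rw [hp]; group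
      have hk1 : b₀ * c₀ * b₀⁻¹ * c₀⁻¹ ≠ 1 := fun e => hne1 c₀ hc₀ hc₀1 b₀ hb₀ hb₀1 (by
        rw [show c₀ * b₀ * c₀⁻¹ * b₀⁻¹ = (b₀ * c₀ * b₀⁻¹ * c₀⁻¹)⁻¹ by group, e, inv_one])
      rcases hS.pair _ (hS.conj_mem C hC b₀) A hA with h' | h' | h'
      · exfalso
        refine hDA (bracket_eq_bot_of_commute_left hS hDS hA hk hk1 fun x hx => ?_)
        have h1 := bracket_eq_bot_iff.1 h' p hpm x hx
        rw [hpd] at h1
        have h2 : Commute ((b₀ * c₀ * b₀⁻¹ * c₀⁻¹) * c₀ * c₀⁻¹) x :=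
          Commute.mul_left h1 (Commute.inv_left (hCA' c₀ hc₀ x hx : Commute c₀ x))
        simpa using h2.eq
      · exact h'
      · exfalso
        refine conj_partner_not_commute (RankOnePair_symm (RankOnePair_symm h)) hk hk1
          (bracket_eq_bot_iff.2 fun y hy x hx => ?_)
        obtain ⟨z, hz, rfl⟩ : ∃ z ∈ A, y = (b₀ * c₀ * b₀⁻¹ * c₀⁻¹) * z * (b₀ * c₀ * b₀⁻¹ * c₀⁻¹)⁻¹ :=
          ⟨_, mem_conjBy.1 hy, by group⟩
        have h1 : Commute (p * z * p⁻¹ * z⁻¹) x :=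
          h'.2.1 _ (commutator_mem hpm hz) x (Subgroup.mem_sup_right hx)
        have h2 := Commute.mul_left h1 (root_comm hS hA hz hx : Commute z x)
        rw [inv_mul_cancel_right, hpd, mul_inv_rev,
          show ∀ k : G, k * c₀ * z * (c₀⁻¹ * k⁻¹) = k * (c₀ * z * c₀⁻¹) * k⁻¹ from fun k => by group,
          hCA' c₀ hc₀ z hz, mul_inv_cancel_right] at h2
        exact h2.eq
    have h1 := isRankOnePair_conj hCb b₀⁻¹
    rw [conjBy_inv_cancel, he] at h1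
    have h2 := isRankOnePair_conj h1 a₀
    rw [conjBy_cancel_inv, conjBy_eq_of_commute (fun x hx => (hCA' x hx a₀ ha₀).symm)] at h2
    exact not_case_of_rankOne hS hC hB h2 hCB
  set E := ⁅D, A⁆ with hEdef
  have hED : ∀ e ∈ E, ∀ x ∈ D, e * x = x * e := fun e he x hx => hDAc.2.1 e he x (Subgroup.mem_sup_left hx)
  have hEA : ∀ e ∈ E, ∀ x ∈ A, e * x = x * e := fun e he x hx => hDAc.2.1 e he x (Subgroup.mem_sup_right hx)
  have hEC : ∀ e ∈ E, ∀ x ∈ C, e * x = x * e := by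
    intro e he x hx
    refine Subgroup.mem_centralizer_singleton_iff.1 ((?_ : E ≤ Subgroup.centralizer {x}) he)
    rw [hEdef, Subgroup.commutator_le]
    intro d hd a ha
    rw [Subgroup.mem_centralizer_singleton_iff]
    have h1 : Commute d x := hDC d hd x hx
    have h2 : Commute a x := (hCA' x hx a ha).symm
    exact (((h1.mul_left h2).mul_left h1.inv_left).mul_left h2.inv_left).eq
  -- correction of `E` by `C`
  have hcorr : ∀ e ∈ E, ∃ c ∈ C, ∀ x ∈ B, (e * c) * x = x * (e * c) := by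
    intro e hem
    obtain ⟨d, hd, hde⟩ := commutator_surj hDAc ha₀ ha₀1 hem
    obtain ⟨c, hc, hcd⟩ := commutator_surj hCB (inv_mem hb₀) (inv_ne_one.2 hb₀1)
      (show d ∈ ⁅C, B⁆ from hd)
    refine ⟨c, hc, fun x hx => ?_⟩
    have hmem : a₀ * (b₀⁻¹ * c * b₀) * a₀⁻¹ ∈ conjBy (conjBy C b₀⁻¹) a₀ :=
      conjBy_mem_conjBy (by simpa using conjBy_mem_conjBy (g := b₀⁻¹) hc)
    have hcm : ∀ u ∈ conjBy (conjBy C b₀⁻¹) a₀, ∀ v ∈ B, u * v = v * u := by
      intro u hu v hv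
      have hv' : a₀⁻¹ * v * a₀ ∈ conjBy A b₀⁻¹ := by
        rw [he]; simpa using conjBy_mem_conjBy (g := a₀⁻¹) hv
      have hu1 := mem_conjBy.1 (mem_conjBy.1 hu)
      have hv1 := mem_conjBy.1 hv'
      have := congrArg (fun z => a₀ * (b₀⁻¹ * z * b₀) * a₀⁻¹) (hCA' _ hu1 _ hv1)
      simpa [mul_assoc] using this
    have h1 : Commute (a₀ * (b₀⁻¹ * c * b₀) * a₀⁻¹) x := hcm _ hmem x hx
    have e1 : a₀ * (b₀⁻¹ * c * b₀) * a₀⁻¹ = d⁻¹ * (e * c) := by
      have h2 : Commute c a₀ := hCA' c hc a₀ ha₀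
      rw [← hde, ← hcd]
      calc a₀ * (b₀⁻¹ * c * b₀) * a₀⁻¹
          = a₀ * (c * b₀⁻¹ * c⁻¹ * b₀⁻¹⁻¹)⁻¹ * a₀⁻¹ * (a₀ * c * a₀⁻¹) := by group
        _ = a₀ * (c * b₀⁻¹ * c⁻¹ * b₀⁻¹⁻¹)⁻¹ * a₀⁻¹ * c := by
            rw [show a₀ * c * a₀⁻¹ = c by rw [← h2.eq, mul_inv_cancel_right]]
        _ = _ := by group
    rw [e1] at h1
    have h5 := Commute.mul_left (hDB d hd x hx) h1
    rw [mul_inv_cancel_left] at h5
    exact h5.eq
  exact ⟨hDAc, fun e he => ⟨hEC e he, hcorr e he⟩⟩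

/-- Some point of a line is in the commutator case with a given partner of one of its points. -/
theorem line_proj (hS : IsRootSubgroupSet S) {U A B : Subgroup G} (hA : A ∈ S) (hB : B ∈ S)
    (hAB : IsRankOnePair A B) (hAU : A ≤ U) (hcU : ∀ x ∈ U, ∀ y ∈ U, x * y = y * x)
    (hpart : IsSubgroupPartition U (membersIn S U)) {A' : Subgroup G} (hA' : A' ∈ membersIn S U)
    (hne : A' ≠ A) : ∃ P ∈ membersIn S U, RootCommutatorCase S P B := by
  by_contra hno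
  push Not at hno
  have hAD : ∀ a ∈ A, ∀ d ∈ A', a * d = d * a := fun a ha d hd => hcU a (hAU ha) d (hA'.2 hd)
  have hDB : IsRankOnePair A' B := by
    rcases hS.pair A' hA'.1 B hB with h | h | h
    · exfalso
      obtain ⟨a, ha, ha1⟩ := exists_ne_one_of_mem hS hA
      obtain ⟨d, hd, hd1⟩ := exists_ne_one_of_mem hS hA'.1
      by_cases hu : d * a = 1
      · rw [mul_eq_one_iff_eq_inv] at hu
        exact hne (eq_of_inter hS hA hA'.1 hB hAB (inv_mem ha) (hu ▸ hd) (inv_ne_one.2 ha1))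
      obtain ⟨R, hR, hm⟩ := hpart.2.1 (d * a) (mul_mem (hA'.2 hd) (hAU ha)) hu
      exact hd1 (eq_of_product_mem hS hR.1 hA hB hAB ha ha1 (fun x hx => (hAD x hx d hd).symm)
        (bracket_eq_bot_iff.1 h d hd) hm).2
    · exact h
    · exact absurd h (hno A' hA')
  obtain ⟨b, hb, hb1⟩ := exists_ne_one_of_mem hS hB
  obtain ⟨a, ha, ha1, hea⟩ := hAB.cond_right b hb hb1
  obtain ⟨d, hd, hd1, hed⟩ := hDB.cond_right b hb hb1
  have hu : a⁻¹ * d ≠ 1 := fun e =>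
    hne (eq_of_inter hS hA hA'.1 hB hAB ha ((inv_mul_eq_one.1 e).symm ▸ hd) ha1)
  obtain ⟨R₀, hR₀, hm⟩ := hpart.2.1 _ (mul_mem (hAU (inv_mem ha)) (hA'.2 hd)) hu
  have hR : IsRankOnePair R₀ B := by
    rcases hS.pair _ hR₀.1 B hB with h | h | h
    · exfalso
      refine hne (eq_of_product_mem hS hA'.1 hA hB hAB (z := a⁻¹ * d) ha ha1 (fun x hx => ?_)
        (fun x hx => bracket_eq_bot_iff.1 h _ hm x hx) ?_).1
      · exact hcU _ (hR₀.2 hm) x (hAU hx)
      · rw [mul_assoc, ← hAD a ha d hd, inv_mul_cancel_left]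
        exact hd
    · exact h
    · exact absurd h (hno _ hR₀)
  refine conj_partner_not_commute hR hm hu (bracket_eq_bot_iff.2 fun y hy x hx => ?_)
  have hcom : ∀ u ∈ conjBy B a⁻¹, ∀ v ∈ conjBy B d⁻¹, u * v = v * u := by
    rw [hea, hed]
    intro u hu v hv
    have hu' := mem_conjBy.1 hu
    have hv' := mem_conjBy.1 hv
    rw [inv_inv] at hu' hv'
    have := congrArg (fun z => b⁻¹ * z * b) (hAD _ hu' _ hv')
    simpa [mul_assoc] using this
  have had : d * a⁻¹ = a⁻¹ * d := (hAD _ (inv_mem ha) d hd).symm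
  have hy' : d⁻¹ * y * d ∈ conjBy B a⁻¹ := by
    rw [← had, ← conjBy_conjBy] at hy
    exact mem_conjBy.1 hy
  have hx' : d⁻¹ * x * d ∈ conjBy B d⁻¹ := by
    have := conjBy_mem_conjBy (g := d⁻¹) hx
    rwa [inv_inv] at this
  have := congrArg (fun z => d * z * d⁻¹) (hcom _ hy' _ hx')
  simpa [mul_assoc] using this

/-- Every point of a line has a point fixed by a normalising member transitive on the other points. -/
theorem line_transitive (hS : IsRootSubgroupSet S) (hF : ∀ A ∈ S, ¬ IsIsolatedIn (FAdj S) S A)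
    {U : Subgroup G} (hcU : ∀ x ∈ U, ∀ y ∈ U, x * y = y * x)
    (hpart : IsSubgroupPartition U (membersIn S U))
    {A : Subgroup G} (hA : A ∈ membersIn S U) (hgen : ∃ A' ∈ membersIn S U, A' ≠ A ∧ U = A ⊔ A')
    {B : Subgroup G} (hB : B ∈ S) (hAB : IsRankOnePair A B) :
    ∃ P ∈ membersIn S U, P ≠ A ∧ U = A ⊔ P ∧ RootCommutatorCase S P B ∧ ⁅⁅P, B⁆, A⁆ = P ∧
      ∃ D ∈ normalizingMembers S U, D = ⁅P, B⁆ ∧ (∀ d ∈ D, conjBy P d = P) ∧
      ∀ R ∈ membersIn S U, R ≠ P → ∃ d ∈ D, R = conjBy A d := by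
  obtain ⟨A', hA', hne', hUA'⟩ := hgen
  obtain ⟨P, hP, hPB⟩ := line_proj hS hA.1 hB hAB hA.2 hcU hpart hA' hne'
  have hPA : P ≠ A := fun e => not_case_of_rankOne hS hA.1 hB hAB (e ▸ hPB)
  obtain ⟨D, hDdef⟩ : ∃ D, D = ⁅P, B⁆ := ⟨_, rfl⟩
  have hDS : D ∈ S := hDdef ▸ hPB.1
  obtain ⟨FP, hFP, hPFP⟩ := not_isolated_exists (hF P hP.1) hP.1
  -- every other point is a partner of `B`
  have hothers : ∀ R ∈ membersIn S U, R ≠ P → IsRankOnePair R B → RootCommutatorCase S D R ∧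
      ∀ d ∈ D, ∀ r ∈ R, d * r * d⁻¹ * r⁻¹ ∈ P := by
    intro R hR hRP hRB
    have hcomm : ⁅R, P⁆ = ⊥ := bracket_eq_bot_iff.2 fun x hx y hy => hcU x (hR.2 hx) y (hP.2 hy)
    obtain ⟨h1, h2⟩ := proj_facts hS hR.1 hB hP.1 hRB hcomm hPB
    rw [← hDdef] at h1 h2
    refine ⟨h1, fun d hd r hr => ?_⟩
    obtain ⟨e, he⟩ : ∃ e, e = d * r * d⁻¹ * r⁻¹ := ⟨_, rfl⟩
    rw [← he]
    by_cases he1 : e = 1
    · rw [he1]; exact one_mem _
    have hr1 : r ≠ 1 := fun e' => he1 (by rw [he, e']; group)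
    have heE : e ∈ ⁅D, R⁆ := he ▸ commutator_mem hd hr
    obtain ⟨hec, c, hc, hz⟩ := h2 e heE
    have hu : c⁻¹ * r ≠ 1 := fun e' => by
      have := inv_mul_eq_one.1 e'
      exact hRP (eq_of_inter hS hP.1 hR.1 hFP hPFP hc (this ▸ hr) (this ▸ hr1))
    obtain ⟨R₁, hR₁, hm⟩ := hpart.2.1 _ (mul_mem (hP.2 (inv_mem hc)) (hR.2 hr)) hu
    have hR₁P : R₁ ≠ P := fun e' => by
      rw [e'] at hm
      have hrP : r ∈ P := by simpa using mul_mem hc hm
      exact hRP (eq_of_inter hS hP.1 hR.1 hFP hPFP hrP hr hr1)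
    have hR₁B : IsRankOnePair R₁ B := by
      refine rankOne_of_product hS hR.1 hB hP.1 hR₁.1 hRB hr hr1 (inv_mem hc)
        (fun x hx => hcU _ (hP.2 (inv_mem hc)) x (hR.2 hx)) hPB ?_
      rw [hcU r (hR.2 hr) c⁻¹ (hP.2 (inv_mem hc))]
      exact hm
    have hzR₁ : ∀ x ∈ R₁, (e * c) * x = x * (e * c) := by
      intro x hx
      by_cases hx1 : x = 1
      · simp [hx1]
      have hzr : Commute (e * c) r := Commute.mul_left (h1.2.1 e heE r (Subgroup.mem_sup_right hr))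
        (hcU c (hP.2 hc) r (hR.2 hr))
      have hzc : Commute (e * c) c⁻¹ :=
        (Commute.mul_left (show Commute e c from hec c hc) (Commute.refl c)).inv_right
      have hzm : Commute (e * c) (c⁻¹ * r) := hzc.mul_right hzr
      -- `e c` centralises a non-identity element of `R₁` and all of `B`
      rcases hS.pair (⁅D, R⁆) h1.1 R₁ hR₁.1 with h | h | h
      · exact (Commute.mul_left (show Commute e x from bracket_eq_bot_iff.1 h e heE x hx)
          (hcU c (hP.2 hc) x (hR₁.2 hx))).eq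
      · exfalso
        have hce : Commute e (c⁻¹ * r) :=
          (show Commute e c from hec c hc).inv_right.mul_right
            (show Commute e r from h1.2.1 e heE r (Subgroup.mem_sup_right hr))
        exact hu (eq_one_of_commute_pair h heE hm hce.eq he1)
      · exfalso
        have hce : Commute e (c⁻¹ * r) :=
          (show Commute e c from hec c hc).inv_right.mul_right
            (show Commute e r from h1.2.1 e heE r (Subgroup.mem_sup_right hr))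
        exact hu (commutator_inj hS hR₁.1 h1.1 (not_isolated_exists (hF _ h1.1) h1.1).choose_spec.1
          (not_isolated_exists (hF _ h1.1) h1.1).choose_spec.2 (commutatorCase_symm h) hm heE he1 hce.eq.symm)
    have hkey := eq_of_product_mem hS (hS.conj_mem R hR.1 d) hR₁.1 hB hR₁B hm hu hzR₁ hz (by
      rw [mul_assoc, ← mul_assoc c, mul_inv_cancel, one_mul, he, inv_mul_cancel_right]
      exact conjBy_mem_conjBy hr)
    have hz1 := hkey.2
    rw [mul_eq_one_iff_eq_inv] at hz1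
    rw [hz1]; exact inv_mem hc
  obtain ⟨hDAc, hAP⟩ := hothers A hA (Ne.symm hPA) hAB
  have hDAP : ⁅D, A⁆ ≤ P := Subgroup.commutator_le.2 hAP
  have hcenP : ∀ d ∈ D, ∀ p ∈ P, d * p = p * d := fun d hd p hp =>
    hPB.2.1 d (hDdef ▸ hd) p (Subgroup.mem_sup_left hp)
  have hEP : ⁅D, A⁆ = P := by
    obtain ⟨e, he, he1⟩ := exists_ne_one_of_mem hS hDAc.1
    exact eq_of_inter hS hP.1 hDAc.1 hFP hPFP (hDAP he) he he1
  have hEP' : ⁅A, D⁆ = P := by rw [Subgroup.commutator_comm]; exact hEP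
  obtain ⟨hmem, -, -, -⟩ := S5029.result hS (hF A hA.1) hA.1 hDS (hEP'.symm ▸ hP.1)
  rw [hEP'] at hmem
  have hU : U = A ⊔ P := by
    refine le_antisymm ?_ (sup_le hA.2 hP.2)
    refine hUA'.le.trans (sup_le le_sup_left ?_)
    by_cases hPA' : P = A'
    · rw [hPA']; exact le_sup_right
    obtain ⟨p, hp, hp1⟩ := exists_ne_one_of_mem hS hP.1
    have hnA : A ≤ Subgroup.normalizer (A' : Set G) := fun x hx =>
      conjBy_eq_iff_mem_normalizer.1 (conjBy_eq_of_commute fun y hy => hcU x (hA.2 hx) y (hA'.2 hy))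
    have hpm : p ∈ A ⊔ A' := hUA'.le (hP.2 hp)
    rw [← SetLike.mem_coe, Subgroup.coe_mul_of_left_le_normalizer_right A A' hnA] at hpm
    obtain ⟨a, ha, a', ha', e⟩ := hpm
    change a * a' = p at e
    have ha1 : a ≠ 1 := fun e' => by
      rw [e', one_mul] at e
      exact hPA' (eq_of_inter hS hP.1 hA'.1 hFP hPFP hp (e ▸ ha') hp1).symm
    obtain ⟨d, hd, hdp⟩ := commutator_surj hDAc ha ha1 (show p⁻¹ ∈ ⁅D, A⁆ from hEP.symm ▸ inv_mem hp)
    have hb' : a'⁻¹ ∈ conjBy A d := by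
      have h1 : d * a * d⁻¹ = a'⁻¹ := by
        calc d * a * d⁻¹ = (d * a * d⁻¹ * a⁻¹) * a := by group
          _ = (a * a')⁻¹ * a := by rw [hdp, e]
          _ = a'⁻¹ := by group
      exact h1 ▸ conjBy_mem_conjBy ha
    have hne1 : a'⁻¹ ≠ 1 := fun e' => by
      rw [inv_eq_one] at e'
      rw [e', mul_one] at e
      exact hPA (eq_of_inter hS hA.1 hP.1 hB hAB ha (e ▸ hp) ha1)
    have hAd : conjBy A d ∈ membersIn S (A ⊔ P) := by rw [hmem]; exact Or.inl ⟨d, hd, rfl⟩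
    rw [eq_of_inter hS (hS.conj_mem A hA.1 d) hA'.1 (hS.conj_mem B hB d) (isRankOnePair_conj hAB d) hb'
      (inv_mem ha') hne1]
    exact hAd.2
  have hconjP : ∀ d ∈ D, conjBy P d = P := fun d hd => conjBy_eq_of_commute (hcenP d hd)
  refine ⟨P, hP, hPA, hU, hPB, hDdef ▸ hEP, D, ⟨hDS, ?_⟩, hDdef, hconjP, fun R hR hRP => ?_⟩
  · have key : ∀ d ∈ D, ∀ u ∈ U, d * u * d⁻¹ ∈ U := by
      intro d hd u hu
      have hm : conjBy U d ≤ U := by
        rw [hU]
        show Subgroup.map _ (A ⊔ P) ≤ A ⊔ P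
        rw [Subgroup.map_sup]
        refine sup_le ?_ ((hconjP d hd).le.trans le_sup_right)
        have : conjBy A d ∈ membersIn S (A ⊔ P) := by rw [hmem]; exact Or.inl ⟨d, hd, rfl⟩
        exact this.2
      exact hm (conjBy_mem_conjBy hu)
    intro d hd
    rw [Subgroup.mem_normalizer_iff]
    exact fun u => ⟨key d hd u, fun hu => by simpa [mul_assoc] using key d⁻¹ (inv_mem hd) _ hu⟩
  · have : R ∈ membersIn S (A ⊔ P) := hU ▸ hR
    rw [hmem] at this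
    rcases this with ⟨d, hd, rfl⟩ | e
    exacts [⟨d, hd, rfl⟩, absurd e hRP]

end Cfsg.Agent.RootLib
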