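import Cfsg.Agent.Lib.Root.Lines
import Cfsg.Agent.Lib.Root.Simple
import Cfsg.Agent.S5032
import Cfsg.Agent.S5036
import Cfsg.Agent.S5038

/-!
Non-degenerate classes of abstract root subgroups: inclusions between partner sets, line graph, generation.
-/

set_option autoImplicit false

namespace Cfsg.Agent.RootLib

open Cfsg

variable {G : Type*} [Group G] {S : Set (Subgroup G)}

/-- An invariant transitive relation implying commutation is symmetric at pairs with a common rank one partner. -/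
theorem rel_symm_of_partner {r : Subgroup G → Subgroup G → Prop}
    (hconj : ∀ P Q g, r P Q → r (conjBy P g) (conjBy Q g))
    (htrans : ∀ P Q R, r P Q → r Q R → r P R) (hcomm : ∀ P Q, r P Q → ⁅P, Q⁆ = ⊥)
    {A C F : Subgroup G} (hAC : r A C) (hAF : IsRankOnePair A F) (hCF : IsRankOnePair C F) : r C A := by
  have hcomAC : ∀ a ∈ A, ∀ c ∈ C, a * c = c * a := bracket_eq_bot_iff.1 (hcomm A C hAC)
  have key : ∀ a ∈ A, a ≠ 1 → ∃ f, ∃ c ∈ C, conjBy A f = conjBy F a ∧ conjBy C f = conjBy F c ∧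
      r F (conjBy F (a⁻¹ * c)) := by
    intro a ha ha1
    obtain ⟨g, hg, hg1, he⟩ := hAF.cond_left a⁻¹ (inv_mem ha) (inv_ne_one.2 ha1)
    rw [inv_inv] at he
    obtain ⟨c, hc, -, he'⟩ := hCF.cond_right g hg hg1
    refine ⟨g⁻¹, c⁻¹, inv_mem hc, he, he'.symm, ?_⟩
    have h1 := hconj _ _ (a⁻¹ * g⁻¹) hAC
    rwa [← conjBy_conjBy, he, conjBy_inv_cancel, ← conjBy_conjBy, ← he', conjBy_conjBy] at h1
  obtain ⟨⟨a, ha⟩, hane⟩ := A.ne_bot_iff_exists_ne_one.1 (left_ne_bot hAF)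
  have ha1 : a ≠ 1 := fun e => hane (Subtype.ext e)
  obtain ⟨f, c, hc, e1, e2, r1⟩ := key a ha ha1
  obtain ⟨f', c', hc', -, -, r2⟩ := key a⁻¹ (inv_mem ha) (inv_ne_one.2 ha1)
  rw [inv_inv] at r2
  have e : (a⁻¹ * c) * (a * c') = c * c' := by
    rw [mul_assoc a⁻¹, ← mul_assoc c, ← hcomAC a ha c hc, mul_assoc a, inv_mul_cancel_left]
  have r3 : r F (conjBy F (c * c')) := by
    have := hconj _ _ (a⁻¹ * c) r2
    rw [conjBy_conjBy, e] at this
    exact htrans _ _ _ r1 this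
  have hcc : c * c' = 1 := by
    by_contra hne
    exact conj_partner_not_commute hCF (mul_mem hc hc') hne (bracket_eq_bot_symm (hcomm _ _ r3))
  have r4 : r (conjBy F (a⁻¹ * c)) F := by
    have := hconj _ _ (a⁻¹ * c) r2
    rwa [conjBy_conjBy, e, hcc, conjBy_one] at this
  have r5 := hconj _ _ a r4
  rw [conjBy_conjBy, mul_inv_cancel_left, ← e1, ← e2] at r5
  have r6 := hconj _ _ f⁻¹ r5
  rwa [conjBy_inv_cancel, conjBy_inv_cancel] at r6

theorem centralizingMembers_conj (hS : IsRootSubgroupSet S) {A M : Subgroup G} {g : G} :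
    conjBy M g ∈ centralizingMembers S (conjBy A g) ↔ M ∈ centralizingMembers S A := by
  have key : ∀ (A M : Subgroup G) (g : G), M ∈ centralizingMembers S A →
      conjBy M g ∈ centralizingMembers S (conjBy A g) := by
    intro A M g ⟨hM, hle⟩
    refine ⟨hS.conj_mem M hM g, ?_⟩
    rintro _ ⟨m, hm, rfl⟩
    rw [Subgroup.mem_centralizer_iff]
    rintro _ ⟨a, ha, rfl⟩
    rw [← map_mul, ← map_mul, Subgroup.mem_centralizer_iff.1 (hle hm) a ha]
  exact ⟨fun h => by simpa [conjBy_inv_cancel] using key _ _ g⁻¹ h, key A M g⟩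

theorem mem_centralizingMembers (hS : IsRootSubgroupSet S) {A M : Subgroup G} (hM : M ∈ S) :
    M ∈ centralizingMembers S A ↔ ⁅M, A⁆ = ⊥ :=
  ⟨fun h => Subgroup.commutator_eq_bot_iff_le_centralizer.2 h.2,
    fun h => ⟨hM, Subgroup.commutator_eq_bot_iff_le_centralizer.1 h⟩⟩

theorem linePartners_symm {A B : Subgroup G} (hA : A ∈ S) (h : B ∈ linePartners S A) :
    A ∈ linePartners S B :=
  ⟨⟨hA, h.1.2.1.symm, bracket_eq_bot_symm h.1.2.2⟩, by rw [sup_comm]; exact h.2⟩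

theorem linePartners_conj (hS : IsRootSubgroupSet S) {A B : Subgroup G} (g : G)
    (h : B ∈ linePartners S A) : conjBy B g ∈ linePartners S (conjBy A g) := by
  obtain ⟨⟨hB, hne, hc⟩, hp1, hp2, hp3⟩ := h
  refine ⟨⟨hS.conj_mem B hB g, conjBy_ne hne g, ?_⟩, ?_⟩
  · show ⁅A.map _, B.map _⁆ = ⊥
    rw [← Subgroup.map_commutator, hc, Subgroup.map_bot]
  · have hsup : conjBy A g ⊔ conjBy B g = conjBy (A ⊔ B) g := (Subgroup.map_sup _ _ _).symm
    rw [hsup]
    refine ⟨fun C hC => hC.2, fun x hx hx1 => ?_, fun C hC D hD hne' => ?_⟩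
    · obtain ⟨y, hy, rfl⟩ := hx
      obtain ⟨C, hC, hyC⟩ := hp2 y hy (fun e => hx1 (by rw [e, map_one]))
      exact ⟨conjBy C g, ⟨hS.conj_mem C hC.1 g, Subgroup.map_mono hC.2⟩, y, hyC, rfl⟩
    · have h1 : ∀ C ∈ membersIn S (conjBy (A ⊔ B) g), conjBy C g⁻¹ ∈ membersIn S (A ⊔ B) := fun C hC =>
        ⟨hS.conj_mem C hC.1 g⁻¹, by rw [← conjBy_inv_cancel (A ⊔ B) g]; exact Subgroup.map_mono hC.2⟩
      have h2 := hp3 _ (h1 C hC) _ (h1 D hD) (conjBy_ne hne' g⁻¹)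
      rw [← conjBy_cancel_inv C g, ← conjBy_cancel_inv D g, ← Subgroup.map_inf _ _ _ (MulAut.conj g).injective,
        h2, Subgroup.map_bot]

/-- The commutative group of a line. -/
theorem line_commutative (hS : IsRootSubgroupSet S) {A B : Subgroup G} (hA : A ∈ S)
    (hB : B ∈ linePartners S A) : ∀ x ∈ A ⊔ B, ∀ y ∈ A ⊔ B, x * y = y * x := by
  have key : ∀ P : Subgroup G, (∀ a ∈ A, ∀ p ∈ P, a * p = p * a) → (∀ b ∈ B, ∀ p ∈ P, b * p = p * b) →
      A ⊔ B ≤ Subgroup.centralizer (P : Set G) := fun P h1 h2 =>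
    sup_le (fun a ha => Subgroup.mem_centralizer_iff.2 fun p hp => (h1 a ha p hp).symm)
      (fun b hb => Subgroup.mem_centralizer_iff.2 fun p hp => (h2 b hb p hp).symm)
  have hAB := bracket_eq_bot_iff.1 hB.1.2.2
  have hA' := key A (fun a ha p hp => root_comm hS hA ha hp) (fun b hb p hp => (hAB p hp b hb).symm)
  have hB' := key B hAB (fun b hb p hp => root_comm hS hB.1.1 hb hp)
  have h := key (A ⊔ B)
    (fun a ha p hp => Subgroup.mem_centralizer_iff.1 (hA' hp) a ha)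
    (fun b hb p hp => Subgroup.mem_centralizer_iff.1 (hB' hp) b hb)
  exact fun x hx y hy => (Subgroup.mem_centralizer_iff.1 (h hx) y hy).symm

/-- In the commutator case some partner of the first member commutes with the second. -/
theorem exists_partner_commuting (hS : IsRootSubgroupSet S) (hF : ∀ A ∈ S, ¬ IsIsolatedIn (FAdj S) S A)
    {A C : Subgroup G} (hA : A ∈ S) (hC : C ∈ S) (hc : RootCommutatorCase S A C) :
    ∃ D ∈ S, IsRankOnePair A D ∧ ⁅D, C⁆ = ⊥ := by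
  obtain ⟨E, hE⟩ : ∃ E, E = ⁅A, C⁆ := ⟨_, rfl⟩
  have hE' : ⁅C, A⁆ = E := by rw [Subgroup.commutator_comm]; exact hE.symm
  have hES : E ∈ S := hE ▸ hc.1
  obtain ⟨hmem, hpart, hline, -⟩ := S5029.result hS (hF C hC) hC hA (hE'.symm ▸ hES)
  rw [hE'] at hmem hpart hline
  have hCE : C ∈ membersIn S (C ⊔ E) := ⟨hC, le_sup_left⟩
  have hEm : E ∈ membersIn S (C ⊔ E) := ⟨hES, le_sup_right⟩
  have hcU : ∀ x ∈ C ⊔ E, ∀ y ∈ C ⊔ E, x * y = y * x := by
    rw [sup_comm]; exact line_commutative hS hES hline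
  obtain ⟨G₀, hG₀, hEG₀⟩ := not_isolated_exists (hF E hES) hES
  obtain ⟨P, hP, hPE, hUP, hPG, hDE, -⟩ :=
    line_transitive hS hF hcU hpart hEm ⟨C, hCE, hline.1.2.1, sup_comm _ _⟩ hG₀ hEG₀
  have hP' := hP
  rw [hmem] at hP'
  rcases hP' with ⟨a, ha, rfl⟩ | e
  swap
  · exact absurd e hPE
  obtain ⟨G₁, hG₁⟩ : ∃ G₁, G₁ = conjBy G₀ a⁻¹ := ⟨_, rfl⟩
  have h1 : ⁅C, G₁⁆ = conjBy ⁅conjBy C a, G₀⁆ a⁻¹ := by
    show ⁅C, G₁⁆ = Subgroup.map _ _
    rw [Subgroup.map_commutator, hG₁]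
    show ⁅C, _⁆ = ⁅conjBy (conjBy C a) a⁻¹, conjBy G₀ a⁻¹⁆
    rw [conjBy_inv_cancel]
  have hEa : conjBy E a⁻¹ = E := conjBy_eq_of_commute fun e he =>
    (hc.2.1 e (hE ▸ he) a⁻¹ (Subgroup.mem_sup_left (inv_mem ha))).symm
  have h2 : ⁅⁅C, G₁⁆, E⁆ = C := by
    have := congrArg (fun T => conjBy T a⁻¹) hDE
    rw [h1]
    simp only [conjBy_inv_cancel] at this
    refine Eq.trans ?_ this
    show _ = Subgroup.map _ _
    rw [Subgroup.map_commutator]
    show _ = ⁅conjBy _ a⁻¹, conjBy E a⁻¹⁆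
    rw [hEa]
  have hD : ⁅C, G₁⁆ ∈ S := h1 ▸ hS.conj_mem _ hPG.1 _
  have hG₁S : G₁ ∈ S := hG₁ ▸ hS.conj_mem _ hG₀ _
  refine ⟨⁅C, G₁⁆, hD, ?_, ?_⟩
  · exact (S5036.result hS hC hA (hE'.symm ▸ hES) hD (by rw [hE']; exact h2)).1
  · exact bracket_eq_bot_iff.2 fun d hd c hc' =>
      (commutatorCase_of_mem hS hC hG₁S hD).2.1 d hd c (Subgroup.mem_sup_left hc')

theorem partners_all (hS : IsRootSubgroupClass S) (h : ∃ A ∈ S, ∃ B ∈ S, IsRankOnePair A B) :
    ∀ A ∈ S, ¬ IsIsolatedIn (FAdj S) S A := by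
  obtain ⟨A₀, hA₀, B₀, hB₀, h0⟩ := h
  intro A hA
  obtain ⟨g, rfl⟩ := hS.2.2 A₀ hA₀ A hA
  exact not_isolated_of_partner hA (hS.1.conj_mem B₀ hB₀ g) (isRankOnePair_conj h0 g)

theorem eadj_of_case_conj (hS : IsRootSubgroupSet S) (hF : ∀ A ∈ S, ¬ IsIsolatedIn (FAdj S) S A)
    {A C : Subgroup G} (hA : A ∈ S) (hC : C ∈ S) (hc : RootCommutatorCase S A C) {c : G} (hcm : c ∈ C)
    (hne : conjBy A c ≠ A) : conjBy A c ∈ linePartners S A := by
  obtain ⟨hmem, hpart, hline, -⟩ := S5029.result hS (hF A hA) hA hC hc.1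
  obtain ⟨E, hE⟩ : ∃ E, E = ⁅A, C⁆ := ⟨_, rfl⟩
  rw [← hE] at hmem hpart
  have hR : conjBy A c ∈ membersIn S (A ⊔ E) := by rw [hmem]; exact Or.inl ⟨c, hcm, rfl⟩
  have hc1 : c ≠ 1 := fun e => hne (by rw [e, conjBy_one])
  have hEle : E ≤ A ⊔ conjBy A c := by
    intro e he
    obtain ⟨a, ha, hae⟩ := commutator_surj hc hcm hc1 (hE ▸ he)
    rw [← hae, show a * c * a⁻¹ * c⁻¹ = a * (c * a⁻¹ * c⁻¹) by group]
    exact mul_mem (Subgroup.mem_sup_left ha) (Subgroup.mem_sup_right (conjBy_mem_conjBy (inv_mem ha)))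
  have hsup : A ⊔ conjBy A c = A ⊔ E :=
    le_antisymm (sup_le le_sup_left hR.2) (sup_le le_sup_left hEle)
  refine ⟨⟨hS.conj_mem A hA c, hne, bracket_eq_bot_iff.2 fun x hx y hy => ?_⟩, hsup.symm ▸ hpart⟩
  have hcomm := line_commutative hS (hE ▸ hc.1) (A := E) (B := A) (hE ▸ hline)
  refine hcomm x (Subgroup.mem_sup_right hx) y ?_
  rw [sup_comm]
  exact hR.2 hy

/-- Every member is joined to its conjugates in the line graph. -/
theorem line_reach (hS : IsRootSubgroupClass S) (hnd : IsNondegenerateRootSet S) (g : G) :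
    ∀ A ∈ S, Relation.ReflTransGen (EAdj S S) A (conjBy A g) := by
  obtain ⟨-, h1, P₀, hP₀, Q₀, hQ₀, hPQ⟩ := hnd
  have hF := partners_all hS h1
  have hsymm : ∀ {A B : Subgroup G}, Relation.ReflTransGen (EAdj S S) A B →
      Relation.ReflTransGen (EAdj S S) B A := by
    intro A B h
    induction h with
    | refl => exact Relation.ReflTransGen.refl
    | tail _ h2 ih => exact Relation.ReflTransGen.head ⟨h2.2.1, h2.1, linePartners_symm h2.1 h2.2.2⟩ ih
  have hcaseStep : ∀ A ∈ S, ∀ C ∈ S, RootCommutatorCase S A C → ∀ c ∈ C,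
      Relation.ReflTransGen (EAdj S S) A (conjBy A c) := by
    intro A hA C hC hc c hcm
    by_cases hne : conjBy A c = A
    · rw [hne]
    · exact Relation.ReflTransGen.single
        ⟨hA, hS.1.conj_mem A hA c, eadj_of_case_conj hS.1 hF hA hC hc hcm hne⟩
  have step : ∀ A ∈ S, ∀ C ∈ S, ∀ c ∈ C, Relation.ReflTransGen (EAdj S S) A (conjBy A c) := by
    intro A hA C hC c hcm
    rcases hS.1.pair A hA C hC with h | h | h
    · rw [conjBy_eq_of_commute fun a ha => (bracket_eq_bot_iff.1 h a ha c hcm).symm]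
    · obtain ⟨Q, hQ, hAQ⟩ := exists_line_case hS.1 hS.2 ⟨P₀, hP₀, Q₀, hQ₀, hPQ⟩ hA
      obtain ⟨P, hP, hPC⟩ := exists_proj hS.1 hA hQ hC hAQ h
      exact ((Relation.ReflTransGen.single (r := EAdj S S) ⟨hA, hP.1.1, hP⟩).trans
        (hcaseStep P hP.1.1 C hC hPC c hcm)).tail
        ⟨hS.1.conj_mem P hP.1.1 c, hS.1.conj_mem A hA c,
          linePartners_symm (hS.1.conj_mem A hA c) (linePartners_conj hS.1 c hP)⟩
    · exact hcaseStep A hA C hC h c hcm
  let K : Subgroup G :=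
    { carrier := {g | ∀ A ∈ S, Relation.ReflTransGen (EAdj S S) A (conjBy A g)}
      one_mem' := fun A _ => by rw [conjBy_one]
      mul_mem' := fun {g h} hg hh A hA => by
        rw [← conjBy_conjBy]
        exact (hh A hA).trans (hg _ (hS.1.conj_mem A hA h))
      inv_mem' := fun {g} hg A hA => by
        have := hg _ (hS.1.conj_mem A hA g⁻¹)
        rw [conjBy_cancel_inv] at this
        exact hsymm this }
  have hle : (⨆ B ∈ S, B) ≤ K := iSup₂_le fun B hB b hb A hA => step A hA B hB b hb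
  rw [hS.1.generates] at hle
  exact hle (Subgroup.mem_top g)

theorem line_connected (hS : IsRootSubgroupClass S) (hnd : IsNondegenerateRootSet S) :
    IsConnectedFamily (EAdj S S) S := fun A hA B hB => by
  obtain ⟨g, rfl⟩ := hS.2.2 A hA B hB
  exact line_reach hS hnd g A hA

/-- Generation by the line partners of a member and one rank one partner. -/
theorem line_generate (hS : IsRootSubgroupClass S) (hnd : IsNondegenerateRootSet S) {A B : Subgroup G}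
    (hA : A ∈ S) (hB : B ∈ rankOnePartners S A) : (⨆ C ∈ linePartners S A, C) ⊔ B = ⊤ := by
  have hF := partners_all hS hnd.2.1
  obtain ⟨H, hH⟩ : ∃ H, H = (⨆ C ∈ linePartners S A, C) ⊔ B := ⟨_, rfl⟩
  rw [← hH]
  have hlineH : ∀ C ∈ linePartners S A, C ≤ H := fun C hC =>
    hH ▸ (le_iSup₂ (f := fun C (_ : C ∈ linePartners S A) => C) C hC).trans le_sup_left
  have hBH : B ≤ H := hH ▸ le_sup_right
  have horb : ∀ R ∈ linePartners S A, ∃ h ∈ H, R = conjBy A h := by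
    intro R hR
    have hcU := line_commutative hS.1 hA hR
    have hAm : A ∈ membersIn S (A ⊔ R) := ⟨hA, le_sup_left⟩
    have hRm : R ∈ membersIn S (A ⊔ R) := ⟨hR.1.1, le_sup_right⟩
    obtain ⟨P, hP, hPA, hUP, hPB, hDA, D, hD, hDe, hfix, htr⟩ :=
      line_transitive hS.1 hF hcU hR.2 hAm ⟨R, hRm, hR.1.2.1, rfl⟩ hB.1 hB.2
    have hPl : P ∈ linePartners S A := ⟨⟨hP.1, hPA, bracket_eq_bot_iff.2 fun a ha p hp =>
      hcU a (hAm.2 ha) p (hP.2 hp)⟩, hUP ▸ hR.2⟩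
    have hDH : D ≤ H := by
      rw [hDe, Subgroup.commutator_le]
      intro p hp b hb
      exact mul_mem (mul_mem (mul_mem (hlineH P hPl hp) (hBH hb)) (inv_mem (hlineH P hPl hp))) (inv_mem (hBH hb))
    by_cases hRP : R = P
    · obtain ⟨R₀, hR₀, hne1, hne2⟩ : ∃ R₀ ∈ membersIn S (A ⊔ R), R₀ ≠ A ∧ R₀ ≠ P := by
        obtain ⟨a, ha, ha1⟩ := exists_ne_one_of_mem hS.1 hA
        obtain ⟨p, hp, hp1⟩ := exists_ne_one_of_mem hS.1 hP.1
        obtain ⟨FP, hFP, hPFP⟩ := not_isolated_exists (hF P hP.1) hP.1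
        have hap : a * p ≠ 1 := fun e => hPA (eq_of_inter hS.1 hA hP.1 hB.1 hB.2 ha
          (by rw [eq_inv_of_mul_eq_one_left e]; exact inv_mem hp) ha1)
        obtain ⟨R₀, hR₀, hm⟩ := hR.2.2.1 _ (mul_mem (hAm.2 ha) (hP.2 hp)) hap
        refine ⟨R₀, hR₀, fun e => ?_, fun e => ?_⟩
        · rw [e] at hm
          have : p ∈ A := by simpa using mul_mem (inv_mem ha) hm
          exact hPA (eq_of_inter hS.1 hA hP.1 hB.1 hB.2 this hp hp1)
        · rw [e] at hm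
          have : a ∈ P := by simpa using mul_mem hm (inv_mem hp)
          exact hPA (eq_of_inter hS.1 hA hP.1 hB.1 hB.2 ha this ha1)
      obtain ⟨d, hd, e0⟩ := htr R₀ hR₀ hne2
      obtain ⟨g, -, g1, g2⟩ := S5038.result hS.1 hF hA hR A hAm P hP R₀ hR₀ A hAm (Ne.symm hPA) hne1
      obtain ⟨D₀, hD₀⟩ : ∃ D₀, D₀ = conjBy D g := ⟨_, rfl⟩
      have hDS : D ∈ S := hD.1
      have hD₀S : D₀ ∈ S := hD₀ ▸ hS.1.conj_mem D hDS g
      have e2 : ⁅D₀, R₀⁆ = A := by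
        rw [hD₀, ← g1]
        show ⁅D.map _, A.map _⁆ = A
        rw [← Subgroup.map_commutator, hDe, hDA]
        exact g2
      obtain ⟨hmem, -, hline, -⟩ := S5029.result hS.1 (hF R₀ hR₀.1) hR₀.1 hD₀S
        (by rw [Subgroup.commutator_comm, e2]; exact hA)
      rw [Subgroup.commutator_comm R₀ D₀, e2] at hmem
      obtain ⟨-, -, hlineD, -⟩ := S5029.result hS.1 (hF D₀ hD₀S) hD₀S hR₀.1 (e2.symm ▸ hA)
      rw [e2] at hlineD
      have hU₀ : A ⊔ R₀ ≤ A ⊔ R := sup_le le_sup_left hR₀.2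
      have hU₁ : R ≤ R₀ ⊔ A := by
        -- `R = P`, a point of the line of `A` and `R₀`
        intro p hp
        have hd1 : d ≠ 1 := fun e' => hne1 (by rw [e0, e', conjBy_one])
        have hpP : p ∈ P := hRP ▸ hp
        obtain ⟨a, ha, hap⟩ := commutator_surj (commutatorCase_symm (commutatorCase_of_mem hS.1 hD.1 hA
          (by rw [hDe, hDA]; exact hP.1))) hd hd1 (show p⁻¹ ∈ ⁅A, D⁆ by
            rw [Subgroup.commutator_comm, hDe, hDA]; exact inv_mem hpP)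
        have : p = (d * a * d⁻¹) * a⁻¹ := by rw [← inv_inv p, ← hap]; group
        rw [this, e0]
        exact mul_mem (Subgroup.mem_sup_left (conjBy_mem_conjBy ha)) (Subgroup.mem_sup_right (inv_mem ha))
      have hRmem : R ∈ membersIn S (R₀ ⊔ A) := ⟨hR.1.1, hU₁⟩
      rw [hmem] at hRmem
      rcases hRmem with ⟨d₀, hd₀, e⟩ | e
      · exact ⟨d₀ * d, mul_mem (hlineH D₀ hlineD hd₀) (hDH hd), by rw [← e, ← conjBy_conjBy, ← e0]⟩
      · exact absurd e hR.1.2.1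
    · obtain ⟨d, hd, e⟩ := htr R hRm hRP
      exact ⟨d, hDH hd, e⟩
  have hall : ∀ C ∈ S, ∃ h ∈ H, C = conjBy A h := by
    intro C hC
    have hr := line_connected hS hnd A hA C hC
    clear hC
    induction hr with
    | refl => exact ⟨1, one_mem _, (conjBy_one A).symm⟩
    | @tail M N _ hMN ih =>
      obtain ⟨h, hh, rfl⟩ := ih
      have := linePartners_conj hS.1 h⁻¹ hMN.2.2
      rw [conjBy_inv_cancel] at this
      obtain ⟨k, hk, e⟩ := horb _ this
      exact ⟨h * k, mul_mem hh hk, by rw [← conjBy_conjBy, ← e, conjBy_cancel_inv]⟩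
  have hconj : ∀ {P : Subgroup G} {h : G}, P ≤ H → h ∈ H → conjBy P h ≤ H := by
    rintro P h hP hh _ ⟨x, hx, rfl⟩
    exact mul_mem (mul_mem hh (hP hx)) (inv_mem hh)
  have hAH : A ≤ H := by
    obtain ⟨h, hh, e⟩ := hall B hB.1
    rw [eq_inv_conjBy e.symm]
    exact hconj hBH (inv_mem hh)
  rw [eq_top_iff, ← hS.1.generates]
  refine iSup₂_le fun C hC => ?_
  obtain ⟨h, hh, rfl⟩ := hall C hC
  exact hconj hAH hh

/-- Weak TI subsets of a non-degenerate class are abelian. -/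
theorem weakTI_abelian (hS : IsRootSubgroupClass S) (hnd : IsNondegenerateRootSet S)
    {Δ : Set (Subgroup G)} (hΔ : IsWeakTISubset S Δ) : IsAbelianFamily Δ := by
  have hF := partners_all hS hnd.2.1
  obtain ⟨hsub, -, hneS, hTI⟩ := hΔ
  -- elements of members commuting with a member of `Δ` preserve `Δ`
  have hpres : ∀ P ∈ Δ, ∀ M ∈ S, ⁅M, P⁆ = ⊥ → ∀ m ∈ M, ∀ Q ∈ Δ, conjBy Q m ∈ Δ := by
    intro P hP M hM hc m hm Q hQ
    by_cases hm1 : m = 1
    · rw [hm1, conjBy_one]; exact hQ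
    rcases hTI m ⟨hm1, M, hM, hm⟩ with h | h
    · rw [← h]; exact ⟨Q, hQ, rfl⟩
    · exact absurd hP (Set.disjoint_left.1 h ⟨P, hP,
        conjBy_eq_of_commute fun x hx => bracket_eq_bot_iff.1 hc m hm x hx⟩)
  have hno : ∀ A ∈ Δ, ∀ B ∈ Δ, ¬ IsRankOnePair A B := by
    intro A hA B hB hAB
    obtain ⟨K, hK⟩ : ∃ K : Subgroup G, ∀ g, g ∈ K ↔
        ∀ Q ∈ Δ, conjBy Q g ∈ Δ ∧ conjBy Q g⁻¹ ∈ Δ := ⟨
      { carrier := {g | ∀ Q ∈ Δ, conjBy Q g ∈ Δ ∧ conjBy Q g⁻¹ ∈ Δ}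
        one_mem' := fun Q hQ => by rw [inv_one, conjBy_one]; exact ⟨hQ, hQ⟩
        mul_mem' := fun {g h} hg hh Q hQ => ⟨by rw [← conjBy_conjBy]; exact (hg _ (hh Q hQ).1).1,
          by rw [mul_inv_rev, ← conjBy_conjBy]; exact (hh _ (hg Q hQ).2).2⟩
        inv_mem' := fun {g} hg Q hQ => by rw [inv_inv]; exact ⟨(hg Q hQ).2, (hg Q hQ).1⟩ },
      fun g => Iff.rfl⟩
    have hle : (⨆ C ∈ linePartners S A, C) ⊔ B ≤ K := by
      refine sup_le (iSup₂_le fun C hC m hm => (hK m).2 fun Q hQ => ?_) fun m hm => (hK m).2 fun Q hQ => ?_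
      · exact ⟨hpres A hA C hC.1.1 (bracket_eq_bot_symm hC.1.2.2) m hm Q hQ,
          hpres A hA C hC.1.1 (bracket_eq_bot_symm hC.1.2.2) _ (inv_mem hm) Q hQ⟩
      · have hBB : ⁅B, B⁆ = ⊥ := bracket_eq_bot_iff.2 fun x hx y hy => root_comm hS.1 (hsub hB) hx hy
        exact ⟨hpres B hB B (hsub hB) hBB m hm Q hQ, hpres B hB B (hsub hB) hBB _ (inv_mem hm) Q hQ⟩
    rw [line_generate hS hnd (hsub hA) ⟨hsub hB, hAB⟩] at hle
    refine hneS (Set.Subset.antisymm hsub fun C hC => ?_)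
    obtain ⟨g, rfl⟩ := hS.2.2 A (hsub hA) C hC
    exact ((hK g).1 (hle (Subgroup.mem_top g)) A hA).1
  intro A hA B hB
  rcases hS.1.pair A (hsub hA) B (hsub hB) with h | h | h
  · exact bracket_eq_bot_iff.1 h
  · exact absurd h (hno A hA B hB)
  · exfalso
    obtain ⟨D, hD, hAD, hDB⟩ := exists_partner_commuting hS.1 hF (hsub hA) (hsub hB) h
    obtain ⟨d, hd, hd1⟩ := exists_ne_one_of_mem hS.1 hD
    have h1 := hpres B hB D hD hDB d hd A hA
    refine hno A hA _ h1 (unipotent_rankOne hAD unipotent_mem_A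
      (unipotent_conj unipotent_mem_A (Subgroup.mem_sup_right hd)) fun e => hd1 ?_)
    exact eq_one_of_normalizes (RankOnePair_symm hAD) hd e.symm

end Cfsg.Agent.RootLib
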