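import Mathlib
import Cfsg.Prelude.Def_RootSubgroups
import Cfsg.Agent.Lib.Invol.Basic
import Cfsg.Agent.Lib.Invol.BaerSuzuki

/-!
Sets of root involutions: commuting triples `x, y, x * y`, the chain lemma, and the comparison of
the odd-product sets of the members of a triple.
-/

set_option autoImplicit false

namespace Cfsg.Agent.RootInvol

open Cfsg

variable {G : Type*} [Group G] {D : Set G}

theorem sq_one (hD : IsRootInvolutionSet D) {a : G} (ha : a ∈ D) : a * a = 1 :=
  Invol.mul_self_of_orderOf_two (hD.orderOf_eq a ha)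

theorem inv_self (hD : IsRootInvolutionSet D) {a : G} (ha : a ∈ D) : a⁻¹ = a :=
  inv_eq_of_mul_eq_one_right (sq_one hD ha)

theorem ne_one (hD : IsRootInvolutionSet D) {a : G} (ha : a ∈ D) : a ≠ 1 :=
  Invol.ne_one_of_orderOf_two (hD.orderOf_eq a ha)

theorem conj_mem' (hD : IsRootInvolutionSet D) {a b : G} (ha : a ∈ D) (hb : b ∈ D) :
    b * a * b ∈ D := by
  have := hD.conj_mem a ha b
  rwa [inv_self hD hb] at this

/-- `a * b` and `b * a` have the same order. -/
theorem orderOf_swap (a b : G) : orderOf (a * b) = orderOf (b * a) := by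
  rw [show a * b = a * (b * a) * a⁻¹ by group, Invol.orderOf_conj]

/-- An element whose order is odd and which has a `2`-power exponent is trivial. -/
theorem eq_one_of_odd_of_pow {x : G} {k : ℕ} (ho : Odd (orderOf x)) (h : x ^ (2 ^ k) = 1) : x = 1 := by
  rw [← orderOf_eq_one_iff]
  exact Nat.eq_one_of_dvd_coprimes ((Nat.coprime_two_right.2 ho).pow_right k) dvd_rfl
    (orderOf_dvd_of_pow_eq_one h)

theorem pow_four_of_comm (hD : IsRootInvolutionSet D) {a b : G} (ha : a ∈ D) (hb : b ∈ D)
    (h : a * b = b * a) : (a * b) ^ 4 = 1 := by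
  rw [(show Commute a b from h).mul_pow, pow_succ a 3, pow_succ b 3]
  have h1 := sq_one hD ha
  have h2 := sq_one hD hb
  have e1 : a ^ 3 = a := by rw [pow_succ, pow_two, h1, one_mul]
  have e2 : b ^ 3 = b := by rw [pow_succ, pow_two, h2, one_mul]
  rw [e1, e2, h1, h2, one_mul]

theorem ne_comm_of_odd (hD : IsRootInvolutionSet D) {a b : G} (ha : a ∈ D) (hb : b ∈ D)
    (hne : a ≠ b) (ho : Odd (orderOf (a * b))) : a * b ≠ b * a := by
  intro h
  have h1 := eq_one_of_odd_of_pow (k := 2) ho (by norm_num; exact pow_four_of_comm hD ha hb h)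
  exact hne (by rw [eq_inv_of_mul_eq_one_left h1, inv_self hD hb])

theorem not_odd_of_four {a b : G} (h : orderOf (a * b) = 4) : ¬ Odd (orderOf (a * b)) := by
  rw [h]; decide

/-- Two members whose product does not have odd order generate a product of exponent four. -/
theorem pow_four_of_not_odd (hD : IsRootInvolutionSet D) {a b : G} (ha : a ∈ D) (hb : b ∈ D)
    (h : ¬ Odd (orderOf (a * b))) : (a * b) ^ 4 = 1 := by
  rcases hD.pair a ha b hb with h' | h' | h'
  · exact pow_four_of_comm hD ha hb h'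
  · exact absurd h' h
  · rw [← h'.1, pow_orderOf_eq_one]

/-- The data attached to a product of order four. -/
theorem four_facts (hD : IsRootInvolutionSet D) {a b : G} (ha : a ∈ D) (hb : b ∈ D)
    (h : orderOf (a * b) = 4) :
    (a * b) ^ 2 ∈ D ∧ (a * b) ^ 2 * a = a * (a * b) ^ 2 ∧ (a * b) ^ 2 * b = b * (a * b) ^ 2 ∧
      (b * a) ^ 2 = (a * b) ^ 2 ∧ a * (a * b) ^ 2 = b * a * b ∧ b * (a * b) ^ 2 = a * b * a ∧
      a * b ≠ b * a := by
  have h1 := sq_one hD ha
  have h2 := sq_one hD hb
  have hne : a * b ≠ b * a := fun hc => by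
    have : (a * b) ^ 2 = 1 := by
      rw [(show Commute a b from hc).mul_pow, pow_two, pow_two, h1, h2, one_mul]
    have := orderOf_dvd_of_pow_eq_one this
    rw [h] at this
    omega
  have hmem : (a * b) ^ 2 ∈ D := by
    rcases hD.pair a ha b hb with h' | h' | h'
    · exact absurd h' hne
    · exact absurd h' (not_odd_of_four h)
    · exact h'.2
  have hsw : (b * a) ^ 2 = (a * b) ^ 2 := by
    have h4 : (a * b) ^ 2 * (a * b) ^ 2 = 1 := sq_one hD hmem
    rw [← inv_eq_of_mul_eq_one_right h4, ← inv_pow, mul_inv_rev, inv_self hD ha, inv_self hD hb]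
  have e1 : a * (a * b) ^ 2 = b * a * b := by
    calc a * (a * b) ^ 2 = (a * a) * (b * a * b) := by simp only [pow_two, mul_assoc]
      _ = _ := by rw [h1, one_mul]
  have e2 : b * (b * a) ^ 2 = a * b * a := by
    calc b * (b * a) ^ 2 = (b * b) * (a * b * a) := by simp only [pow_two, mul_assoc]
      _ = _ := by rw [h2, one_mul]
  refine ⟨hmem, ?_, ?_, hsw, e1, hsw ▸ e2, hne⟩
  · rw [e1, ← hsw]
    calc (b * a) ^ 2 * a = b * a * b * (a * a) := by simp only [pow_two, mul_assoc]
      _ = _ := by rw [h1, mul_one]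
  · calc (a * b) ^ 2 * b = a * b * a * (b * b) := by simp only [pow_two, mul_assoc]
      _ = _ := by rw [h2, mul_one, ← e2, hsw]

/-- Three possibilities for a pair. -/
theorem four_of (hD : IsRootInvolutionSet D) {a b : G} (ha : a ∈ D) (hb : b ∈ D)
    (h1 : a * b ≠ b * a) (h2 : b ∉ oddPartners D a) : orderOf (a * b) = 4 := by
  rcases hD.pair a ha b hb with h | h | h
  · exact absurd h h1
  · exact absurd ⟨hb, fun e => h1 (by rw [e]), h⟩ h2
  · exact h.1

theorem oddPartners_symm {a b : G} (ha : a ∈ D) (h : b ∈ oddPartners D a) : a ∈ oddPartners D b :=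
  ⟨ha, h.2.1.symm, by rw [orderOf_swap]; exact h.2.2⟩

theorem oddPartners_conj (hD : IsRootInvolutionSet D) {a b : G} (g : G)
    (h : b ∈ oddPartners D a) : g * b * g⁻¹ ∈ oddPartners D (g * a * g⁻¹) :=
  ⟨hD.conj_mem b h.1 g, fun e => h.2.1 (mul_left_cancel (mul_right_cancel e)), by
    rw [show g * a * g⁻¹ * (g * b * g⁻¹) = g * (a * b) * g⁻¹ by group, Invol.orderOf_conj]
    exact h.2.2⟩

theorem oddPartners_conj_eq (hD : IsRootInvolutionSet D) (a g : G) :
    oddPartners D (g * a * g⁻¹) = (fun b => g * b * g⁻¹) '' oddPartners D a := by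
  refine Set.Subset.antisymm (fun b hb => ⟨g⁻¹ * b * g⁻¹⁻¹, ?_, by group⟩) ?_
  · have := oddPartners_conj hD g⁻¹ hb
    rwa [show g⁻¹ * (g * a * g⁻¹) * g⁻¹⁻¹ = a by group] at this
  · rintro _ ⟨b, hb, rfl⟩
    exact oddPartners_conj hD g hb

theorem exists_conj_of_odd (hD : IsRootInvolutionSet D) {a b : G} (ha : a ∈ D)
    (h : b ∈ oddPartners D a) : ∃ g : G, g * a * g⁻¹ = b := by
  have h1 := sq_one hD ha
  have h2 := sq_one hD h.1
  obtain ⟨m, hm⟩ := h.2.2
  refine ⟨(b * a) ^ (m + 1), ?_⟩
  have hs : SemiconjBy a (b * a)⁻¹ (b * a) := by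
    show a * (b * a)⁻¹ = b * a * a
    rw [mul_inv_rev, inv_self hD ha, inv_self hD h.1, ← mul_assoc, h1, one_mul, mul_assoc, h1,
      mul_one]
  have hn : (b * a) ^ (2 * m + 1) = 1 := by
    rw [← hm, orderOf_swap, pow_orderOf_eq_one]
  calc (b * a) ^ (m + 1) * a * ((b * a) ^ (m + 1))⁻¹
      = (b * a) ^ (m + 1) * (a * ((b * a)⁻¹) ^ (m + 1)) := by rw [inv_pow, mul_assoc]
    _ = (b * a) ^ (m + 1) * ((b * a) ^ (m + 1) * a) := by rw [(hs.pow_right (m + 1)).eq]
    _ = (b * a) ^ (2 * m + 1) * (b * a * a) := by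
        rw [← mul_assoc, ← pow_add, show m + 1 + (m + 1) = 2 * m + 1 + 1 by ring, pow_succ,
          mul_assoc]
    _ = b := by rw [hn, one_mul, mul_assoc, h1, mul_one]

/-- Two commuting members with product a member. -/
structure IsTriple (D : Set G) (x y : G) : Prop where
  left : x ∈ D
  right : y ∈ D
  prod : x * y ∈ D
  comm : x * y = y * x

theorem IsTriple.symm {x y : G} (h : IsTriple D x y) : IsTriple D y x :=
  ⟨h.right, h.left, h.comm ▸ h.prod, h.comm.symm⟩

theorem IsTriple.other (hD : IsRootInvolutionSet D) {x y : G} (h : IsTriple D x y) :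
    IsTriple D x (x * y) := by
  have e : x * (x * y) = y := by rw [← mul_assoc, sq_one hD h.left, one_mul]
  exact ⟨h.left, h.prod, by rw [e]; exact h.right, by
    rw [e, h.comm, mul_assoc, sq_one hD h.left, mul_one]⟩

/-- The triple `a, (ab)², bab` attached to a product of order four. -/
theorem triple_of_four (hD : IsRootInvolutionSet D) {a b : G} (ha : a ∈ D) (hb : b ∈ D)
    (h : orderOf (a * b) = 4) : IsTriple D a ((a * b) ^ 2) := by
  obtain ⟨h1, h2, -, -, h5, -, -⟩ := four_facts hD ha hb h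
  exact ⟨ha, h1, h5 ▸ conj_mem' hD ha hb, h2.symm⟩

/-- A member with odd product with `x` does not commute with `y`. -/
theorem IsTriple.ne_comm (hD : IsRootInvolutionSet D) {x y z : G} (h : IsTriple D x y)
    (hz : z ∈ oddPartners D x) : z * y ≠ y * z := by
  intro hzy
  have hzD := hz.1
  have ho : Odd (orderOf (z * x)) := by rw [orderOf_swap]; exact hz.2.2
  have hc : Commute (z * x) y := (show Commute z y from hzy).mul_left (show Commute x y from h.comm)
  have he : z * (x * y) = (z * x) * y := (mul_assoc _ _ _).symm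
  by_cases hod : Odd (orderOf (z * (x * y)))
  · obtain ⟨n, hn⟩ : ∃ n, n = orderOf (z * (x * y)) * orderOf (z * x) := ⟨_, rfl⟩
    have hno : Odd n := hn ▸ hod.mul ho
    have h1 : (z * (x * y)) ^ n = 1 := by rw [hn, pow_mul, pow_orderOf_eq_one, one_pow]
    rw [he, hc.mul_pow, hn, pow_mul' (z * x), pow_orderOf_eq_one, one_pow, one_mul, ← hn] at h1
    obtain ⟨k, rfl⟩ := hno
    rw [pow_succ, pow_mul, pow_two, sq_one hD h.right, one_pow, one_mul] at h1
    exact ne_one hD h.right h1
  · have h1 := pow_four_of_not_odd hD hzD h.prod hod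
    rw [he, hc.mul_pow, show y ^ 4 = 1 by rw [show 4 = 2 * 2 by rfl, pow_mul, pow_two y,
      sq_one hD h.right, one_pow], mul_one] at h1
    have h2 := eq_one_of_odd_of_pow (k := 2) ho (by norm_num; exact h1)
    exact hz.2.1 (by rw [eq_inv_of_mul_eq_one_left h2, inv_self hD h.left])

/-- `x`, `y` a triple and `c` with odd product with `x`: one of `y * c`, `x * y * c` has odd order. -/
theorem IsTriple.not_four_four (hD : IsRootInvolutionSet D) {x y c : G} (h : IsTriple D x y)
    (hc : c ∈ oddPartners D x) : ¬ (orderOf (y * c) = 4 ∧ orderOf (x * y * c) = 4) := by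
  rintro ⟨h4, h4'⟩
  obtain ⟨d, hd⟩ : ∃ d, d = x * y := ⟨_, rfl⟩
  rw [← hd] at h4'
  have hdD : d ∈ D := hd ▸ h.prod
  have hy := h.right
  obtain ⟨he1, -, he1c, hsw, -, he1a, -⟩ := four_facts hD hy hc.1 h4
  obtain ⟨he2, -, -, hsw', -, -, -⟩ := four_facts hD hdD hc.1 h4'
  obtain ⟨e₁, he₁⟩ : ∃ e, e = (y * c) ^ 2 := ⟨_, rfl⟩
  obtain ⟨k, hk⟩ : ∃ k, k = y * (d * c) ^ 2 * y := ⟨_, rfl⟩
  have hkD : k ∈ D := hk ▸ conj_mem' hD he2 hy
  rw [← he₁] at he1 he1c he1a
  have hyy := sq_one hD hy
  have hcc := sq_one hD hc.1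
  -- `e₁ * k = (c x)²`
  obtain ⟨r, hr⟩ : ∃ r, r = (c * x) ^ 2 := ⟨_, rfl⟩
  have hek : e₁ * k = r := by
    rw [he₁, hk, hr, ← hsw, ← hsw']
    calc (c * y) ^ 2 * (y * (c * d) ^ 2 * y)
        = c * y * c * (y * y) * c * d * c * (d * y) := by simp only [pow_two, mul_assoc]
      _ = c * y * (c * c) * d * c * (d * y) := by rw [hyy, mul_one]; simp only [mul_assoc]
      _ = c * (y * d) * c * (d * y) := by rw [hcc, mul_one]; simp only [mul_assoc]
      _ = _ := by
          rw [hd, show y * (x * y) = x by rw [h.comm, ← mul_assoc, hyy, one_mul],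
            show x * y * y = x by rw [mul_assoc, hyy, mul_one], pow_two]
          simp only [mul_assoc]
  have hre : e₁ * r * e₁ = r⁻¹ := by
    rw [← hek, mul_inv_rev, inv_self hD he1, inv_self hD hkD, ← mul_assoc, sq_one hD he1, one_mul]
  have hrc : c * r * c = r⁻¹ := by
    rw [hr, ← inv_pow, mul_inv_rev, inv_self hD h.left, inv_self hD hc.1]
    calc c * (c * x) ^ 2 * c = (c * c) * (x * c * x * c) := by simp only [pow_two, mul_assoc]
      _ = (x * c) ^ 2 := by rw [hcc, one_mul, pow_two, mul_assoc (x * c)]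
  have hcomm : Commute (c * e₁) r := by
    show c * e₁ * r = r * (c * e₁)
    have h1 : e₁ * r = r⁻¹ * e₁ := by
      rw [← hre, mul_assoc, sq_one hD he1, mul_one]
    have h2 : c * r⁻¹ = r * c := by
      rw [← hrc, ← mul_assoc, ← mul_assoc, hcc, one_mul]
    rw [mul_assoc, h1, ← mul_assoc, h2, mul_assoc]
  have hck : c * k = (c * e₁) * r := by
    rw [← hek, mul_assoc, ← mul_assoc e₁, sq_one hD he1, one_mul]
  have hce : (c * e₁) ^ 2 = 1 := by
    rw [(show Commute c e₁ from he1c.symm).mul_pow, pow_two, pow_two, hcc, sq_one hD he1, one_mul]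
  have ho : Odd (orderOf (c * x)) := by rw [orderOf_swap]; exact hc.2.2
  obtain ⟨n, hn⟩ : ∃ n, n = orderOf (c * x) := ⟨_, rfl⟩
  have hrn : r ^ n = 1 := by rw [hr, ← pow_mul, mul_comm, pow_mul, hn, pow_orderOf_eq_one, one_pow]
  by_cases hod : Odd (orderOf (c * k))
  · obtain ⟨j, hj⟩ := hod.mul (hn ▸ ho : Odd n)
    have h1 : (c * k) ^ (orderOf (c * k) * n) = 1 := by rw [pow_mul, pow_orderOf_eq_one, one_pow]
    rw [hck, hcomm.mul_pow, pow_mul' r, hrn, one_pow, mul_one] at h1
    rw [← hck, hj, pow_succ, pow_mul, hce, one_pow, one_mul] at h1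
    have h2 : c = e₁ := by rw [eq_inv_of_mul_eq_one_left h1, inv_self hD he1]
    have h3 : y * c * y = 1 := by
      rw [← he1a, ← h2, hcc]
    exact ne_one hD (conj_mem' hD hc.1 hy) h3
  · have h1 := pow_four_of_not_odd hD hc.1 hkD hod
    rw [hck, hcomm.mul_pow, show 4 = 2 * 2 by rfl, pow_mul (c * e₁), hce, one_pow, one_mul,
      hr, ← pow_mul] at h1
    have h2 := eq_one_of_odd_of_pow (k := 3) ho (by norm_num; exact h1)
    exact hc.2.1 (by rw [eq_inv_of_mul_eq_one_left h2, inv_self hD h.left])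

/-- A member with odd product with `x` has odd product with `y` or with `x * y`. -/
theorem IsTriple.odd_or_odd (hD : IsRootInvolutionSet D) {x y c : G} (h : IsTriple D x y)
    (hc : c ∈ oddPartners D x) : c ∈ oddPartners D y ∨ c ∈ oddPartners D (x * y) := by
  by_contra hcon
  rw [not_or] at hcon
  exact h.not_four_four hD hc
    ⟨four_of hD h.right hc.1 (h.ne_comm hD hc).symm hcon.1,
     four_of hD h.prod hc.1 ((h.other hD).ne_comm hD hc).symm hcon.2⟩

/-- Two pairs of order four forming a cycle force a product of order three. -/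
theorem orderOf_eq_three (hD : IsRootInvolutionSet D) {a c e z : G} (ha : a ∈ D) (hc : c ∈ D)
    (hz : z ∈ D) (hac : orderOf (a * c) = 4) (he : (a * c) ^ 2 = e) (hze : orderOf (z * e) = 4)
    (hce : (z * e) ^ 2 = c) : orderOf (z * a) = 3 := by
  obtain ⟨heD, hea, hec, -, e1, e2, hne⟩ := four_facts hD ha hc hac
  rw [he] at heD hea hec e1 e2
  obtain ⟨-, hcz, -, -, f1, f2, -⟩ := four_facts hD hz heD hze
  rw [hce] at hcz f1 f2
  -- `e1 : a e = c a c`, `e2 : c e = a c a`, `f1 : z c = e z e`, `f2 : e c = z e z`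
  have haa := sq_one hD ha
  have hcc := sq_one hD hc
  have hee := sq_one hD heD
  have hzz := sq_one hD hz
  have hza : z * a ≠ a * z := by
    intro h
    apply hne
    have : Commute a ((z * e) ^ 2) :=
      ((show Commute a z from h.symm).mul_right (show Commute a e from hea.symm)).pow_right 2
    rwa [hce] at this
  have hodd : Odd (orderOf (z * a)) := by
    rcases hD.pair z hz a ha with h | h | h
    · exact absurd h hza
    · exact h
    · exfalso
      obtain ⟨hfD, -, hfa, -, g1, g2, -⟩ := four_facts hD hz ha h.1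
      obtain ⟨f, hf⟩ : ∃ f, f = (z * a) ^ 2 := ⟨_, rfl⟩
      rw [← hf] at hfD hfa
      have hzaz : z * a * z = f * a := by
        rw [hf, pow_two, ← mul_assoc, mul_assoc _ a a, haa, mul_one]
      -- conjugation by `c`
      have hcf : c * f * c = f * (c * e) := by
        have hcz' : c * z * c = z := by rw [hcz, mul_assoc, hcc, mul_one]
        calc c * f * c = (c * z * c) * (c * a * c) * (c * z * c) * (c * a * c) := by
              rw [hf, pow_two]
              simp only [mul_assoc, mul_right_inj]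
              simp only [← mul_assoc, hcc, one_mul]
          _ = z * (a * e) * z * (a * e) := by rw [hcz', ← e1]
          _ = z * a * (e * z * e) * a := by
              rw [show z * a * (e * z * e) * a = z * (a * e) * z * (e * a) by simp only [mul_assoc],
                hea]
          _ = z * a * z * c * a := by rw [← f1]; simp only [mul_assoc]
          _ = f * (c * e) := by rw [hzaz, e2]; simp only [mul_assoc]
      have hfcf : f * c * f = e := by
        have h1 : c * f = f * e := by
          calc c * f = c * f * c * c := by rw [mul_assoc _ c c, hcc, mul_one]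
            _ = f * (c * e) * c := by rw [hcf]
            _ = f * e := by rw [← hec, mul_assoc f, mul_assoc e, hcc, mul_one]
        rw [mul_assoc, h1, ← mul_assoc, sq_one hD hfD, one_mul]
      have hfef : f * e * f = c := by
        rw [← hfcf]
        calc f * (f * c * f) * f = (f * f) * c * (f * f) := by simp only [mul_assoc]
          _ = c := by rw [sq_one hD hfD, one_mul, mul_one]
      apply hne
      have hfaf : f * a * f = a := by rw [hfa, mul_assoc, sq_one hD hfD, mul_one]
      calc a * c = (f * a * f) * (f * e * f) := by rw [hfaf, hfef]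
        _ = f * (a * e) * f := by
            rw [show f * a * f * (f * e * f) = f * a * (f * f) * e * f by simp only [mul_assoc],
              sq_one hD hfD, mul_one]
            simp only [mul_assoc]
        _ = f * (e * a) * f := by rw [hea]
        _ = (f * e * f) * (f * a * f) := by
            rw [show f * e * f * (f * a * f) = f * e * (f * f) * a * f by simp only [mul_assoc],
              sq_one hD hfD, mul_one]
            simp only [mul_assoc]
        _ = c * a := by rw [hfaf, hfef]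
  obtain ⟨t, ht⟩ : ∃ t, t = z * a := ⟨_, rfl⟩
  have htinv : t⁻¹ = a * z := by rw [ht, mul_inv_rev, inv_self hD ha, inv_self hD hz]
  -- `t` permutes `e, c, e c` cyclically
  have hzcz : z * c * z = c := by rw [← hcz, mul_assoc, hzz, mul_one]
  have t1 : t * c * t⁻¹ = e := by
    rw [htinv, ht, show z * a * c * (a * z) = z * (a * c * a) * z by simp only [mul_assoc], ← e2,
      show z * (c * e) * z = (z * c * z) * (z * e * z) by
        simp only [mul_assoc]; rw [← mul_assoc z z, hzz, one_mul],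
      hzcz, ← f2, ← mul_assoc, ← hec, mul_assoc, hcc, mul_one]
  have t2 : t * e * t⁻¹ = e * c := by
    rw [htinv, ht, show z * a * e * (a * z) = z * (a * e * a) * z by simp only [mul_assoc],
      ← hea, mul_assoc e a a, haa, mul_one, f2]
  have t3 : t * (e * c) * t⁻¹ = c := by
    rw [show t * (e * c) * t⁻¹ = (t * e * t⁻¹) * (t * c * t⁻¹) by group, t1, t2, hec,
      mul_assoc, hee, mul_one]
  obtain ⟨r, hr⟩ : ∃ r, r = t ^ 3 := ⟨_, rfl⟩
  have hre : r * e * r⁻¹ = e := by
    rw [hr, show t ^ 3 * e * (t ^ 3)⁻¹ = t * (t * (t * e * t⁻¹) * t⁻¹) * t⁻¹ by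
      simp only [pow_succ, pow_zero, one_mul, mul_inv_rev, mul_assoc], t2, t3, t1]
  have hr1 : r = 1 := by
    by_contra hr1
    obtain ⟨a2, ha2⟩ : ∃ a2, a2 = r * a * r⁻¹ := ⟨_, rfl⟩
    have hinv : a * r * a = r⁻¹ := by
      have h1 : a * t * a⁻¹ = t⁻¹ := by
        rw [htinv, ht, inv_self hD ha, mul_assoc, mul_assoc, haa, mul_one]
      rw [hr, ← inv_pow, ← h1, conj_pow, inv_self hD ha]
    have hprod : a * a2 = (r⁻¹) ^ 2 := by
      rw [ha2, ← mul_assoc, ← mul_assoc, hinv, pow_two]
    have hro : Odd (orderOf (a * a2)) := by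
      have hrn : Odd (orderOf r⁻¹) := by
        rw [orderOf_inv, hr]
        exact hodd.of_dvd_nat (ht ▸ orderOf_pow_dvd 3)
      rw [hprod]
      exact hrn.of_dvd_nat (orderOf_pow_dvd 2)
    have hne2 : a2 ≠ a := by
      intro h
      rw [h, haa] at hprod
      have : Odd (orderOf r⁻¹) := by
        rw [orderOf_inv, hr]
        exact hodd.of_dvd_nat (ht ▸ orderOf_pow_dvd 3)
      exact hr1 (inv_eq_one.1 (eq_one_of_odd_of_pow (k := 1) this (by rw [pow_one]; exact hprod.symm)))
    refine (triple_of_four hD ha hc hac).ne_comm hD ⟨ha2 ▸ hD.conj_mem a ha r, hne2, hro⟩ ?_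
    rw [he, ha2]
    calc r * a * r⁻¹ * e = r * a * r⁻¹ * (r * e * r⁻¹) := by rw [hre]
      _ = r * (a * e) * r⁻¹ := by group
      _ = r * (e * a) * r⁻¹ := by rw [hea]
      _ = (r * e * r⁻¹) * (r * a * r⁻¹) := by group
      _ = _ := by rw [hre]
  refine orderOf_eq_prime (ht ▸ hr ▸ hr1) fun h => hza ?_
  rw [eq_inv_of_mul_eq_one_left h, inv_self hD ha]

section Chain

/-- `(t v) ^ m = F v * t ^ m` with `F` multiplicative on a commutative subgroup normalised by `t`. -/
theorem pow_mul_split {V : Subgroup G} {t : G} (hV : ∀ v ∈ V, ∀ w ∈ V, v * w = w * v)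
    (ht : ∀ v ∈ V, t * v * t⁻¹ ∈ V) (m : ℕ) :
    ∀ v ∈ V, ∀ w ∈ V, (t * v) ^ m * (t ^ m)⁻¹ ∈ V ∧
      (t * (v * w)) ^ m * (t ^ m)⁻¹ = (t * v) ^ m * (t ^ m)⁻¹ * ((t * w) ^ m * (t ^ m)⁻¹) := by
  induction m with
  | zero => intro v _ w _; simp
  | succ m ih =>
    intro v hv w hw
    have key : ∀ u, (t * u) ^ (m + 1) * (t ^ (m + 1))⁻¹ = t * (u * ((t * u) ^ m * (t ^ m)⁻¹)) * t⁻¹ := by
      intro u
      rw [pow_succ', pow_succ' t, mul_inv_rev]
      simp only [mul_assoc]
    rw [key, key, key]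
    obtain ⟨h1, h2⟩ := ih v hv w hw
    have h3 := (ih w hw v hv).1
    refine ⟨ht _ (mul_mem hv h1), ?_⟩
    rw [h2]
    generalize (t * v) ^ m * (t ^ m)⁻¹ = A at h1
    generalize (t * w) ^ m * (t ^ m)⁻¹ = B at h3
    have e : v * w * (A * B) = v * A * (w * B) := by
      rw [mul_assoc, ← mul_assoc w, hV w hw A h1]
      simp only [mul_assoc]
    rw [e]
    group

theorem alternate_commute {s h : ℕ → G} (hs : ∀ i, s i * s i = 1) (_hh : ∀ i, h i * h i = 1)
    (hstep : ∀ i, s (i + 1) = (h i * s i) ^ 2) (hper : ∀ i, h (i + 2) = h i)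
    (h1 : ∀ i, Commute (s i) (h (i + 1))) (h2 : ∀ i, Commute (s (i + 1)) (s i))
    (h3 : ∀ i, s i * h i * s i = h i * s (i + 1)) : ∀ i j, Commute (s i) (s j) := by
  have hh' : ∀ i j, i % 2 = j % 2 → h i = h j := by
    have : ∀ i, h i = h (i % 2) := by
      intro i
      induction i using Nat.strong_induction_on with
      | _ i ih =>
        rcases i with _ | _ | i
        · rfl
        · rfl
        · rw [hper, ih i (by omega), show (i + 1 + 1) % 2 = i % 2 by omega]
    intro i j hij
    rw [this i, this j, hij]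
  suffices H : ∀ n, ∀ i ≤ n, ∀ j ≤ n, Commute (s i) (s j) from
    fun i j => H (max i j) i (le_max_left _ _) j (le_max_right _ _)
  intro n
  induction n with
  | zero => intro i hi j hj; rw [Nat.le_zero.1 hi, Nat.le_zero.1 hj]
  | succ n ih =>
    have hnew : ∀ i ≤ n, Commute (s i) (s (n + 1)) := by
      intro i hi
      rcases Nat.lt_or_eq_of_le hi with hlt | rfl
      swap
      · exact (h2 i).symm
      by_cases hp : i % 2 = n % 2
      · have e := hh' i n hp
        have hi1 : i + 1 ≤ n := hlt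
        have c1 : Commute (s (i + 1)) (h n) := by
          have := h1 (i + 1)
          rwa [hh' (i + 1 + 1) n (by omega)] at this
        have c2 : Commute (s (i + 1)) (s n) := ih (i + 1) hi1 n le_rfl
        have c3 : Commute (s i) (s n) := ih i hi n le_rfl
        have key : s i * (h n * s n) * s i = h n * s n * s (i + 1) := by
          calc s i * (h n * s n) * s i = s i * h n * (s n * s i) := by simp only [mul_assoc]
            _ = s i * h n * s i * s n := by rw [← c3.eq]; simp only [mul_assoc]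
            _ = h n * s (i + 1) * s n := by rw [← e, h3, e]
            _ = _ := by rw [mul_assoc, c2.eq, mul_assoc]
        have hc : Commute (h n * s n) (s (i + 1)) := c1.symm.mul_left c2.symm
        rw [hstep n]
        show s i * (h n * s n) ^ 2 = (h n * s n) ^ 2 * s i
        have h5 : s i * (h n * s n) ^ 2 * s i = (h n * s n) ^ 2 := by
          calc s i * (h n * s n) ^ 2 * s i
              = (s i * (h n * s n) * s i) * (s i * (h n * s n) * s i) := by
                simp only [pow_two, mul_assoc, mul_right_inj]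
                rw [← mul_assoc (s i) (s i), hs, one_mul]
            _ = (h n * s n * s (i + 1)) ^ 2 := by rw [key, pow_two]
            _ = _ := by rw [hc.mul_pow, pow_two (s (i + 1)), hs, mul_one]
        conv_rhs => rw [← h5, mul_assoc, hs, mul_one]
      · have e : h (i + 1) = h n := hh' _ _ (by omega)
        rw [hstep n]
        exact (e ▸ h1 i).mul_right (ih i hi n le_rfl) |>.pow_right 2
    intro i hi j hj
    rcases Nat.lt_or_eq_of_le hi with hi' | rfl <;> rcases Nat.lt_or_eq_of_le hj with hj' | rfl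
    · exact ih i (by omega) j (by omega)
    · exact hnew i (by omega)
    · exact (hnew j (by omega)).symm
    · exact Commute.refl _

variable [Finite G]

/-- If `g` has odd product with `e` and a product of order four with the partner `c` of `e`, then
`c` is the square of a product of order four with `e`. -/
theorem exists_four_root (hD : IsRootInvolutionSet D) {c e g : G} (hce : IsTriple D c e)
    (hg : g ∈ oddPartners D e) (hgc : orderOf (g * c) = 4) :
    ∃ z ∈ D, orderOf (z * e) = 4 ∧ (z * e) ^ 2 = c := by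
  obtain ⟨hgD, hge, hgodd⟩ := hg
  have heD := hce.right
  have step : ∀ y, IsTriple D y e → orderOf (g * y) = 4 →
      (g * y) ^ 2 ∈ D ∧ orderOf (e * (g * y) ^ 2) = 4 ∧
        IsTriple D ((e * (g * y) ^ 2) ^ 2) e ∧ orderOf (g * (e * (g * y) ^ 2) ^ 2) = 4 := by
    intro y hy h4
    obtain ⟨hzD, hzg, hzy, -, -, hyz, -⟩ := four_facts hD hgD hy.left h4
    obtain ⟨z, hz⟩ : ∃ z, z = (g * y) ^ 2 := ⟨_, rfl⟩
    rw [← hz] at hzD hzg hzy hyz ⊢
    have htg : IsTriple D g z := hz ▸ triple_of_four hD hgD hy.left h4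
    have htz : IsTriple D z y := ⟨hzD, hy.left, by
      rw [hzy, hyz]; exact conj_mem' hD hy.left hgD, hzy⟩
    have hez : e * z ≠ z * e := htg.ne_comm hD (oddPartners_symm heD ⟨hgD, hge, hgodd⟩ : e ∈ _)
    have h4' : orderOf (e * z) = 4 := by
      refine four_of hD heD hzD hez fun h => ?_
      exact htz.ne_comm hD (oddPartners_symm heD h) hy.comm.symm
    have htk := (triple_of_four hD heD hzD h4').symm
    refine ⟨hzD, h4', htk, four_of hD hgD htk.left ?_ fun h => ?_⟩
    · exact (htk.symm.ne_comm hD ⟨hgD, hge, hgodd⟩)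
    · obtain ⟨hkD, -, hkz, -, -, hzk, -⟩ := four_facts hD heD hzD h4'
      have htkz : IsTriple D ((e * z) ^ 2) z := ⟨hkD, hzD, by
        rw [hkz, hzk]; exact conj_mem' hD hzD heD, hkz⟩
      exact htkz.ne_comm hD (oddPartners_symm hgD h) hzg.symm
  obtain ⟨hh, hhdef⟩ : ∃ h : ℕ → G, h = fun i => if i % 2 = 0 then g else e := ⟨_, rfl⟩
  obtain ⟨s, hs0, hstep⟩ : ∃ s : ℕ → G, s 0 = c ∧ ∀ i, s (i + 1) = (hh i * s i) ^ 2 :=
    ⟨fun i => Nat.rec c (fun i x => (hh i * x) ^ 2) i, rfl, fun i => rfl⟩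
  have hev : ∀ i, hh (2 * i) = g := fun i => by simp [hhdef]
  have hod : ∀ i, hh (2 * i + 1) = e := fun i => by simp [hhdef, Nat.add_mod]
  have hX : ∀ i, IsTriple D (s (2 * i)) e ∧ orderOf (g * s (2 * i)) = 4 := by
    intro i
    induction i with
    | zero => exact ⟨hs0.symm ▸ hce, hs0.symm ▸ hgc⟩
    | succ i ih =>
      obtain ⟨-, -, h3, h4⟩ := step _ ih.1 ih.2
      have e' : s (2 * (i + 1)) = (e * (g * s (2 * i)) ^ 2) ^ 2 := by
        rw [show 2 * (i + 1) = 2 * i + 1 + 1 by ring, hstep, hod, hstep, hev]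
      rw [e']
      exact ⟨h3, h4⟩
  have hall : ∀ i, s i ∈ D ∧ hh i ∈ D ∧ orderOf (hh i * s i) = 4 ∧ Commute (s i) (hh (i + 1)) := by
    intro i
    obtain ⟨j, rfl | rfl⟩ := Nat.even_or_odd' i
    · obtain ⟨h1, h2⟩ := hX j
      rw [hev, hod]
      exact ⟨h1.left, hgD, h2, h1.comm⟩
    · obtain ⟨h1, h2⟩ := hX j
      obtain ⟨h3, h4, -, -⟩ := step _ h1 h2
      obtain ⟨-, hzg, -⟩ := four_facts hD hgD h1.left h2
      have e' : s (2 * j + 1) = (g * s (2 * j)) ^ 2 := by rw [hstep, hev]
      rw [hod, e', show 2 * j + 1 + 1 = 2 * (j + 1) by ring, hev]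
      exact ⟨h3, heD, h4, hzg⟩
  have hff := fun i => four_facts hD (hall i).2.1 (hall i).1 (hall i).2.2.1
  have hss : ∀ i, s i * s i = 1 := fun i => sq_one hD (hall i).1
  have hhh : ∀ i, hh i * hh i = 1 := fun i => sq_one hD (hall i).2.1
  have hcomm := alternate_commute hss hhh hstep (fun i => by simp [hhdef, Nat.add_mod_right])
    (fun i => (hall i).2.2.2)
    (fun i => by rw [hstep]; exact (hff i).2.2.1)
    (fun i => by rw [hstep]; exact (hff i).2.2.2.2.1.symm)
  -- the subgroup generated by the chain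
  obtain ⟨V, hV⟩ : ∃ V, V = Subgroup.closure (Set.range s) := ⟨_, rfl⟩
  have hsV : ∀ i, s i ∈ V := fun i => hV ▸ Subgroup.subset_closure ⟨i, rfl⟩
  have hVc : ∀ v ∈ V, ∀ w ∈ V, v * w = w * v := by
    have h1 : V ≤ Subgroup.centralizer (Set.range s) := by
      rw [hV, Subgroup.closure_le]
      rintro _ ⟨i, rfl⟩
      rw [SetLike.mem_coe, Subgroup.mem_centralizer_iff]
      rintro _ ⟨j, rfl⟩
      exact (hcomm j i).eq
    intro v hv w hw
    have h2 : V ≤ Subgroup.centralizer {v} := by
      rw [hV, Subgroup.closure_le]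
      rintro _ ⟨i, rfl⟩
      rw [SetLike.mem_coe, Subgroup.mem_centralizer_singleton_iff]
      exact (Subgroup.mem_centralizer_iff.1 (h1 hv) (s i) ⟨i, rfl⟩)
    exact (Subgroup.mem_centralizer_singleton_iff.1 (h2 hw)).symm
  have hV2 : ∀ v ∈ V, v * v = 1 := by
    intro v hv
    rw [hV] at hv
    induction hv using Subgroup.closure_induction with
    | mem x hx => obtain ⟨i, rfl⟩ := hx; exact hss i
    | one => rw [one_mul]
    | mul x y hx hy ex ey =>
      rw [(show Commute y x from hVc y (hV ▸ hy) x (hV ▸ hx)).mul_mul_mul_comm, ex, ey, one_mul]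
    | inv x _ ex => rw [← mul_inv_rev, ex, inv_one]
  have hsh : ∀ i j, hh j * s i * hh j = s i ∨ (hh j = hh i ∧ hh j * s i * hh j = s (i + 1) * s i) := by
    intro i j
    by_cases hp : i % 2 = j % 2
    · refine Or.inr ⟨by simp [hhdef, hp], ?_⟩
      have e' : hh j = hh i := by simp [hhdef, hp]
      rw [e', hstep, pow_two, mul_assoc _ (hh i * s i) (s i), mul_assoc (hh i) (s i) (s i), hss,
        mul_one]
    · have e' : hh j = hh (i + 1) := by
        have : (j % 2 = 0) ↔ ((i + 1) % 2 = 0) := by omega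
        simp [hhdef, this]
      refine Or.inl ?_
      rw [e', ← (hall i).2.2.2.eq, mul_assoc, hhh, mul_one]
  have hnorm : ∀ j, ∀ v ∈ V, hh j * v * hh j ∈ V := by
    intro j v hv
    rw [hV] at hv
    induction hv using Subgroup.closure_induction with
    | mem x hx =>
      obtain ⟨i, rfl⟩ := hx
      rcases hsh i j with h | ⟨-, h⟩
      · rw [h]; exact hsV i
      · rw [h]; exact mul_mem (hsV _) (hsV _)
    | one => rw [mul_one, hhh]; exact one_mem _
    | mul x y _ _ ex ey =>
      have := mul_mem ex ey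
      rwa [show hh j * x * hh j * (hh j * y * hh j) = hh j * x * (hh j * hh j) * y * hh j by
        simp only [mul_assoc], hhh, mul_one, mul_assoc (hh j) x y] at this
    | inv x _ ex =>
      have := inv_mem ex
      rwa [mul_inv_rev, mul_inv_rev, inv_eq_of_mul_eq_one_right (hhh j), ← mul_assoc] at this
  have hVg : ∀ v ∈ V, g * v * g ∈ V := fun v hv => hev 0 ▸ hnorm _ v hv
  have hVe : ∀ v ∈ V, e * v * e ∈ V := fun v hv => hod 0 ▸ hnorm _ v hv
  obtain ⟨t, ht⟩ : ∃ t, t = g * e := ⟨_, rfl⟩
  have hgg := sq_one hD hgD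
  have hee := sq_one hD heD
  have htinv : t⁻¹ = e * g := by rw [ht, mul_inv_rev, inv_self hD hgD, inv_self hD heD]
  have htV : ∀ v ∈ V, t * v * t⁻¹ ∈ V := fun v hv => by
    rw [htinv, ht, show g * e * v * (e * g) = g * (e * v * e) * g by simp only [mul_assoc]]
    exact hVg _ (hVe v hv)
  obtain ⟨n, hn⟩ : ∃ n, n = orderOf t := ⟨_, rfl⟩
  have hnodd : Odd n := by rw [hn, ht, orderOf_swap]; exact hgodd
  have htn : t ^ n = 1 := hn ▸ pow_orderOf_eq_one t
  have hmulP : ∀ v ∈ V, ∀ w ∈ V, (t * v) ^ n = 1 → (t * w) ^ n = 1 → (t * (v * w)) ^ n = 1 := by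
    intro v hv w hw h1 h2
    have := (pow_mul_split hVc htV n v hv w hw).2
    rwa [htn, inv_one, mul_one, mul_one, mul_one, h1, h2, one_mul] at this
  have hconjP : ∀ v ∈ V, (t * v) ^ n = 1 → ∀ h : G, h * h = 1 → h * t * h = t⁻¹ →
      (t * (h * v * h)) ^ n = 1 := by
    intro v hv h1 h hh1 hh2
    have e1 : t * h = h * t⁻¹ := by rw [← hh2, ← mul_assoc, ← mul_assoc, hh1, one_mul]
    have hi : h⁻¹ = h := inv_eq_of_mul_eq_one_right hh1
    have e2 : t * (h * v * h) = h * (v * t)⁻¹ * h⁻¹ := by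
      rw [mul_inv_rev, inv_eq_of_mul_eq_one_right (hV2 v hv), hi, ← mul_assoc, ← mul_assoc, e1,
        mul_assoc h t⁻¹ v]
    rw [e2, conj_pow, inv_pow, show v * t = v * (t * v) * v⁻¹ by group, conj_pow, h1]
    group
  have hinvg : g * t * g = t⁻¹ := by rw [htinv, ht, ← mul_assoc, hgg, one_mul]
  have hinve : e * t * e = t⁻¹ := by
    rw [htinv, ht, mul_assoc e, mul_assoc g e e, hee, mul_one]
  have hP : ∀ i, (t * s i) ^ n = 1 := by
    intro i
    induction i with
    | zero =>
      rw [hs0]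
      have htc : t * c = g * (c * e) := by rw [ht, mul_assoc, hce.comm]
      have hodd' : Odd (orderOf (g * (c * e))) := by
        rcases hce.symm.odd_or_odd hD ⟨hgD, hge, hgodd⟩ with h | h
        · exact absurd (orderOf_swap c g ▸ h.2.2) (not_odd_of_four hgc)
        · rw [hce.comm, orderOf_swap]; exact h.2.2
      have hX : (t * c) ^ n * (t * c) ^ n = 1 := by
        have := (pow_mul_split hVc htV n c (hs0 ▸ hsV 0) 1 (one_mem _)).1
        rw [htn, inv_one, mul_one] at this
        exact hV2 _ this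
      rw [← pow_add, ← two_mul, htc] at hX
      rw [htc, ← orderOf_dvd_iff_pow_eq_one]
      exact (Nat.coprime_two_right.2 hodd').dvd_of_dvd_mul_left (orderOf_dvd_of_pow_eq_one hX)
    | succ i ih =>
      have hcase : hh i = g ∨ hh i = e := by simp only [hhdef]; split_ifs <;> simp
      have h1 : (t * (hh i * s i * hh i)) ^ n = 1 := by
        rcases hcase with h | h <;> rw [h]
        · exact hconjP _ (hsV i) ih g hgg hinvg
        · exact hconjP _ (hsV i) ih e hee hinve
      rcases hsh i i with h | ⟨-, h⟩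
      · exfalso
        refine (hff i).2.2.2.2.2.2 ?_
        calc hh i * s i = hh i * s i * hh i * hh i := by rw [mul_assoc _ (hh i), hhh, mul_one]
          _ = _ := by rw [h]
      · have h2 := hmulP _ (hnorm i _ (hsV i)) _ (hsV i) h1 ih
        rwa [h, mul_assoc (s (i + 1)), hss, mul_one] at h2
  have hfix : ∀ v ∈ V, g * v * g = v → e * v * e = v → v = 1 := by
    intro v hv hgv hev'
    have hPv : (t * v) ^ n = 1 := by
      have : ∀ u ∈ V, (t * u) ^ n = 1 := by
        intro u hu
        rw [hV] at hu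
        induction hu using Subgroup.closure_induction with
        | mem x hx => obtain ⟨i, rfl⟩ := hx; exact hP i
        | one => rw [mul_one, htn]
        | mul x y hx hy ex ey => exact hmulP x (hV ▸ hx) y (hV ▸ hy) ex ey
        | inv x hx ex => rwa [inv_eq_of_mul_eq_one_right (hV2 x (hV ▸ hx))]
      exact this v hv
    have hc1 : Commute g v := by
      show g * v = v * g
      conv_rhs => rw [← hgv, mul_assoc, hgg, mul_one]
    have hc2 : Commute e v := by
      show e * v = v * e
      conv_rhs => rw [← hev', mul_assoc, hee, mul_one]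
    rw [(ht ▸ hc1.mul_left hc2 : Commute t v).mul_pow, htn, one_mul] at hPv
    obtain ⟨k, hk⟩ := hnodd
    rwa [hk, pow_succ, pow_mul, pow_two, hV2 v hv, one_pow, one_mul] at hPv
  -- the step map is injective
  have hinj : ∀ i j, s (2 * i + 2) = s (2 * j + 2) → s (2 * i) = s (2 * j) := by
    intro i j hij
    have key : ∀ i, g * s (2 * i) * g = s (2 * i + 1) * s (2 * i) := by
      intro i
      rw [hstep, hev, pow_two, mul_assoc _ (g * s (2 * i)) (s (2 * i)),
        mul_assoc g (s (2 * i)) (s (2 * i)), hss, mul_one]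
    have key' : ∀ i, e * s (2 * i + 1) * e = s (2 * i + 2) * s (2 * i + 1) := by
      intro i
      rw [hstep (2 * i + 1), hod, pow_two, mul_assoc _ (e * s (2 * i + 1)) (s (2 * i + 1)),
        mul_assoc e (s (2 * i + 1)) (s (2 * i + 1)), hss, mul_one]
    have hmul : ∀ h x y : G, h * h = 1 → h * (x * y) * h = (h * x * h) * (h * y * h) := by
      intro h x y hh1
      rw [show h * x * h * (h * y * h) = h * x * (h * h) * y * h by simp only [mul_assoc], hh1,
        mul_one]
      simp only [mul_assoc]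
    obtain ⟨w, hw⟩ : ∃ w, w = s (2 * i + 1) * s (2 * j + 1) := ⟨_, rfl⟩
    have hw1 : w = 1 := by
      refine hfix w (hw ▸ mul_mem (hsV _) (hsV _)) ?_ ?_
      · have hc : ∀ i, g * s (2 * i + 1) * g = s (2 * i + 1) := by
          intro i
          have := (hall (2 * i + 1)).2.2.2
          rw [show 2 * i + 1 + 1 = 2 * (i + 1) by ring, hev] at this
          rw [← this.eq, mul_assoc, hgg, mul_one]
        rw [hw, hmul g _ _ hgg, hc, hc]
      · rw [hw, hmul e _ _ hee, key', key', hij]
        rw [(hcomm (2 * i + 1) (2 * j + 2)).mul_mul_mul_comm, hss, one_mul]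
    have h1 : s (2 * i) * s (2 * j) = 1 := by
      refine hfix _ (mul_mem (hsV _) (hsV _)) ?_ ?_
      · rw [hmul g _ _ hgg, key, key, (hcomm (2 * i) (2 * j + 1)).mul_mul_mul_comm, ← hw, hw1,
          one_mul]
      · have hc : ∀ i, e * s (2 * i) * e = s (2 * i) := fun i => by
          rw [← (hX i).1.comm, mul_assoc, hee, mul_one]
        rw [hmul e _ _ hee, hc, hc]
    rw [eq_inv_of_mul_eq_one_left h1, inv_eq_of_mul_eq_one_right (hss _)]
  obtain ⟨i, j, hij, he'⟩ := Finite.exists_ne_map_eq_of_infinite (fun i => s (2 * i))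
  have hdesc : ∀ k i, s (2 * i) = s (2 * (i + k)) → s 0 = s (2 * k) := by
    intro k i
    induction i with
    | zero => rw [zero_add]; exact id
    | succ i ih =>
      intro h
      refine ih (hinj i (i + k) ?_)
      rwa [show 2 * i + 2 = 2 * (i + 1) by ring, show 2 * (i + k) + 2 = 2 * (i + 1 + k) by ring]
  obtain ⟨p, hp⟩ : ∃ p, s 0 = s (2 * (p + 1)) := by
    rcases Nat.lt_or_gt_of_ne hij with h | h
    · refine ⟨j - i - 1, hdesc _ i ?_⟩
      rw [show i + (j - i - 1 + 1) = j by omega]
      exact he'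
    · refine ⟨i - j - 1, hdesc _ j ?_⟩
      rw [show j + (i - j - 1 + 1) = i by omega]
      exact he'.symm
  obtain ⟨h1, -, h3, -⟩ := hall (2 * p + 1)
  rw [hod] at h3
  refine ⟨s (2 * p + 1), h1, by rw [orderOf_swap]; exact h3, ?_⟩
  obtain ⟨-, -, -, h4, -⟩ := four_facts hD heD h1 h3
  rw [h4, ← hs0, hp, show 2 * (p + 1) = 2 * p + 1 + 1 by ring, hstep (2 * p + 1), hod]

end Chain

section Connected

variable [Finite G]

omit [Finite G] in
theorem exists_conj_of_connected (hD : IsRootInvolutionSet D) {a b : G} (_ha : a ∈ D)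
    (h : Relation.ReflTransGen (OddAdj D) a b) : ∃ g : G, g * a * g⁻¹ = b := by
  induction h with
  | refl => exact ⟨1, by simp⟩
  | tail _ hbc ih =>
    obtain ⟨g, rfl⟩ := ih
    obtain ⟨h, hh⟩ := exists_conj_of_odd hD hbc.1 ⟨hbc.2.1, hbc.2.2.1.symm, hbc.2.2.2⟩
    exact ⟨h * g, by rw [← hh]; group⟩

omit [Finite G] in
theorem exists_partner (hc : IsConnectedSet (OddAdj D) D) {a b y : G} (ha : a ∈ D) (hb : b ∈ D)
    (hab : a ≠ b) (hy : y ∈ D) : ∃ g, g ∈ oddPartners D y := by
  obtain ⟨u, hu, huy⟩ : ∃ u ∈ D, y ≠ u := by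
    by_cases h : y = a
    · exact ⟨b, hb, h ▸ hab⟩
    · exact ⟨a, ha, h⟩
  rcases Relation.ReflTransGen.cases_head (hc y hy u hu) with h | ⟨v, h, -⟩
  · exact absurd h huy
  · exact ⟨v, h.2.1, h.2.2.1.symm, h.2.2.2⟩

theorem eq_of_subset (hD : IsRootInvolutionSet D) (hc : IsConnectedSet (OddAdj D) D) {a b : G}
    (ha : a ∈ D) (hb : b ∈ D) (h : oddPartners D a ⊆ oddPartners D b) :
    oddPartners D a = oddPartners D b := by
  obtain ⟨g, rfl⟩ := exists_conj_of_connected hD ha (hc a ha b hb)
  refine Set.eq_of_subset_of_ncard_le h ?_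
  rw [oddPartners_conj_eq hD]
  exact Set.ncard_image_le

omit [Finite G] in
/-- Members with the same odd partners as `y` are permuted by the elements sending one of them to one. -/
theorem class_conj (hD : IsRootInvolutionSet D) {y g : G} {T : Set G}
    (hT : ∀ v, v ∈ T ↔ v ∈ D ∧ oddPartners D v = oddPartners D y) {u : G} (hu : u ∈ T)
    (hgu : g * u * g⁻¹ ∈ T) {v : G} (hv : v ∈ T) : g * v * g⁻¹ ∈ T := by
  rw [hT] at hu hgu hv ⊢
  refine ⟨hD.conj_mem v hv.1 g, ?_⟩
  rw [oddPartners_conj_eq hD, hv.2, ← hu.2, ← oddPartners_conj_eq hD]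
  exact hgu.2.trans hu.2.symm

/-- Members with a product of order four have different odd partners. -/
theorem ne_of_four (hD : IsRootInvolutionSet D) (hc : IsConnectedSet (OddAdj D) D) {a b : G}
    (ha : a ∈ D) (hb : b ∈ D) (h4 : orderOf (a * b) = 4) : oddPartners D a ≠ oddPartners D b := by
  intro hAB
  obtain ⟨T, hT⟩ : ∃ T : Set G, T = {v | v ∈ D ∧ oddPartners D v = oddPartners D a} := ⟨_, rfl⟩
  have hmem : ∀ v, v ∈ T ↔ v ∈ D ∧ oddPartners D v = oddPartners D a := fun v => by rw [hT]; rfl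
  have haT : a ∈ T := (hmem a).2 ⟨ha, rfl⟩
  have hbT : b ∈ T := (hmem b).2 ⟨hb, hAB.symm⟩
  have hself : ∀ u ∈ T, ∀ v ∈ T, u * v * u⁻¹ ∈ T := fun u hu v hv => by
    refine class_conj hD hmem hu ?_ hv
    rwa [mul_inv_cancel_right]
  obtain ⟨heD, -, -, -, e1, -, hne⟩ := four_facts hD ha hb h4
  obtain ⟨e, he⟩ : ∃ e, e = (a * b) ^ 2 := ⟨_, rfl⟩
  rw [← he] at heD e1
  have hbab : b * a * b ∈ T := by
    have := hself b hbT a haT
    rwa [inv_self hD hb] at this
  have htr : IsTriple D e a := (he ▸ triple_of_four hD ha hb h4).symm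
  have heT : e ∈ T := by
    refine (hmem e).2 ⟨heD, eq_of_subset hD hc heD ha fun g hg => ?_⟩
    rcases htr.odd_or_odd hD hg with h | h
    · exact h
    · rw [htr.comm, e1, ((hmem _).1 hbab).2] at h
      exact h
  obtain ⟨K, hK⟩ : ∃ K, K = Subgroup.closure T := ⟨_, rfl⟩
  have hKT : ∀ v ∈ T, v ∈ K := fun v hv => hK ▸ Subgroup.subset_closure hv
  have hKc : ∀ x ∈ K, ∀ v ∈ T, x * v * x⁻¹ ∈ T ∧ x⁻¹ * v * x ∈ T := by
    intro x hx
    rw [hK] at hx
    induction hx using Subgroup.closure_induction with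
    | mem u hu =>
      intro v hv
      have hi := inv_self hD ((hmem u).1 hu).1
      refine ⟨hself u hu v hv, ?_⟩
      have := hself u hu v hv
      rwa [hi] at this ⊢
    | one => simp
    | mul x y _ _ ex ey =>
      intro v hv
      constructor
      · have := (ex _ (ey v hv).1).1
        rwa [show x * (y * v * y⁻¹) * x⁻¹ = x * y * v * (x * y)⁻¹ by group] at this
      · have := (ey _ (ex v hv).2).2
        rwa [show y⁻¹ * (x⁻¹ * v * x) * y = (x * y)⁻¹ * v * (x * y) by group] at this
    | inv x _ ex => intro v hv; rw [inv_inv]; exact ⟨(ex v hv).2, (ex v hv).1⟩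
  -- `K` is a `2`-group
  have : Fact (Nat.Prime 2) := ⟨Nat.prime_two⟩
  have hK2 : IsPGroup 2 ↥K := by
    obtain ⟨N, -, hN2, hTN⟩ := Invol.baerSuzuki_normal_set (G := ↥K) (p := 2)
      {x | (x : G) ∈ T} (fun g x hx => (hKc g g.2 x hx).1) (by
        intro u hu v hv
        have hu' := ((hmem _).1 hu).1
        have hv' := ((hmem _).1 hv).1
        have hu2 : u * u = 1 := Subtype.ext (sq_one hD hu')
        have hv2 : v * v = 1 := Subtype.ext (sq_one hD hv')
        have huv : (u * v) ^ 4 = 1 := Subtype.ext (by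
          push_cast
          by_cases h : (u : G) = v
          · rw [h, sq_one hD hv', one_pow]
          · refine pow_four_of_not_odd hD hu' hv' fun ho => ?_
            have h1 : (v : G) ∈ oddPartners D (u : G) := ⟨hv', Ne.symm h, ho⟩
            rw [((hmem _).1 hu).2, ← ((hmem _).1 hv).2] at h1
            exact h1.2.1 rfl)
        rintro ⟨x, hx⟩
        obtain ⟨k, rfl | rfl⟩ := (Invol.mem_closure_pair_iff hu2 hv2).1 hx
        · refine ⟨2, Subtype.ext ?_⟩
          push_cast
          rw [← zpow_natCast, ← zpow_mul, mul_comm, zpow_mul]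
          simp [huv]
        · refine ⟨1, Subtype.ext ?_⟩
          push_cast
          rw [pow_two]
          exact Invol.mul_zpow_self hu2 (Invol.conj_mul_eq_inv hu2 hv2) k)
    have hTop : N = ⊤ := by
      refine top_le_iff.1 ?_
      have h1 : Subgroup.closure ((K.subtype) ⁻¹' T) ≤ N := (Subgroup.closure_le _).2 hTN
      refine le_trans (le_of_eq ?_) h1
      apply Subgroup.map_injective (K.subtype_injective)
      rw [MonoidHom.map_closure, ← MonoidHom.range_eq_map, K.range_subtype,
        Set.image_preimage_eq_of_subset, ← hK]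
      intro v hv
      exact ⟨⟨v, hKT v hv⟩, rfl⟩
    rw [hTop] at hN2
    exact hN2.of_equiv Subgroup.topEquiv
  have : Group.IsNilpotent ↥K := hK2.isNilpotent
  -- every member of `T` is a commutator
  have heK : e ∈ ⁅K, K⁆ := by
    have := Subgroup.commutator_mem_commutator (hKT a haT) (hKT b hbT)
    rwa [commutatorElement_def, inv_self hD ha, inv_self hD hb, mul_assoc (a * b), ← pow_two, ← he]
      at this
  have hTle : ∀ v ∈ T, v ∈ ⁅K, K⁆ := by
    intro v hv
    obtain ⟨g, hg⟩ : ∃ g, g ∈ oddPartners D a :=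
      exists_partner hc ha hb (fun h => hne (h ▸ rfl)) ha
    obtain ⟨r, hr⟩ := exists_conj_of_odd hD heD (((hmem e).1 heT).2 ▸ hg)
    obtain ⟨r', hr'⟩ := exists_conj_of_odd hD ((hmem v).1 hv).1 (((hmem v).1 hv).2 ▸ hg)
    obtain ⟨q, hq⟩ : ∃ q, q = r'⁻¹ * r := ⟨_, rfl⟩
    have hqe : q * e * q⁻¹ = v := by
      rw [hq, show r'⁻¹ * r * e * (r'⁻¹ * r)⁻¹ = r'⁻¹ * (r * e * r⁻¹) * r' by group, hr, ← hr']
      group
    have hqT : ∀ w ∈ T, q * w * q⁻¹ ∈ T := fun w hw =>
      class_conj hD hmem heT (hqe.symm ▸ hv) hw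
    have hle : Subgroup.map (MulAut.conj q).toMonoidHom K ≤ K := by
      rw [hK, MonoidHom.map_closure, Subgroup.closure_le]
      rintro _ ⟨w, hw, rfl⟩
      exact hK ▸ hKT _ (hqT w hw)
    have h1 : q * e * q⁻¹ ∈ Subgroup.map (MulAut.conj q).toMonoidHom ⁅K, K⁆ := ⟨e, heK, rfl⟩
    rw [Subgroup.map_commutator, hqe] at h1
    exact Subgroup.commutator_mono hle hle h1
  have hper : K ≤ ⁅K, K⁆ := by
    conv_lhs => rw [hK]
    exact (Subgroup.closure_le _).2 hTle
  have : Nontrivial ↥K := ⟨⟨⟨a, hKT a haT⟩, 1, fun h => ne_one hD ha (congrArg Subtype.val h)⟩⟩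
  refine absurd ?_ (Group.IsSolvable.commutator_lt_top_of_nontrivial (G := ↥K)).ne
  apply Subgroup.map_injective K.subtype_injective
  rw [Subgroup.map_subtype_commutator, ← MonoidHom.range_eq_map, K.range_subtype]
  exact le_antisymm (Subgroup.commutator_le_self K) hper

/-- A member is not the square of a product of order four with a member with the same odd partners. -/
theorem ne_of_four_sq (hD : IsRootInvolutionSet D) (hc : IsConnectedSet (OddAdj D) D) {x e f : G}
    (hx : x ∈ D) (he : e ∈ D) (h4 : orderOf (x * e) = 4) (hf : (x * e) ^ 2 = f) :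
    oddPartners D e ≠ oddPartners D f := by
  intro hef
  obtain ⟨hfD, hfx, hfe, hsw, -, -, hne⟩ := four_facts hD hx he h4
  rw [hf] at hfD hfx hfe hsw
  have htr : IsTriple D x f := hf ▸ triple_of_four hD hx he h4
  have hxe := ne_of_four hD hc hx he h4
  obtain ⟨g, hg, hgx⟩ : ∃ g, g ∈ oddPartners D f ∧ g ∉ oddPartners D x := by
    by_contra hcon
    push Not at hcon
    exact hxe ((eq_of_subset hD hc hfD hx hcon).symm.trans hef.symm)
  have h4g : orderOf (g * x) = 4 := by
    rw [orderOf_swap]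
    exact four_of hD hx hg.1 (htr.symm.ne_comm hD hg).symm hgx
  obtain ⟨z, hz, hzf, hzx⟩ := exists_four_root hD htr hg h4g
  have h3 := orderOf_eq_three hD he hx hz (orderOf_swap x e ▸ h4) hsw hzf hzx
  have hz' : z ∈ oddPartners D e := ⟨hz, fun h => by rw [h, sq_one hD he, orderOf_one] at h3; omega,
    by rw [orderOf_swap, h3]; decide⟩
  rw [hef] at hz'
  exact not_odd_of_four hzf (orderOf_swap z f ▸ hz'.2.2)

/-- Members with a product of order four have a member completing them to a product of order three. -/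
theorem exists_three (hD : IsRootInvolutionSet D) (hc : IsConnectedSet (OddAdj D) D) {a b : G}
    (ha : a ∈ D) (hb : b ∈ D) (h4 : orderOf (a * b) = 4) :
    ∃ z ∈ D, orderOf (z * (a * b) ^ 2) = 4 ∧ (z * (a * b) ^ 2) ^ 2 = b ∧ orderOf (z * a) = 3 := by
  obtain ⟨heD, -, heb, hsw, -, e2, -⟩ := four_facts hD ha hb h4
  obtain ⟨e, he⟩ : ∃ e, e = (a * b) ^ 2 := ⟨_, rfl⟩
  rw [← he] at heD heb e2 ⊢
  have htr : IsTriple D b e := ⟨hb, heD, e2 ▸ conj_mem' hD hb ha, heb.symm⟩
  obtain ⟨g, hg, hgb⟩ : ∃ g, g ∈ oddPartners D e ∧ g ∉ oddPartners D b := by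
    by_contra hcon
    push Not at hcon
    exact ne_of_four_sq hD hc ha hb h4 he.symm (eq_of_subset hD hc heD hb hcon).symm
  have h4g : orderOf (g * b) = 4 := by
    rw [orderOf_swap]
    exact four_of hD hb hg.1 (htr.symm.ne_comm hD hg).symm hgb
  obtain ⟨z, hz, hze, hzb⟩ := exists_four_root hD htr hg h4g
  exact ⟨z, hz, hze, hzb, orderOf_eq_three hD ha hb hz h4 he.symm hze hzb⟩

/-- The members commuting with `d` determine, and are determined by, the odd partners of `d`. -/
theorem commutingMembers_eq_iff (hD : IsRootInvolutionSet D) (hc : IsConnectedSet (OddAdj D) D)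
    {d e : G} (hd : d ∈ D) (he : e ∈ D) :
    commutingMembers D d = commutingMembers D e ↔ oddPartners D d = oddPartners D e := by
  constructor
  · intro h
    have key : ∀ u ∈ D, ∀ v ∈ D, commutingMembers D u = commutingMembers D v →
        oddPartners D u ⊆ oddPartners D v := by
      intro u hu v hv h x hx
      by_contra hxv
      have hvx : v * x ≠ x * v := fun hcom => by
        have : x ∈ commutingMembers D u := h ▸ ⟨hx.1, hcom.symm⟩
        exact ne_comm_of_odd hD hu hx.1 hx.2.1.symm hx.2.2 this.2.symm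
      have h4 := four_of hD hv hx.1 hvx hxv
      obtain ⟨hfD, hfv, hfx, -, -, hxf, -⟩ := four_facts hD hv hx.1 h4
      have htr : IsTriple D x ((v * x) ^ 2) :=
        ⟨hx.1, hfD, hxf ▸ conj_mem' hD hx.1 hv, hfx.symm⟩
      have : (v * x) ^ 2 ∈ commutingMembers D u := h ▸ ⟨hfD, hfv⟩
      exact htr.ne_comm hD (oddPartners_symm hu hx) this.2.symm
    exact Set.Subset.antisymm (key d hd e he h) (key e he d hd h.symm)
  · intro h
    have key : ∀ u ∈ D, ∀ v ∈ D, oddPartners D u = oddPartners D v →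
        commutingMembers D u ⊆ commutingMembers D v := by
      intro u hu v hv h x hx
      refine ⟨hx.1, ?_⟩
      by_contra hvx
      have hxv : x ∉ oddPartners D v := by
        rw [← h]
        intro hxu
        exact ne_comm_of_odd hD hu hx.1 hxu.2.1.symm hxu.2.2 hx.2.symm
      have h4 : orderOf (x * v) = 4 := by
        rw [orderOf_swap]; exact four_of hD hv hx.1 (Ne.symm hvx) hxv
      obtain ⟨hfD, hfx, hfv, -, -, e2, -⟩ := four_facts hD hx.1 hv h4
      obtain ⟨f, hf⟩ : ∃ f, f = (x * v) ^ 2 := ⟨_, rfl⟩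
      rw [← hf] at hfD hfx hfv e2
      have htr : IsTriple D f v := ⟨hfD, hv, by rw [hfv, e2]; exact conj_mem' hD hv hx.1, hfv⟩
      refine ne_of_four_sq hD hc hx.1 hv h4 hf.symm (eq_of_subset hD hc hfD hv fun g hg => ?_).symm
      rcases htr.odd_or_odd hD hg with h' | h'
      · exact h'
      · rw [hfv, e2] at h'
        have hconj : oddPartners D (x * v * x⁻¹) = oddPartners D v := by
          rw [oddPartners_conj_eq hD, ← h, ← oddPartners_conj_eq hD,
            show x * u * x⁻¹ = u by rw [hx.2, mul_inv_cancel_right]]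
        rw [inv_self hD hx.1] at hconj
        rwa [hconj] at h'
    exact Set.Subset.antisymm (key d hd e he h) (key e he d hd h.symm)

end Connected

end Cfsg.Agent.RootInvol
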