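import Cfsg.Agent.Lib.Root.SetsMore

/-!
Special rank one groups with abelian unipotent subgroups: Weyl elements, `A = [A, H]`, perfectness,
roots of elements.
-/

set_option autoImplicit false

namespace Cfsg.Agent.RootLib

open Cfsg

variable {G : Type*} [Group G]

/-- `c` is the inverse of the classical partner of `a`. -/
def Partner (A B : Subgroup G) (a c : G) : Prop :=
  a ∈ A ∧ c ∈ B ∧ a ≠ 1 ∧ c ≠ 1 ∧ conjBy A c = conjBy B a⁻¹

/-- A special rank one pair with abelian unipotent subgroups, via braid relations. -/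
structure SpecialPair (A B : Subgroup G) : Prop where
  pair : IsRankOnePair A B
  commA : ∀ x ∈ A, ∀ y ∈ A, x * y = y * x
  commB : ∀ x ∈ B, ∀ y ∈ B, x * y = y * x
  braid : ∀ a c, Partner A B a c → a * c * a = c * a * c

theorem specialPair_of {A B : Subgroup G} (hs : IsSpecialRankOnePair A B)
    (hA : ∀ x ∈ A, ∀ y ∈ A, x * y = y * x) (hB : ∀ x ∈ B, ∀ y ∈ B, x * y = y * x) :
    SpecialPair A B := by
  refine ⟨hs.1, hA, hB, fun a c ⟨ha, hc, ha1, hc1, he⟩ => ?_⟩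
  have h := hs.2 a ha ha1 c⁻¹ (inv_mem hc) (inv_ne_one.2 hc1) (by rw [inv_inv]; exact he)
  rw [inv_inv] at h
  calc a * c * a = a * (c * a * c⁻¹) * c := by group
    _ = c * a * c := by rw [h]; group

theorem SpecialPair.isSpecial {A B : Subgroup G} (h : SpecialPair A B) :
    IsSpecialRankOnePair A B := by
  refine ⟨h.pair, fun a ha ha1 b hb hb1 he => ?_⟩
  have e := h.braid a b⁻¹ ⟨ha, inv_mem hb, ha1, inv_ne_one.2 hb1, he⟩
  calc b⁻¹ * a * b = a⁻¹ * (a * b⁻¹ * a) * b := by group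
    _ = a⁻¹ * b⁻¹ * a := by rw [e]; group

namespace SpecialPair

variable {A B : Subgroup G} (h : SpecialPair A B)
include h

theorem exists_partner {a : G} (ha : a ∈ A) (ha1 : a ≠ 1) : ∃ c, Partner A B a c := by
  obtain ⟨b, hb, hb1, he⟩ := h.pair.cond_left a ha ha1
  exact ⟨b⁻¹, ha, inv_mem hb, ha1, inv_ne_one.2 hb1, he⟩

theorem exists_partner' {c : G} (hc : c ∈ B) (hc1 : c ≠ 1) : ∃ a, Partner A B a c := by
  obtain ⟨a, ha, ha1, he⟩ := h.pair.cond_right c⁻¹ (inv_mem hc) (inv_ne_one.2 hc1)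
  exact ⟨a, ha, hc, ha1, hc1, by rw [inv_inv] at he; exact he.symm⟩

theorem partner_unique {a c c' : G} (p : Partner A B a c) (p' : Partner A B a c') : c = c' :=
  eq_of_conjBy_eq (RankOnePair_symm h.pair) p.2.1 p'.2.1 (p.2.2.2.2.trans p'.2.2.2.2.symm)

theorem partner_unique' {a a' c : G} (p : Partner A B a c) (p' : Partner A B a' c) : a = a' :=
  inv_injective (eq_of_conjBy_eq h.pair (inv_mem p.1) (inv_mem p'.1) (p.2.2.2.2.symm.trans p'.2.2.2.2))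

theorem conj_weyl_a {a c : G} (p : Partner A B a c) : (a * c * a) * a * (a * c * a)⁻¹ = c := by
  have e := h.braid a c p
  calc (a * c * a) * a * (a * c * a)⁻¹ = (c * a * c) * a * (a * c * a)⁻¹ := by rw [e]
    _ = c * (a * c * a) * (a * c * a)⁻¹ := by group
    _ = c := mul_inv_cancel_right _ _

theorem conj_weyl_c {a c : G} (p : Partner A B a c) : (a * c * a) * c * (a * c * a)⁻¹ = a := by
  have e := h.braid a c p
  calc (a * c * a) * c * (a * c * a)⁻¹ = a * (c * a * c) * (a * c * a)⁻¹ := by group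
    _ = a := by rw [← e, mul_inv_cancel_right]

theorem weyl_A {a c : G} (p : Partner A B a c) : conjBy A (a * c * a) = B := by
  rw [← conjBy_conjBy, ← conjBy_conjBy, conjBy_eq_self_of_mem p.1, p.2.2.2.2, conjBy_cancel_inv]

theorem weyl_B {a c : G} (p : Partner A B a c) : conjBy B (a * c * a) = A := by
  have ha := p.1
  have hc := p.2.1
  have ha1 := p.2.2.1
  have hX : a * c * a ∈ A ⊔ B :=
    mul_mem (mul_mem (Subgroup.mem_sup_left ha) (Subgroup.mem_sup_right hc)) (Subgroup.mem_sup_left ha)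
  by_contra hne
  have haC : a ∈ conjBy B (a * c * a) := by
    have := conjBy_mem_conjBy (g := a * c * a) hc
    rwa [h.conj_weyl_c p] at this
  exact ha1 (eq_one_of_commute_pair
    (unipotent_rankOne h.pair (unipotent_conj (unipotent_mem_B h.pair) hX) unipotent_mem_A hne)
    haC ha rfl ha1)

theorem partner_inv {a c : G} (p : Partner A B a c) : Partner A B a⁻¹ c⁻¹ := by
  have e := h.weyl_B p
  obtain ⟨ha, hc, ha1, hc1, -⟩ := p
  refine ⟨inv_mem ha, inv_mem hc, inv_ne_one.2 ha1, inv_ne_one.2 hc1, ?_⟩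
  rw [inv_inv]
  rw [← conjBy_conjBy, ← conjBy_conjBy] at e
  have e1 := eq_inv_conjBy e
  rw [conjBy_eq_self_of_mem (inv_mem ha)] at e1
  exact (eq_inv_conjBy e1).symm

theorem symm : SpecialPair B A := by
  refine ⟨RankOnePair_symm h.pair, h.commB, h.commA, fun c a ⟨hc, ha, hc1, ha1, he⟩ => ?_⟩
  have e := h.braid a⁻¹ c⁻¹ ⟨inv_mem ha, inv_mem hc, inv_ne_one.2 ha1, inv_ne_one.2 hc1,
    by rw [inv_inv]; exact he.symm⟩
  have := congrArg (fun x => x⁻¹) e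
  simpa [mul_assoc] using this.symm

theorem diag_mem {h' : G} (h1 : conjBy A h' = A) (h2 : conjBy B h' = B) (hX : h' ∈ A ⊔ B) :
    h' ∈ rankOneDiagonal A B :=
  ⟨⟨hX, conjBy_eq_iff_mem_normalizer.1 h1⟩, conjBy_eq_iff_mem_normalizer.1 h2⟩

theorem weyl_mem {a c : G} (p : Partner A B a c) : a * c * a ∈ A ⊔ B :=
  mul_mem (mul_mem (Subgroup.mem_sup_left p.1) (Subgroup.mem_sup_right p.2.1)) (Subgroup.mem_sup_left p.1)

/-- All Weyl elements lie in one coset of the diagonal subgroup. -/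
theorem weyl_coset {a c a' c' : G} (p : Partner A B a c) (p' : Partner A B a' c') :
    (a * c * a)⁻¹ * (a' * c' * a') ∈ rankOneDiagonal A B := by
  refine h.diag_mem ?_ ?_ (mul_mem (inv_mem (h.weyl_mem p)) (h.weyl_mem p'))
  · rw [← conjBy_conjBy, h.weyl_A p', ← h.weyl_A p, conjBy_inv_cancel]
  · rw [← conjBy_conjBy, h.weyl_B p', ← h.weyl_B p, conjBy_inv_cancel]

theorem diag_conj {h' : G} (hh : h' ∈ rankOneDiagonal A B) {a : G} (ha : a ∈ A) :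
    h' * a * h'⁻¹ ∈ A :=
  (Subgroup.mem_normalizer_iff.1 hh.1.2 a).1 ha

/-- Uniqueness of `u τ v h`. -/
theorem bruhat_unique {a c u v u' v' h₁ h₂ : G} (p : Partner A B a c) (hu : u ∈ A) (hv : v ∈ A)
    (hu' : u' ∈ A) (hv' : v' ∈ A) (hh₁ : h₁ ∈ rankOneDiagonal A B) (hh₂ : h₂ ∈ rankOneDiagonal A B)
    (e : u * (a * c * a) * v * h₁ = u' * (a * c * a) * v' * h₂) : u = u' ∧ v = v' := by
  have hc : ∀ u v h₀ : G, v ∈ A → h₀ ∈ rankOneDiagonal A B →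
      conjBy A (u * (a * c * a) * v * h₀) = conjBy B u := fun u v h₀ hv hh => by
    rw [← conjBy_conjBy, conjBy_eq_iff_mem_normalizer.2 hh.1.2, ← conjBy_conjBy,
      conjBy_eq_self_of_mem hv, ← conjBy_conjBy, h.weyl_A p]
  obtain rfl : u = u' := eq_of_conjBy_eq h.pair hu hu' (by
    rw [← hc u v h₁ hv hh₁, e, hc u' v' h₂ hv' hh₂])
  refine ⟨rfl, ?_⟩
  have e' : v'⁻¹ * v = h₂ * h₁⁻¹ := by
    simp only [mul_assoc, mul_right_inj] at e
    rw [eq_mul_inv_iff_mul_eq, mul_assoc, e, inv_mul_cancel_left]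
  refine (inv_mul_eq_one.1 (eq_one_of_normalizes h.pair (mul_mem (inv_mem hv') hv) ?_)).symm
  rw [e']
  exact conjBy_eq_iff_mem_normalizer.2 (mul_mem hh₂.2 (inv_mem hh₁.2))

/-- The product rule: if `c c'' = c'`, the preimages in `A` add up through an auxiliary element. -/
theorem product_rule {a₀ c₀ a₁ c₁ a₂ c₂ a₃ c₃ : G} (p₀ : Partner A B a₀ c₀) (p₁ : Partner A B a₁ c₁)
    (p₂ : Partner A B a₂ c₂) (p₃ : Partner A B a₃ c₃) (e : c₁ * c₂ = c₃) :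
    ∃ q d, Partner A B q d ∧ a₃ = q * a₁ ∧
      (∃ h₁ ∈ rankOneDiagonal A B, (a₀ * c₀ * a₀)⁻¹ * (a₁ * c₁ * a₁) = h₁ ∧
        d = (a₀ * c₀ * a₀) * (h₁ * (a₁ * a₂)⁻¹ * h₁⁻¹) * (a₀ * c₀ * a₀)⁻¹) ∧
      (∃ h₁ ∈ rankOneDiagonal A B, ∃ h₂ ∈ rankOneDiagonal A B, ∃ h₃ ∈ rankOneDiagonal A B,
        h₁ * a₃⁻¹ * h₁⁻¹ = (h₂ * q⁻¹ * h₂⁻¹) * (h₃ * a₂⁻¹ * h₃⁻¹)) := by
  set τ := a₀ * c₀ * a₀ with hτ
  have form : ∀ {a c : G}, Partner A B a c →
      c = a⁻¹ * τ * ((τ⁻¹ * (a * c * a)) * a⁻¹ * (τ⁻¹ * (a * c * a))⁻¹) * (τ⁻¹ * (a * c * a)) :=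
    fun {a c} _ => by group
  obtain ⟨g₁, hg₁⟩ : ∃ g, g = τ⁻¹ * (a₁ * c₁ * a₁) := ⟨_, rfl⟩
  obtain ⟨g₂, hg₂⟩ : ∃ g, g = τ⁻¹ * (a₂ * c₂ * a₂) := ⟨_, rfl⟩
  obtain ⟨g₃, hg₃⟩ : ∃ g, g = τ⁻¹ * (a₃ * c₃ * a₃) := ⟨_, rfl⟩
  have hd₁ : g₁ ∈ rankOneDiagonal A B := hg₁ ▸ h.weyl_coset p₀ p₁
  have hd₂ : g₂ ∈ rankOneDiagonal A B := hg₂ ▸ h.weyl_coset p₀ p₂
  have hd₃ : g₃ ∈ rankOneDiagonal A B := hg₃ ▸ h.weyl_coset p₀ p₃
  have f₁ := form p₁; rw [← hg₁] at f₁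
  have f₂ := form p₂; rw [← hg₂] at f₂
  have f₃ := form p₃; rw [← hg₃] at f₃
  set E := g₁ * (a₁ * a₂)⁻¹ * g₁⁻¹ with hE
  have hEA : E ∈ A := h.diag_conj hd₁ (inv_mem (mul_mem p₁.1 p₂.1))
  have hsplit : c₁ * c₂ = a₁⁻¹ * (τ * E * τ⁻¹) * (τ * g₁ * τ * (g₂ * a₂⁻¹ * g₂⁻¹) * g₂) := by
    rw [f₁, f₂, hE, mul_inv_rev, h.commA _ (inv_mem p₂.1) _ (inv_mem p₁.1)]
    group
  set K := τ * g₁ * τ with hK
  have hKd : K ∈ rankOneDiagonal A B := by
    refine h.diag_mem ?_ ?_ (mul_mem (mul_mem (h.weyl_mem p₀) hd₁.1.1) (h.weyl_mem p₀))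
    · rw [hK, ← conjBy_conjBy, ← conjBy_conjBy, h.weyl_A p₀,
        conjBy_eq_iff_mem_normalizer.2 hd₁.2, h.weyl_B p₀]
    · rw [hK, ← conjBy_conjBy, ← conjBy_conjBy, h.weyl_B p₀,
        conjBy_eq_iff_mem_normalizer.2 hd₁.1.2, h.weyl_A p₀]
  have hE1 : E ≠ 1 := by
    intro hE1
    refine p₃.2.2.2.1 (eq_one_of_normalizes (RankOnePair_symm h.pair) p₃.2.1 ?_)
    rw [← e, hsplit, hE1, mul_one, mul_inv_cancel, mul_one, ← conjBy_conjBy, ← conjBy_conjBy,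
      conjBy_eq_iff_mem_normalizer.2 hd₂.1.2,
      ← conjBy_conjBy, conjBy_eq_self_of_mem (h.diag_conj hd₂ (inv_mem p₂.1)),
      conjBy_eq_iff_mem_normalizer.2 hKd.1.2, conjBy_eq_self_of_mem (inv_mem p₁.1)]
  obtain ⟨d, hd⟩ : ∃ d, d = τ * E * τ⁻¹ := ⟨_, rfl⟩
  have hdB : d ∈ B := by
    rw [hd, ← h.weyl_A p₀]
    exact conjBy_mem_conjBy hEA
  have hd1 : d ≠ 1 := by rw [hd]; exact fun e => hE1 (conj_eq_one_iff.1 e)
  obtain ⟨q, pq⟩ := h.exists_partner' hdB hd1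
  obtain ⟨g₄, hg₄⟩ : ∃ g, g = τ⁻¹ * (q * d * q) := ⟨_, rfl⟩
  have hd₄ : g₄ ∈ rankOneDiagonal A B := hg₄ ▸ h.weyl_coset p₀ pq
  have fq := form pq; rw [← hg₄] at fq
  have hprod : c₃ = (q * a₁)⁻¹ * τ *
      ((g₄ * q⁻¹ * g₄⁻¹) * ((g₄ * K * g₂) * a₂⁻¹ * (g₄ * K * g₂)⁻¹)) * (g₄ * K * g₂) := by
    rw [← e, hsplit, ← hd, fq, mul_inv_rev]
    group
  have hd₅ : g₄ * K * g₂ ∈ rankOneDiagonal A B := mul_mem (mul_mem hd₄ hKd) hd₂
  rw [f₃] at hprod
  obtain ⟨h1, h2⟩ := h.bruhat_unique p₀ (inv_mem p₃.1) (h.diag_conj hd₃ (inv_mem p₃.1))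
    (inv_mem (mul_mem pq.1 p₁.1))
    (mul_mem (h.diag_conj hd₄ (inv_mem pq.1)) (h.diag_conj hd₅ (inv_mem p₂.1))) hd₃ hd₅ hprod
  exact ⟨q, d, pq, inv_injective h1, ⟨g₁, hd₁, hg₁.symm, by rw [hd, hE]⟩,
    g₃, hd₃, g₄, hd₄, _, hd₅, h2⟩

/-- `A = [A, H]` as soon as `B` has three non-identity elements. -/
theorem le_of_diag_comm (h3 : ∀ x y : G, ∃ z ∈ B, z ≠ 1 ∧ z ≠ x ∧ z ≠ y) {K : Subgroup G}
    (hK : ∀ a ∈ A, ∀ h' ∈ rankOneDiagonal A B, h' * a * h'⁻¹ * a⁻¹ ∈ K) : A ≤ K := by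
  obtain ⟨c₀, hc₀, hc₀1, -, -⟩ := h3 1 1
  obtain ⟨a₀, p₀⟩ := h.exists_partner' hc₀ hc₀1
  have step : ∀ {a₁ c₁ a₂ c₂ : G}, Partner A B a₁ c₁ → Partner A B a₂ c₂ → c₁ * c₂ ≠ 1 →
      a₁⁻¹ * a₂ ∈ K := by
    intro a₁ c₁ a₂ c₂ p₁ p₂ hne
    obtain ⟨a₃, p₃⟩ := h.exists_partner' (mul_mem p₁.2.1 p₂.2.1) hne
    obtain ⟨q, d, pq, h3', -, g₁, hg₁, g₂, hg₂, g₃, hg₃, e⟩ := h.product_rule p₀ p₁ p₂ p₃ rfl
    obtain ⟨u, hu, hue⟩ : ∃ u ∈ K, g₁ * a₃⁻¹ * g₁⁻¹ = u * a₃⁻¹ :=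
      ⟨_, hK _ (inv_mem p₃.1) _ hg₁, (inv_mul_cancel_right _ _).symm⟩
    obtain ⟨v, hv, hve⟩ : ∃ v ∈ K, g₂ * q⁻¹ * g₂⁻¹ = v * q⁻¹ :=
      ⟨_, hK _ (inv_mem pq.1) _ hg₂, (inv_mul_cancel_right _ _).symm⟩
    obtain ⟨w, hw, hwe⟩ : ∃ w ∈ K, g₃ * a₂⁻¹ * g₃⁻¹ = w * a₂⁻¹ :=
      ⟨_, hK _ (inv_mem p₂.1) _ hg₃, (inv_mul_cancel_right _ _).symm⟩
    have hvA : v ∈ A := by
      have := mul_mem (h.diag_conj hg₂ (inv_mem pq.1)) pq.1
      rwa [hve, inv_mul_cancel_right] at this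
    have hwA : w ∈ A := by
      have := mul_mem (h.diag_conj hg₃ (inv_mem p₂.1)) p₂.1
      rwa [hwe, inv_mul_cancel_right] at this
    rw [hue, hve, hwe, h3'] at e
    have e' : v * w * q⁻¹ * a₂⁻¹ = u * (q * a₁)⁻¹ := by
      rw [e, mul_assoc v w, h.commA w hwA _ (inv_mem pq.1)]
      group
    have e2 : a₁⁻¹ * a₂ = u⁻¹ * (v * w) := by
      rw [mul_inv_rev, h.commA _ (inv_mem p₁.1) _ (inv_mem pq.1)] at e'
      have e3 : q⁻¹ * a₂⁻¹ = (v * w)⁻¹ * u * (q⁻¹ * a₁⁻¹) := by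
        rw [mul_assoc, ← e']; group
      have hq' : a₁⁻¹ = q * (u⁻¹ * (v * w)) * (q⁻¹ * a₂⁻¹) := by rw [e3]; group
      have huA : u ∈ A := by
        have := mul_mem (h.diag_conj hg₁ (inv_mem p₃.1)) p₃.1
        rwa [hue, inv_mul_cancel_right] at this
      rw [h.commA q pq.1 _ (mul_mem (inv_mem huA) (mul_mem hvA hwA))] at hq'
      rw [hq']; group
    rw [e2]
    exact mul_mem (inv_mem hu) (mul_mem hv hw)
  have hall : ∀ {a₁ c₁ a₂ c₂ : G}, Partner A B a₁ c₁ → Partner A B a₂ c₂ → a₁⁻¹ * a₂ ∈ K := by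
    intro a₁ c₁ a₂ c₂ p₁ p₂
    obtain ⟨c, hc, hc1, hcx, hcy⟩ := h3 c₁⁻¹ c₂⁻¹
    obtain ⟨a, p⟩ := h.exists_partner' hc hc1
    have e1 := step p₁ p (fun e => hcx (eq_inv_of_mul_eq_one_right e))
    have e2 := step p p₂ (fun e => hcy (eq_inv_of_mul_eq_one_left e))
    have := mul_mem e1 e2
    rwa [mul_assoc, mul_inv_cancel_left] at this
  intro a ha
  by_cases ha1 : a = 1
  · rw [ha1]; exact one_mem _
  obtain ⟨c, p⟩ := h.exists_partner ha ha1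
  obtain ⟨c', hc', hc'1, hcc', -⟩ := h3 c⁻¹ c⁻¹
  obtain ⟨a', p'⟩ := h.exists_partner' hc' hc'1
  -- a further element not inverse to `a`
  by_cases hne : a' * a = 1
  · have h1 := hall p' p
    rw [eq_inv_of_mul_eq_one_left hne, inv_inv] at h1
    -- `a² ∈ K`; compare with a third element
    obtain ⟨c'', hc'', hc''1, hx, hy⟩ := h3 c c'
    obtain ⟨a'', p''⟩ := h.exists_partner' hc'' hc''1
    have hne'' : a'' * a ≠ 1 := fun e => hy
      (h.partner_unique p'' (by rw [eq_inv_of_mul_eq_one_left e, ← eq_inv_of_mul_eq_one_left hne]; exact p'))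
    obtain ⟨c₃, p₃⟩ := h.exists_partner (mul_mem p''.1 ha) hne''
    have := hall p'' p₃
    rwa [inv_mul_cancel_left] at this
  · obtain ⟨c₃, p₃⟩ := h.exists_partner (mul_mem p'.1 ha) hne
    have := hall p' p₃
    rwa [inv_mul_cancel_left] at this

theorem le_commutator (h3 : ∀ x y : G, ∃ z ∈ B, z ≠ 1 ∧ z ≠ x ∧ z ≠ y) :
    A ≤ ⁅A, rankOneDiagonal A B⁆ :=
  h.le_of_diag_comm h3 fun a ha h' hh' => by
    rw [Subgroup.commutator_comm]
    exact Subgroup.commutator_mem_commutator hh' ha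

theorem sup_le_commutator (h3 : ∀ x y : G, ∃ z ∈ B, z ≠ 1 ∧ z ≠ x ∧ z ≠ y)
    (h3' : ∀ x y : G, ∃ z ∈ A, z ≠ 1 ∧ z ≠ x ∧ z ≠ y) : A ⊔ B ≤ ⁅A ⊔ B, A ⊔ B⁆ :=
  sup_le ((h.le_commutator h3).trans (Subgroup.commutator_mono le_sup_left fun _ hx => hx.1.1))
    ((h.symm.le_commutator h3').trans
      (Subgroup.commutator_mono le_sup_right fun x hx => by rw [sup_comm]; exact hx.1.1))

/-- The preimage of `c ^ m` is an `m`-th root of the preimage of `c`, when the order of `c` avoids the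
numbers built from primes below `N`. -/
theorem exists_root (N : ℕ) : ∀ (m : ℕ), m ≤ N → 1 ≤ m → ∀ {a c : G}, Partner A B a c →
    (∀ k : ℕ, 0 < k → (∀ r, r.Prime → r ∣ k → r < N) → c ^ k ≠ 1 ∧ c ^ (m * k) ≠ 1) →
      ∃ y, Partner A B y (c ^ m) ∧ y ^ m = a := by
  intro m
  induction m with
  | zero => intro _ h1; omega
  | succ m ih =>
    intro hmN _ a c p hgood
    rcases Nat.eq_zero_or_pos m with rfl | hm
    · exact ⟨a, by simpa using p, pow_one a⟩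
    have hsm : ∀ k, 0 < k → (∀ r, r.Prime → r ∣ k → r < N) →
        0 < m * k ∧ ∀ r, r.Prime → r ∣ m * k → r < N := fun k hk hk' =>
      ⟨Nat.mul_pos hm hk, fun r hr hd => (hr.dvd_mul.1 hd).elim
        (fun h' => lt_of_le_of_lt (Nat.le_of_dvd hm h') (by omega)) (hk' r hr)⟩
    have hone : ∀ r, Nat.Prime r → r ∣ 1 → r < N := fun r hr hd =>
      absurd (Nat.dvd_one.1 hd) hr.ne_one
    obtain ⟨y, py, hy⟩ := ih (by omega) hm p fun k hk hk' =>
      ⟨(hgood k hk hk').1, (hgood _ (hsm k hk hk').1 (hsm k hk hk').2).1⟩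
    have hc1 : c ^ (m + 1) ≠ 1 := by simpa using (hgood 1 one_pos hone).2
    obtain ⟨y', py'⟩ := h.exists_partner' (pow_mem p.2.1 (m + 1)) hc1
    obtain ⟨q, d, pq, hy', ⟨g, -, hg, hd⟩, -⟩ := h.product_rule p p py py' (by rw [pow_succ'])
    rw [inv_mul_cancel] at hg
    rw [← hg, one_mul, inv_one, mul_one] at hd
    set τ := a * c * a with hτ
    have hc : c = (τ * y * τ⁻¹) ^ m := by rw [conj_pow, hy, h.conj_weyl_a p]
    have hd' : d = ((τ * y * τ⁻¹) ^ (m + 1))⁻¹ := by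
      rw [hd, conj_pow, ← hy, ← pow_succ]
      group
    have hdm : d ^ m = (c ^ (m + 1))⁻¹ := by
      rw [hd', inv_pow, ← pow_mul, hc, ← pow_mul, mul_comm]
    obtain ⟨z, pz, hz⟩ := ih (by omega) hm pq fun k hk hk' => by
      have key : ∀ j : ℕ, c ^ ((m + 1) * j) ≠ 1 → d ^ j ≠ 1 := by
        intro j hj e
        apply hj
        have e2 : (d ^ m) ^ j = 1 := by rw [← pow_mul, mul_comm, pow_mul, e, one_pow]
        rwa [hdm, inv_pow, inv_eq_one, ← pow_mul] at e2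
      exact ⟨key k (hgood k hk hk').2, key _ (hgood _ (hsm k hk hk').1 (hsm k hk hk').2).2⟩
    rw [hdm] at pz
    obtain rfl : z = y'⁻¹ := h.partner_unique' pz (h.partner_inv py')
    refine ⟨y', py', ?_⟩
    rw [← hz] at hy'
    rw [pow_succ]
    calc y' ^ m * y' = y' ^ m * ((y'⁻¹) ^ m * a) := by rw [← hy']
      _ = a := by rw [inv_pow, mul_inv_cancel_left]

/-- A special rank one group with abelian unipotents: one prime exponent, or torsion free divisible. -/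
theorem elementary_or_divisible :
    (∃ p : ℕ, p.Prime ∧ ∀ a ∈ A, a ^ p = 1) ∨
      ((∀ a ∈ A, a ≠ 1 → ¬ IsOfFinOrder a) ∧ ∀ a ∈ A, ∀ n : ℕ, 0 < n → ∃ c ∈ A, c ^ n = a) := by
  classical
  obtain ⟨x, -, hx⟩ := exists_conjBy_eq h.pair
  have hAB : ∀ b, b ∈ B → x⁻¹ * b * x ∈ A := fun b hb => mem_conjBy.1 (hx.symm ▸ hb)
  by_cases htor : ∀ a ∈ A, a ≠ 1 → ¬ IsOfFinOrder a
  · refine Or.inr ⟨htor, fun a ha n hn => ?_⟩
    by_cases ha1 : a = 1
    · exact ⟨1, one_mem _, by rw [ha1, one_pow]⟩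
    obtain ⟨c, p⟩ := h.exists_partner ha ha1
    have hfree : ∀ k, 0 < k → c ^ k ≠ 1 := by
      intro k hk e
      refine htor _ (hAB c p.2.1) (fun e' => p.2.2.2.1 ?_) ?_
      · exact conj_eq_one_iff.1 (by rw [inv_inv]; exact e' : x⁻¹ * c * x⁻¹⁻¹ = 1)
      · exact isOfFinOrder_iff_pow_eq_one.2 ⟨k, hk, by
          have := conj_pow (a := x⁻¹) (b := c) (i := k)
          rw [inv_inv] at this
          rw [this, e, mul_one, inv_mul_cancel]⟩
    obtain ⟨y, py, hy⟩ := h.exists_root (n + 1) n (Nat.le_succ n) hn p fun k hk _ =>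
      ⟨hfree k hk, hfree _ (Nat.mul_pos hn hk)⟩
    exact ⟨y, py.1, hy⟩
  · push Not at htor
    obtain ⟨a₁, ha₁, ha₁1, hfin⟩ := htor
    have hex : ∃ p : ℕ, p.Prime ∧ ∃ a ∈ A, a ≠ 1 ∧ a ^ p = 1 := by
      have hp : (orderOf a₁).minFac.Prime :=
        Nat.minFac_prime (by simpa [orderOf_eq_one_iff] using ha₁1)
      refine ⟨_, hp, a₁ ^ (orderOf a₁ / (orderOf a₁).minFac), pow_mem ha₁ _, ?_, ?_⟩
      · exact pow_ne_one_of_lt_orderOf (Nat.div_pos (Nat.minFac_le hfin.orderOf_pos) hp.pos).ne'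
          (Nat.div_lt_self hfin.orderOf_pos hp.one_lt)
      · rw [← pow_mul, Nat.div_mul_cancel (Nat.minFac_dvd _), pow_orderOf_eq_one]
    obtain ⟨hp, a₀, ha₀, ha₀1, ha₀p⟩ := Nat.find_spec hex
    set p := Nat.find hex with hpdef
    refine Or.inl ⟨p, hp, ?_⟩
    -- every non-identity element of `B` has order avoiding the primes below `p`
    have hgood : ∀ c ∈ B, c ≠ 1 → ∀ k, 0 < k → (∀ r, r.Prime → r ∣ k → r < p) → c ^ k ≠ 1 := by
      intro c hc hc1 k hk hk' e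
      have hA := hAB c hc
      have h1 : (x⁻¹ * c * x) ^ k = 1 := by
        have := conj_pow (a := x⁻¹) (b := c) (i := k)
        rw [inv_inv] at this
        rw [this, e, mul_one, inv_mul_cancel]
      have hne : x⁻¹ * c * x ≠ 1 := fun e' => hc1 (by
        exact conj_eq_one_iff.1 (by rw [inv_inv]; exact e' : x⁻¹ * c * x⁻¹⁻¹ = 1))
      have hdvd := orderOf_dvd_of_pow_eq_one h1
      have hr : (orderOf (x⁻¹ * c * x)).minFac.Prime :=
        Nat.minFac_prime (by simpa [orderOf_eq_one_iff] using hne)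
      have hpos : 0 < orderOf (x⁻¹ * c * x) := Nat.pos_of_dvd_of_pos hdvd hk
      refine absurd (Nat.find_min' hex ⟨hr, (x⁻¹ * c * x) ^ (orderOf (x⁻¹ * c * x) /
        (orderOf (x⁻¹ * c * x)).minFac), pow_mem hA _, ?_, ?_⟩) (not_le.2 (hk' _ hr ((Nat.minFac_dvd _).trans hdvd)))
      · exact pow_ne_one_of_lt_orderOf (Nat.div_pos (Nat.minFac_le hpos) hr.pos).ne'
          (Nat.div_lt_self hpos hr.one_lt)
      · rw [← pow_mul, Nat.div_mul_cancel (Nat.minFac_dvd _), pow_orderOf_eq_one]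
    -- the element of order `p` in `B`
    obtain ⟨e₀, he₀, he₀1, he₀p⟩ : ∃ e ∈ B, e ≠ 1 ∧ e ^ p = 1 :=
      ⟨x * a₀ * x⁻¹, hx ▸ conjBy_mem_conjBy ha₀, fun e => ha₀1 (conj_eq_one_iff.1 e),
        by rw [conj_pow, ha₀p, mul_one, mul_inv_cancel]⟩
    have hB : ∀ d ∈ B, d ^ p = 1 := by
      intro d hd
      by_contra hdp
      have hd1 : d ≠ 1 := fun e => hdp (by rw [e, one_pow])
      have hde : (d * e₀) ^ p = d ^ p := by
        rw [(show Commute d e₀ from h.commB d hd e₀ he₀).mul_pow, he₀p, mul_one]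
      have hde1 : d * e₀ ≠ 1 := fun e => hdp (by rw [← hde, e, one_pow])
      have key : ∀ d ∈ B, d ≠ 1 → d ^ p ≠ 1 → ∀ k, 0 < k → (∀ r, r.Prime → r ∣ k → r < p) →
          d ^ k ≠ 1 ∧ d ^ (p * k) ≠ 1 := fun d hd hd1 hdp k hk hk' =>
        ⟨hgood d hd hd1 k hk hk', by rw [pow_mul]; exact hgood _ (pow_mem hd p) hdp k hk hk'⟩
      obtain ⟨q, pq⟩ := h.exists_partner' hd hd1
      obtain ⟨q', pq'⟩ := h.exists_partner' (mul_mem hd he₀) hde1
      obtain ⟨z, pz, hz⟩ := h.exists_root p p le_rfl hp.one_le pq (key d hd hd1 hdp)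
      obtain ⟨z', pz', hz'⟩ := h.exists_root p p le_rfl hp.one_le pq'
        (key _ (mul_mem hd he₀) hde1 (hde.symm ▸ hdp))
      rw [hde] at pz'
      obtain rfl : z' = z := h.partner_unique' pz' pz
      rw [hz] at hz'
      subst hz'
      exact he₀1 (mul_eq_left.1 (h.partner_unique pq' pq))
    intro a ha
    have := hB _ (hx ▸ conjBy_mem_conjBy ha : x * a * x⁻¹ ∈ B)
    rw [conj_pow] at this
    exact conj_eq_one_iff.1 this

end SpecialPair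

theorem exists_avoid {A : Subgroup G} (hA : 3 < ENat.card A) (x y : G) :
    ∃ z ∈ A, z ≠ 1 ∧ z ≠ x ∧ z ≠ y := by
  by_contra hc
  push Not at hc
  have hsub : (A : Set G) ⊆ {1, x, y} := fun z hz => by
    by_cases h1 : z = 1
    · exact Or.inl h1
    by_cases h2 : z = x
    · exact Or.inr (Or.inl h2)
    exact Or.inr (Or.inr (hc z hz h1 h2))
  have h1 : ENat.card A ≤ 3 := by
    calc ENat.card A = (A : Set G).encard := rfl
      _ ≤ ({1, x, y} : Set G).encard := Set.encard_le_encard hsub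
      _ ≤ 3 := by
        refine (Set.encard_insert_le _ _).trans ?_
        refine (add_le_add ((Set.encard_insert_le _ _).trans (le_of_eq (by rw [Set.encard_singleton]))) le_rfl).trans ?_
        norm_num
  exact absurd hA (not_lt.2 h1)

theorem card_unipotent_eq {A B : Subgroup G} (h : IsRankOnePair A B) : ENat.card B = ENat.card A := by
  obtain ⟨x, -, hx⟩ := exists_conjBy_eq h
  rw [← hx]
  exact (ENat.card_congr (Subgroup.equivMapOfInjective A (MulAut.conj x).toMonoidHom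
    (MulAut.conj x).injective).toEquiv).symm

/-- A special rank one group with abelian unipotents of order at least four is perfect. -/
theorem SpecialPair.perfect {A B : Subgroup G} (h : SpecialPair A B) (h3 : 3 < ENat.card A) :
    A ⊔ B ≤ ⁅A ⊔ B, A ⊔ B⁆ :=
  h.sup_le_commutator (exists_avoid ((card_unipotent_eq h.pair).symm ▸ h3)) (exists_avoid h3)

/-- Images of a perfect pair that collapse are trivial. -/
theorem map_eq_bot_of_collapse {H : Type*} [Group H] (f : G →* H) {A B : Subgroup G}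
    (hperf : A ⊔ B ≤ ⁅A ⊔ B, A ⊔ B⁆) (hA : ∀ x ∈ A, ∀ y ∈ A, x * y = y * x) (hAB : A.map f = B.map f) :
    A.map f = ⊥ := by
  have h1 := Subgroup.map_mono (f := f) hperf
  rw [Subgroup.map_commutator _ _ f, Subgroup.map_sup, ← hAB, sup_idem] at h1
  refine le_bot_iff.1 (h1.trans (le_of_eq (bracket_eq_bot_iff.2 ?_)))
  rintro _ ⟨x, hx, rfl⟩ _ ⟨y, hy, rfl⟩
  rw [← map_mul, ← map_mul, hA x hx y hy]

/-- Normal subgroups of a perfect special rank one group are central or everything. -/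
theorem SpecialPair.normal_le_center_or_top {A B : Subgroup G} (h : SpecialPair A B)
    (hgen : A ⊔ B = ⊤) (h3 : 3 < ENat.card A) (N : Subgroup G) [N.Normal] :
    N ≤ Subgroup.center G ∨ N = ⊤ := by
  by_cases hfix : ∀ n ∈ N, ∀ C ∈ unipotentSubgroups A B, conjBy C n = C
  · refine Or.inl fun n hn => Subgroup.mem_center_iff.2 fun g => ?_
    exact (commute_of_fix_all h.pair (hfix n hn) g (hgen ▸ Subgroup.mem_top g)).symm
  push Not at hfix
  obtain ⟨n, hn, C, hC, hne⟩ := hfix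
  right
  have hC' := unipotent_conj hC (hgen ▸ Subgroup.mem_top n : n ∈ A ⊔ B)
  have hsup := unipotent_sup h.pair hC hC' (Ne.symm hne)
  have hperf : C ⊔ conjBy C n ≤ ⁅C ⊔ conjBy C n, C ⊔ conjBy C n⁆ := by
    rw [hsup]; exact h.perfect h3
  have hcomm : ∀ x ∈ C, ∀ y ∈ C, x * y = y * x := by
    intro x hx y hy
    obtain ⟨g, -, rfl⟩ := hC
    have := h.commA _ (mem_conjBy.1 hx) _ (mem_conjBy.1 hy)
    have := congrArg (fun t => g * t * g⁻¹) this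
    simpa [mul_assoc] using this
  have hbot := map_eq_bot_of_collapse (QuotientGroup.mk' N) hperf hcomm (by
    rw [map_conjBy, QuotientGroup.mk'_apply, (QuotientGroup.eq_one_iff n).2 hn, conjBy_one])
  have h2 : (C ⊔ conjBy C n).map (QuotientGroup.mk' N) = ⊥ := by
    rw [Subgroup.map_sup, map_conjBy, QuotientGroup.mk'_apply, (QuotientGroup.eq_one_iff n).2 hn,
      conjBy_one, hbot, sup_idem]
  rw [hsup, hgen, Subgroup.map_eq_bot_iff, QuotientGroup.ker_mk'] at h2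
  exact top_le_iff.1 h2

end Cfsg.Agent.RootLib
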