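import Cfsg.Agent.Lib.Root.Quadratic
import Cfsg.Agent.Lib.Root.Special
import Cfsg.Agent.S5029

/-!
Non-degenerate sets of abstract root subgroups: projections on lines, rank one pairs are special.
-/

set_option autoImplicit false

namespace Cfsg.Agent.RootLib

open Cfsg

variable {G : Type*} [Group G] {S : Set (Subgroup G)}

theorem not_case_of_rankOne (hS : IsRootSubgroupSet S) {A B : Subgroup G} (hA : A ∈ S) (hB : B ∈ S)
    (h : IsRankOnePair A B) (hc : RootCommutatorCase S A B) : False := by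
  obtain ⟨a, ha, ha1⟩ := exists_ne_one_of_mem hS hA
  refine conj_partner_not_commute h ha ha1 (bracket_eq_bot_iff.2 fun y hy x hx => ?_)
  obtain ⟨b, hb, rfl⟩ : ∃ b ∈ B, y = a * b * a⁻¹ := ⟨a⁻¹ * y * a, mem_conjBy.1 hy, by group⟩
  have h1 : Commute (a * b * a⁻¹ * b⁻¹) x := hc.2.1 _ (commutator_mem ha hb) x (Subgroup.mem_sup_right hx)
  simpa using (Commute.mul_left h1 (root_comm hS hB hb hx : Commute b x)).eq

theorem not_isolated_of_partner {A B : Subgroup G} (hA : A ∈ S) (hB : B ∈ S) (h : IsRankOnePair A B) :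
    ¬ IsIsolatedIn (FAdj S) S A := fun hi => (hi.2 B).1 ⟨hA, hB, h⟩

/-- Some point of a line through `A` is in the commutator case with a partner of `A`. -/
theorem exists_proj (hS : IsRootSubgroupSet S) {A Q B : Subgroup G} (hA : A ∈ S) (hQ : Q ∈ S)
    (hB : B ∈ S) (hAQ : ⁅A, Q⁆ ∈ S) (hAB : IsRankOnePair A B) :
    ∃ P ∈ linePartners S A, RootCommutatorCase S P B := by
  obtain ⟨hmem, hpart, hline, -⟩ := S5029.result hS (not_isolated_of_partner hA hB hAB) hA hQ hAQ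
  set D := ⁅A, Q⁆ with hD
  have hcase := commutatorCase_of_mem hS hA hQ hAQ
  have hAD : ∀ a ∈ A, ∀ d ∈ D, a * d = d * a := fun a ha d hd =>
    (hcase.2.1 d hd a (Subgroup.mem_sup_left ha)).symm
  have hDA : D ≠ A := fun e => hline.1.2.1 e.symm
  have hDlp : D ∈ linePartners S A :=
    ⟨⟨hAQ, hDA, bracket_eq_bot_iff.2 hAD⟩, hpart⟩
  -- the point through a product
  have hpoint : ∀ a ∈ A, a ≠ 1 → ∀ d ∈ D, d ≠ 1 → ∃ t ∈ Q, conjBy A t ≠ A ∧ a * d ∈ conjBy A t := by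
    intro a ha ha1 d hd hd1
    obtain ⟨t, ht, htd⟩ := commutator_surj (commutatorCase_symm hcase) ha ha1
      (show d ∈ ⁅Q, A⁆ by rw [Subgroup.commutator_comm]; exact hd)
    have hm : a * d ∈ conjBy A t := by
      rw [hAD a ha d hd, ← htd, inv_mul_cancel_right]
      exact conjBy_mem_conjBy ha
    refine ⟨t, ht, fun e => ?_, hm⟩
    rw [e] at hm
    have hdA : d ∈ A := by simpa using mul_mem (inv_mem ha) hm
    exact hDA (eq_of_inter hS hA hAQ hB hAB hdA hd hd1)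
  -- each such point is again a line partner of `A`
  have hlp : ∀ t ∈ Q, conjBy A t ≠ A → conjBy A t ∈ linePartners S A := by
    intro t ht hne
    have hsup : A ⊔ conjBy A t = A ⊔ D := by
      refine le_antisymm (sup_le le_sup_left ?_) (sup_le le_sup_left fun d hd => ?_)
      · have : conjBy A t ∈ membersIn S (A ⊔ D) := by rw [hmem]; exact Or.inl ⟨t, ht, rfl⟩
        exact this.2
      · by_cases ht1 : t = 1
        · exact absurd (by rw [ht1, conjBy_one]) hne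
        obtain ⟨a, ha, had⟩ := commutator_surj hcase ht ht1 hd
        rw [← had, show a * t * a⁻¹ * t⁻¹ = a * (t * a⁻¹ * t⁻¹) by group]
        exact mul_mem (Subgroup.mem_sup_left ha)
          (Subgroup.mem_sup_right (conjBy_mem_conjBy (inv_mem ha)))
    refine ⟨⟨hS.conj_mem A hA t, hne, bracket_eq_bot_iff.2 fun a ha y hy => ?_⟩, hsup.symm ▸ hpart⟩
    obtain ⟨a', ha', rfl⟩ : ∃ a' ∈ A, y = t * a' * t⁻¹ := ⟨t⁻¹ * y * t, mem_conjBy.1 hy, by group⟩
    have h1 : t * a' * t⁻¹ * a'⁻¹ ∈ D := by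
      rw [hD, Subgroup.commutator_comm]; exact commutator_mem ht ha'
    have h2 : Commute a (t * a' * t⁻¹ * a'⁻¹ * a') :=
      Commute.mul_right (hAD a ha _ h1) (root_comm hS hA ha ha')
    simpa using h2.eq
  by_contra hno
  push Not at hno
  -- `D` is a rank one partner of `B`
  have hDB : IsRankOnePair D B := by
    rcases hS.pair D hAQ B hB with h | h | h
    · exfalso
      obtain ⟨a, ha, ha1⟩ := exists_ne_one_of_mem hS hA
      obtain ⟨d, hd, hd1⟩ := exists_ne_one_of_mem hS hAQ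
      obtain ⟨t, ht, hne, hm⟩ := hpoint a ha ha1 d hd hd1
      exact hne (eq_of_product_mem hS (hS.conj_mem A hA t) hA hB hAB ha ha1
        (fun x hx => (hAD x hx d hd).symm) (bracket_eq_bot_iff.1 h d hd)
        (by rw [← hAD a ha d hd]; exact hm)).1
    · exact h
    · exact absurd h (hno D hDlp)
  obtain ⟨b, hb, hb1⟩ := exists_ne_one_of_mem hS hB
  obtain ⟨a, ha, ha1, hea⟩ := hAB.cond_right b hb hb1
  obtain ⟨d, hd, hd1, hed⟩ := hDB.cond_right b hb hb1
  obtain ⟨t, ht, hne, hm⟩ := hpoint a⁻¹ (inv_mem ha) (inv_ne_one.2 ha1) d hd hd1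
  have hR : IsRankOnePair (conjBy A t) B := by
    rcases hS.pair _ (hS.conj_mem A hA t) B hB with h | h | h
    · exfalso
      refine hDA (eq_of_product_mem hS hAQ hA hB hAB (z := a⁻¹ * d) ha ha1 (fun x hx => ?_)
        (fun x hx => bracket_eq_bot_iff.1 h _ hm x hx) ?_).1
      · exact (Commute.mul_left (root_comm hS hA (inv_mem ha) hx : Commute a⁻¹ x) (hAD x hx d hd).symm).eq
      · rw [mul_assoc, ← hAD a ha d hd, inv_mul_cancel_left]
        exact hd
    · exact h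
    · exact absurd h (hno _ (hlp t ht hne))
  refine conj_partner_not_commute hR hm (fun e => hDA (eq_of_inter hS hA hAQ hB hAB
    (a := d) ?_ hd hd1)) (bracket_eq_bot_iff.2 fun y hy x hx => ?_)
  · rw [show d = a from inv_mul_eq_one.1 e |>.symm]; exact ha
  · -- `B ^ a` and `B ^ d` commute
    have hcom : ∀ u ∈ conjBy B a⁻¹, ∀ v ∈ conjBy B d⁻¹, u * v = v * u := by
      rw [hea, hed]
      intro u hu v hv
      have hu' := mem_conjBy.1 hu
      have hv' := mem_conjBy.1 hv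
      rw [inv_inv] at hu' hv'
      have := congrArg (fun z => b⁻¹ * z * b) (hAD _ hu' _ hv')
      simpa [mul_assoc] using this
    have had : d * a⁻¹ = a⁻¹ * d := (hAD _ (inv_mem ha) d hd).symm
    have hy' : d⁻¹ * y * d ∈ conjBy B a⁻¹ := by
      rw [← had, ← conjBy_conjBy] at hy
      exact mem_conjBy.1 hy
    have hx' : d⁻¹ * x * d ∈ conjBy B d⁻¹ := by
      have := conjBy_mem_conjBy (g := d⁻¹) hx
      rwa [inv_inv] at this
    have := congrArg (fun z => d * z * d⁻¹) (hcom _ hy' _ hx')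
    simpa [mul_assoc] using this

/-- A rank one pair acting quadratically, not abelianly, on a normalised abelian subgroup. -/
theorem special_of_module {A B : Subgroup G} (h : IsRankOnePair A B) (U : Subgroup G)
    (hU : ∀ x ∈ U, ∀ y ∈ U, x * y = y * x) (hn : A ⊔ B ≤ Subgroup.normalizer (U : Set G))
    (hq : ∀ a ∈ A, ∀ u ∈ U, ∀ a' ∈ A, a' * (a * u * a⁻¹ * u⁻¹) = (a * u * a⁻¹ * u⁻¹) * a')
    (hne : ∃ u ∈ U, ∃ b ∈ B, ∃ a ∈ A, a * (b * u * b⁻¹ * u⁻¹) ≠ (b * u * b⁻¹ * u⁻¹) * a) :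
    IsSpecialRankOnePair A B := by
  set X := A ⊔ B with hX
  let cg : CommGroup ↥U := { (inferInstance : Group ↥U) with
    mul_comm := fun x y => Subtype.ext (hU x x.2 y y.2) }
  let act : DistribMulAction ↥X (Additive ↥U) :=
    { smul := fun x u => Additive.ofMul ⟨(x : G) * (Additive.toMul u : ↥U) * (x : G)⁻¹,
        (Subgroup.mem_normalizer_iff.1 (hn x.2) _).1 (Additive.toMul u).2⟩
      one_smul := fun u => congrArg Additive.ofMul (Subtype.ext (by
        show (1 : G) * ((Additive.toMul u : ↥U) : G) * (1 : G)⁻¹ = ((Additive.toMul u : ↥U) : G)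
        group))
      mul_smul := fun x y u => congrArg Additive.ofMul (Subtype.ext (by
        show ((x : G) * y) * _ * ((x : G) * y)⁻¹ = (x : G) * ((y : G) * _ * (y : G)⁻¹) * (x : G)⁻¹
        group))
      smul_zero := fun x => congrArg Additive.ofMul (Subtype.ext (by
        show (x : G) * 1 * (x : G)⁻¹ = 1
        group))
      smul_add := fun x u v => congrArg Additive.ofMul (Subtype.ext (by
        show (x : G) * ((Additive.toMul u : ↥U) * (Additive.toMul v : ↥U)) * (x : G)⁻¹ =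
          ((x : G) * (Additive.toMul u : ↥U) * (x : G)⁻¹) * ((x : G) * (Additive.toMul v : ↥U) * (x : G)⁻¹)
        group)) }
  have hA : A ≤ X := le_sup_left
  have hB : B ≤ X := le_sup_right
  have hconj : ∀ (P : Subgroup G) (g : ↥X), conjBy (P.subgroupOf X) g = (conjBy P (g : G)).subgroupOf X :=
    fun P g => by ext y; rw [Subgroup.mem_subgroupOf, mem_conjBy, mem_conjBy, Subgroup.mem_subgroupOf]; rfl
  have hnil : ∀ P : Subgroup G, P ≤ X → Group.IsNilpotent P → Group.IsNilpotent ↥(P.subgroupOf X) :=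
    fun P hP hP' => Group.nilpotent_of_mulEquiv (Subgroup.subgroupOfEquivOfLe hP).symm
  have hcond : ∀ P Q : Subgroup G, Q ≤ X → RankOneCondition P Q →
      RankOneCondition (P.subgroupOf X) (Q.subgroupOf X) := by
    intro P Q hQ hPQ a ha ha1
    obtain ⟨b, hb, hb1, he⟩ := hPQ _ (Subgroup.mem_subgroupOf.1 ha) (fun e => ha1 (Subtype.ext e))
    refine ⟨⟨b, hQ hb⟩, Subgroup.mem_subgroupOf.2 hb, fun e => hb1 (congrArg Subtype.val e), ?_⟩
    rw [hconj, hconj]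
    simp [he]
  have hpair : IsRankOnePair (A.subgroupOf X) (B.subgroupOf X) :=
    ⟨fun e => h.ne (by
      have := congrArg (Subgroup.map X.subtype) e
      rwa [Subgroup.map_subgroupOf_eq_of_le hA, Subgroup.map_subgroupOf_eq_of_le hB] at this),
    hnil A hA h.nilpotent_left, hnil B hB h.nilpotent_right, hcond A B hB h.cond_left,
    hcond B A hA h.cond_right⟩
  have hgen : A.subgroupOf X ⊔ B.subgroupOf X = ⊤ := by
    rw [← Subgroup.subgroupOf_sup hA hB]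
    simp [hX]
  have hsub : ∀ (x : ↥X) (u : Additive ↥U), ((Additive.toMul (x • u - u) : ↥U) : G) =
      (x : G) * (Additive.toMul u : ↥U) * (x : G)⁻¹ * ((Additive.toMul u : ↥U) : G)⁻¹ := fun x u => by
    rw [toMul_sub, div_eq_mul_inv]
    rfl
  have hsm : ∀ (x : ↥X) (u : Additive ↥U), ((Additive.toMul (x • u) : ↥U) : G) =
      (x : G) * (Additive.toMul u : ↥U) * (x : G)⁻¹ := fun x u => rfl
  have hQ : Quad (Additive ↥U) (A.subgroupOf X) := quad_of_smul fun a ha a' ha' u => by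
    refine Additive.toMul.injective (Subtype.ext ?_)
    rw [hsm, hsub]
    rw [hq _ (Subgroup.mem_subgroupOf.1 ha) _ (Additive.toMul u).2 _ (Subgroup.mem_subgroupOf.1 ha'),
      mul_inv_cancel_right]
  obtain ⟨u, hu, b, hb, a, ha, hne⟩ := hne
  have hs := special_of_quad hgen hpair hQ ⟨⟨b, hB hb⟩, ⟨a, hA ha⟩, fun e => hne (by
    have h1 := DFunLike.congr_fun e (Additive.ofMul (⟨u, hu⟩ : ↥U))
    have h2 : (⟨a, hA ha⟩ : ↥X) • ((⟨b, hB hb⟩ : ↥X) • Additive.ofMul (⟨u, hu⟩ : ↥U) -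
        Additive.ofMul (⟨u, hu⟩ : ↥U)) =
        (⟨b, hB hb⟩ : ↥X) • Additive.ofMul (⟨u, hu⟩ : ↥U) - Additive.ofMul (⟨u, hu⟩ : ↥U) :=
      sub_eq_zero.1 h1
    have h3 : a * (b * u * b⁻¹ * u⁻¹) * a⁻¹ = b * u * b⁻¹ * u⁻¹ := by
      have h4 := congrArg (fun z => ((Additive.toMul z : ↥U) : G)) h2
      simp only [hsm, hsub] at h4
      exact h4
    calc a * (b * u * b⁻¹ * u⁻¹) = a * (b * u * b⁻¹ * u⁻¹) * a⁻¹ * a := (inv_mul_cancel_right _ _).symm
      _ = _ := by rw [h3])⟩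
  refine ⟨h, fun a ha ha1 b hb hb1 he => ?_⟩
  exact congrArg Subtype.val (hs.2 ⟨a, hA ha⟩ (Subgroup.mem_subgroupOf.2 ha)
    (fun e => ha1 (congrArg Subtype.val e)) ⟨b, hB hb⟩ (Subgroup.mem_subgroupOf.2 hb)
    (fun e => hb1 (congrArg Subtype.val e)) (by rw [hconj, hconj]; simp [he]))

/-- Rank one pairs linked through a line are special. -/
theorem specialPair_of_proj (hS : IsRootSubgroupSet S) {A B C : Subgroup G} (hA : A ∈ S)
    (hB : B ∈ S) (hC : C ∈ S) (hAB : IsRankOnePair A B) (hAC : ⁅A, C⁆ = ⊥)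
    (hCB : RootCommutatorCase S C B) : IsSpecialRankOnePair A B := by
  set D := ⁅C, B⁆ with hDdef
  have hDS : D ∈ S := hCB.1
  have hBA := RankOnePair_symm hAB
  have hCA' : ∀ c ∈ C, ∀ x ∈ A, c * x = x * c := fun c hc x hx =>
    (bracket_eq_bot_iff.1 hAC x hx c hc).symm
  have hDC : ∀ d ∈ D, ∀ x ∈ C, d * x = x * d := fun d hd x hx =>
    hCB.2.1 d hd x (Subgroup.mem_sup_left hx)
  have hDB : ∀ d ∈ D, ∀ x ∈ B, d * x = x * d := fun d hd x hx =>
    hCB.2.1 d hd x (Subgroup.mem_sup_right hx)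
  -- for `c ≠ 1` and `b ≠ 1` the commutator is non-trivial
  have hne1 : ∀ c ∈ C, c ≠ 1 → ∀ b ∈ B, b ≠ 1 → c * b * c⁻¹ * b⁻¹ ≠ 1 := fun c hc hc1 b hb hb1 e =>
    hc1 (commutator_inj hS hC hB hA hBA hCB hc hb hb1 (commutatorElement_eq_one_iff_mul_comm.1 e))
  obtain ⟨a₀, ha₀, ha₀1⟩ := exists_ne_one_of_mem hS hA
  obtain ⟨b₀, hb₀, hb₀1, he⟩ := hAB.cond_left a₀ ha₀ ha₀1
  obtain ⟨c₀, hc₀, hc₀1⟩ := exists_ne_one_of_mem hS hC
  -- `D` does not commute with `A`
  have hDA : ⁅D, A⁆ ≠ ⊥ := by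
    intro h0
    have hDA' := bracket_eq_bot_iff.1 h0
    have hk : c₀ * b₀⁻¹ * c₀⁻¹ * b₀ ∈ D := by
      have := commutator_mem hc₀ (inv_mem hb₀)
      rwa [inv_inv] at this
    have e1 : conjBy (conjBy A b₀⁻¹) c₀ = conjBy A b₀⁻¹ := by
      rw [conjBy_conjBy, show c₀ * b₀⁻¹ = (c₀ * b₀⁻¹ * c₀⁻¹ * b₀) * b₀⁻¹ * c₀ by group,
        ← conjBy_conjBy A _ c₀, conjBy_eq_of_commute (hCA' c₀ hc₀), ← conjBy_conjBy]
      refine conjBy_eq_of_commute fun y hy => ?_
      have hy' := mem_conjBy.1 hy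
      rw [inv_inv] at hy'
      have h1 : Commute (c₀ * b₀⁻¹ * c₀⁻¹ * b₀) b₀ := hDB _ hk b₀ hb₀
      have h2 : Commute (c₀ * b₀⁻¹ * c₀⁻¹ * b₀) (b₀ * y * b₀⁻¹) := hDA' _ hk _ hy'
      have := ((h1.inv_right.mul_right h2).mul_right h1).eq
      simpa [mul_assoc] using this
    rw [he, conjBy_conjBy, (hCA' c₀ hc₀ _ (inv_mem ha₀)), ← conjBy_conjBy] at e1
    have e2 : conjBy B c₀ = B := by
      have := congrArg (fun T => conjBy T a₀) e1
      simp only [conjBy_cancel_inv] at this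
      exact this
    have hkB : c₀ * b₀ * c₀⁻¹ * b₀⁻¹ ∈ B := mul_mem (e2 ▸ conjBy_mem_conjBy hb₀) (inv_mem hb₀)
    have e := eq_of_inter hS hB hDS hA hBA hkB (commutator_mem hc₀ hb₀) (hne1 c₀ hc₀ hc₀1 b₀ hb₀ hb₀1)
    exact hS.ne_bot D hDS (bracket_eq_bot_iff.2 fun x hx y hy => (hDC y (e.symm ▸ hy) x hx).symm)
  -- `(D, A)` is in the commutator case
  have hDAc : RootCommutatorCase S D A := by
    refine ((hS.pair D hDS A hA).resolve_left hDA).resolve_left fun h => ?_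
    have hCb : IsRankOnePair (conjBy C b₀) A := by
      set p := b₀ * c₀ * b₀⁻¹ with hp
      have hpm : p ∈ conjBy C b₀ := conjBy_mem_conjBy hc₀
      have hk : b₀ * c₀ * b₀⁻¹ * c₀⁻¹ ∈ D := by
        rw [hDdef, Subgroup.commutator_comm]; exact commutator_mem hb₀ hc₀
      have hpd : p = (b₀ * c₀ * b₀⁻¹ * c₀⁻¹) * c₀ := by rw [hp]; group
      have hk1 : b₀ * c₀ * b₀⁻¹ * c₀⁻¹ ≠ 1 := fun e => hne1 c₀ hc₀ hc₀1 b₀ hb₀ hb₀1 (by
        rw [show c₀ * b₀ * c₀⁻¹ * b₀⁻¹ = (b₀ * c₀ * b₀⁻¹ * c₀⁻¹)⁻¹ by group, e, inv_one])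
      rcases hS.pair _ (hS.conj_mem C hC b₀) A hA with h' | h' | h'
      · exfalso
        refine hDA (bracket_eq_bot_of_commute_left hS hDS hA hk hk1 fun x hx => ?_)
        have h1 := bracket_eq_bot_iff.1 h' p hpm x hx
        rw [hpd] at h1
        have h2 : Commute ((b₀ * c₀ * b₀⁻¹ * c₀⁻¹) * c₀ * c₀⁻¹) x :=
          Commute.mul_left h1 (Commute.inv_left (hCA' c₀ hc₀ x hx : Commute c₀ x))
        simpa using h2.eq
      · exact h'
      · exfalso
        refine conj_partner_not_commute (RankOnePair_symm (RankOnePair_symm h)) hk hk1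
          (bracket_eq_bot_iff.2 fun y hy x hx => ?_)
        obtain ⟨z, hz, rfl⟩ : ∃ z ∈ A, y = (b₀ * c₀ * b₀⁻¹ * c₀⁻¹) * z * (b₀ * c₀ * b₀⁻¹ * c₀⁻¹)⁻¹ :=
          ⟨_, mem_conjBy.1 hy, by group⟩
        have h1 : Commute (p * z * p⁻¹ * z⁻¹) x :=
          h'.2.1 _ (commutator_mem hpm hz) x (Subgroup.mem_sup_right hx)
        have h2 := Commute.mul_left h1 (root_comm hS hA hz hx : Commute z x)
        rw [inv_mul_cancel_right, hpd, mul_inv_rev,
          show ∀ k : G, k * c₀ * z * (c₀⁻¹ * k⁻¹) = k * (c₀ * z * c₀⁻¹) * k⁻¹ from fun k => by group,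
          hCA' c₀ hc₀ z hz, mul_inv_cancel_right] at h2
        exact h2.eq
    have h1 := isRankOnePair_conj hCb b₀⁻¹
    rw [conjBy_inv_cancel, he] at h1
    have h2 := isRankOnePair_conj h1 a₀
    rw [conjBy_cancel_inv, conjBy_eq_of_commute (fun x hx => (hCA' x hx a₀ ha₀).symm)] at h2
    exact not_case_of_rankOne hS hC hB h2 hCB
  set E := ⁅D, A⁆ with hEdef
  have hED : ∀ e ∈ E, ∀ x ∈ D, e * x = x * e := fun e he x hx => hDAc.2.1 e he x (Subgroup.mem_sup_left hx)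
  have hEA : ∀ e ∈ E, ∀ x ∈ A, e * x = x * e := fun e he x hx => hDAc.2.1 e he x (Subgroup.mem_sup_right hx)
  have hEC : ∀ e ∈ E, ∀ x ∈ C, e * x = x * e := by
    intro e he x hx
    refine Subgroup.mem_centralizer_singleton_iff.1 ((?_ : E ≤ Subgroup.centralizer {x}) he)
    rw [hEdef, Subgroup.commutator_le]
    intro d hd a ha
    rw [Subgroup.mem_centralizer_singleton_iff]
    have h1 : Commute d x := hDC d hd x hx
    have h2 : Commute a x := (hCA' x hx a ha).symm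
    exact (((h1.mul_left h2).mul_left h1.inv_left).mul_left h2.inv_left).eq
  -- correction of `E` by `C`
  have hcorr : ∀ e ∈ E, ∃ c ∈ C, ∀ x ∈ B, (e * c) * x = x * (e * c) := by
    intro e hem
    obtain ⟨d, hd, hde⟩ := commutator_surj hDAc ha₀ ha₀1 hem
    obtain ⟨c, hc, hcd⟩ := commutator_surj hCB (inv_mem hb₀) (inv_ne_one.2 hb₀1)
      (show d ∈ ⁅C, B⁆ from hd)
    refine ⟨c, hc, fun x hx => ?_⟩
    have hmem : a₀ * (b₀⁻¹ * c * b₀) * a₀⁻¹ ∈ conjBy (conjBy C b₀⁻¹) a₀ :=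
      conjBy_mem_conjBy (by simpa using conjBy_mem_conjBy (g := b₀⁻¹) hc)
    have hcm : ∀ u ∈ conjBy (conjBy C b₀⁻¹) a₀, ∀ v ∈ B, u * v = v * u := by
      intro u hu v hv
      have hv' : a₀⁻¹ * v * a₀ ∈ conjBy A b₀⁻¹ := by
        rw [he]; simpa using conjBy_mem_conjBy (g := a₀⁻¹) hv
      have hu1 := mem_conjBy.1 (mem_conjBy.1 hu)
      have hv1 := mem_conjBy.1 hv'
      have := congrArg (fun z => a₀ * (b₀⁻¹ * z * b₀) * a₀⁻¹) (hCA' _ hu1 _ hv1)
      simpa [mul_assoc] using this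
    have h1 : Commute (a₀ * (b₀⁻¹ * c * b₀) * a₀⁻¹) x := hcm _ hmem x hx
    have e1 : a₀ * (b₀⁻¹ * c * b₀) * a₀⁻¹ = d⁻¹ * (e * c) := by
      have h2 : Commute c a₀ := hCA' c hc a₀ ha₀
      rw [← hde, ← hcd]
      calc a₀ * (b₀⁻¹ * c * b₀) * a₀⁻¹
          = a₀ * (c * b₀⁻¹ * c⁻¹ * b₀⁻¹⁻¹)⁻¹ * a₀⁻¹ * (a₀ * c * a₀⁻¹) := by group
        _ = a₀ * (c * b₀⁻¹ * c⁻¹ * b₀⁻¹⁻¹)⁻¹ * a₀⁻¹ * c := by
            rw [show a₀ * c * a₀⁻¹ = c by rw [← h2.eq, mul_inv_cancel_right]]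
        _ = _ := by group
    rw [e1] at h1
    have h5 := Commute.mul_left (hDB d hd x hx) h1
    rw [mul_inv_cancel_left] at h5
    exact h5.eq
  -- the module
  set U := C ⊔ D ⊔ E with hU
  have hcommU : ∀ x ∈ U, ∀ y ∈ U, x * y = y * x := by
    have hgens : ∀ x ∈ (C : Set G) ∪ D ∪ E, U ≤ Subgroup.centralizer {x} := by
      intro x hx
      refine sup_le (sup_le ?_ ?_) ?_ <;> intro y hy <;> rw [Subgroup.mem_centralizer_singleton_iff]
      · rcases hx with (hx | hx) | hx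
        · exact root_comm hS hC hy hx
        · exact (hDC x hx y hy).symm
        · exact (hEC x hx y hy).symm
      · rcases hx with (hx | hx) | hx
        · exact hDC y hy x hx
        · exact root_comm hS hDS hy hx
        · exact (hED x hx y hy).symm
      · rcases hx with (hx | hx) | hx
        · exact hEC y hy x hx
        · exact hED y hy x hx
        · exact root_comm hS hDAc.1 hy hx
    intro x hx y hy
    have hle : U ≤ Subgroup.centralizer {y} := by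
      refine sup_le (sup_le ?_ ?_) ?_ <;> intro z hz <;> rw [Subgroup.mem_centralizer_singleton_iff]
      · exact (Subgroup.mem_centralizer_singleton_iff.1 (hgens z (Or.inl (Or.inl hz)) hy)).symm
      · exact (Subgroup.mem_centralizer_singleton_iff.1 (hgens z (Or.inl (Or.inr hz)) hy)).symm
      · exact (Subgroup.mem_centralizer_singleton_iff.1 (hgens z (Or.inr hz) hy)).symm
    exact Subgroup.mem_centralizer_singleton_iff.1 (hle hx)
  -- generators act through `E`, resp. `D`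
  have hstep : ∀ (W : Subgroup G) (g : G), W ≤ U →
      (∀ w ∈ W, ∀ u ∈ U, w * u = u * w) → (∀ u ∈ C, g * u * g⁻¹ * u⁻¹ ∈ W) →
      (∀ u ∈ D, g * u * g⁻¹ * u⁻¹ ∈ W) → (∀ u ∈ E, g * u * g⁻¹ * u⁻¹ ∈ W) →
      ∀ u ∈ U, g * u * g⁻¹ * u⁻¹ ∈ W := by
    intro W g hWU hW hC' hD' hE'
    let T : Subgroup G :=
      { carrier := {u | u ∈ U ∧ g * u * g⁻¹ * u⁻¹ ∈ W}
        one_mem' := ⟨one_mem _, by simp⟩
        mul_mem' := fun {u v} hu hv => ⟨mul_mem hu.1 hv.1, by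
          rw [show g * (u * v) * g⁻¹ * (u * v)⁻¹ =
              (g * u * g⁻¹ * u⁻¹) * (u * (g * v * g⁻¹ * v⁻¹) * u⁻¹) by group,
            ← hW _ hv.2 u hu.1, mul_inv_cancel_right]
          exact mul_mem hu.2 hv.2⟩
        inv_mem' := fun {u} hu => ⟨inv_mem hu.1, by
          have h1 : Commute (g * u * g⁻¹ * u⁻¹)⁻¹ u⁻¹ :=
            (Commute.inv_left (Commute.inv_right (hW _ hu.2 u hu.1 : Commute _ u)))
          rw [show g * u⁻¹ * g⁻¹ * u⁻¹⁻¹ = u⁻¹ * (g * u * g⁻¹ * u⁻¹)⁻¹ * u by group, ← h1.eq,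
            inv_mul_cancel_right]
          exact inv_mem hu.2⟩ }
    have hle : U ≤ T := sup_le (sup_le
      (fun x hx => ⟨Subgroup.mem_sup_left (Subgroup.mem_sup_left hx), hC' x hx⟩)
      (fun x hx => ⟨Subgroup.mem_sup_left (Subgroup.mem_sup_right hx), hD' x hx⟩))
      (fun x hx => ⟨Subgroup.mem_sup_right hx, hE' x hx⟩)
    exact fun u hu => (hle hu).2
  have hEU : E ≤ U := le_sup_right
  have hDU : D ≤ U := le_sup_right.trans le_sup_left
  have htriv : ∀ {x g : G}, g * x = x * g → g * x * g⁻¹ * x⁻¹ = 1 := fun {x g} e =>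
    commutatorElement_eq_one_iff_mul_comm.2 e
  have hAU : ∀ a ∈ A, ∀ u ∈ U, a * u * a⁻¹ * u⁻¹ ∈ E := fun a ha => hstep E a hEU
    (fun w hw u hu => hcommU w (hEU hw) u hu)
    (fun u hu => by rw [htriv (hCA' u hu a ha).symm]; exact one_mem _)
    (fun u hu => by rw [hEdef, Subgroup.commutator_comm]; exact commutator_mem ha hu)
    (fun u hu => by rw [htriv (hEA u hu a ha).symm]; exact one_mem _)
  have hBU : ∀ b ∈ B, ∀ u ∈ U, b * u * b⁻¹ * u⁻¹ ∈ D := fun b hb => hstep D b hDU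
    (fun w hw u hu => hcommU w (hDU hw) u hu)
    (fun u hu => by rw [hDdef, Subgroup.commutator_comm]; exact commutator_mem hb hu)
    (fun u hu => by rw [htriv (hDB u hu b hb).symm]; exact one_mem _)
    (fun u hu => by
      obtain ⟨c, hc, hcc⟩ := hcorr u hu
      have h1 : Commute (u * c) b := hcc b hb
      have h2 : b * u * b⁻¹ * u⁻¹ = (u * c) * (b * c⁻¹ * b⁻¹ * c⁻¹⁻¹) * (u * c)⁻¹ := by
        calc b * u * b⁻¹ * u⁻¹ = (b * (u * c)) * c⁻¹ * b⁻¹ * u⁻¹ := by group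
          _ = ((u * c) * b) * c⁻¹ * b⁻¹ * u⁻¹ := by rw [h1.eq]
          _ = (u * c) * (b * c⁻¹ * b⁻¹ * c⁻¹⁻¹) * (u * c)⁻¹ := by group
      have h3 : b * c⁻¹ * b⁻¹ * c⁻¹⁻¹ ∈ D := by
        rw [hDdef, Subgroup.commutator_comm]; exact commutator_mem hb (inv_mem hc)
      rw [h2, hcommU _ (mul_mem (hEU hu) (Subgroup.mem_sup_left (Subgroup.mem_sup_left hc))) _ (hDU h3),
        mul_inv_cancel_right]
      exact h3)
  have hnorm : A ⊔ B ≤ Subgroup.normalizer (U : Set G) := by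
    have key : ∀ g : G, (∀ u ∈ U, g * u * g⁻¹ * u⁻¹ ∈ U) → ∀ u ∈ U, g * u * g⁻¹ ∈ U := fun g hg u hu => by
      simpa using mul_mem (hg u hu) hu
    refine sup_le (fun a ha => ?_) (fun b hb => ?_) <;> rw [Subgroup.mem_normalizer_iff] <;>
      refine fun u => ⟨fun hu => ?_, fun hu => ?_⟩
    · exact key a (fun u hu => hEU (hAU a ha u hu)) u hu
    · simpa [mul_assoc] using key a⁻¹ (fun u hu => hEU (hAU _ (inv_mem ha) u hu)) _ hu
    · exact key b (fun u hu => hDU (hBU b hb u hu)) u hu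
    · simpa [mul_assoc] using key b⁻¹ (fun u hu => hDU (hBU _ (inv_mem hb) u hu)) _ hu
  refine special_of_module hAB U (fun x hx y hy => hcommU x hx y hy) hnorm
    (fun a ha u hu a' ha' => (hEA _ (hAU a ha u hu) a' ha').symm) ?_
  have hdm : b₀ * c₀ * b₀⁻¹ * c₀⁻¹ ∈ D := by
    rw [hDdef, Subgroup.commutator_comm]; exact commutator_mem hb₀ hc₀
  refine ⟨c₀, Subgroup.mem_sup_left (Subgroup.mem_sup_left hc₀), b₀, hb₀, a₀, ha₀, fun e =>
    hDA (bracket_eq_bot_of_commute_left hS hDS hA hdm (fun e' => hne1 c₀ hc₀ hc₀1 b₀ hb₀ hb₀1 ?_) fun x hx => ?_)⟩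
  · rw [show c₀ * b₀ * c₀⁻¹ * b₀⁻¹ = (b₀ * c₀ * b₀⁻¹ * c₀⁻¹)⁻¹ by group, e', inv_one]
  · have h1 : Commute (b₀ * c₀ * b₀⁻¹ * c₀⁻¹) a₀ := e.symm
    have h2 := commutatorCase_symm hDAc
    by_cases hx1 : x = 1
    · simp [hx1]
    by_contra hne
    exact hne (commutatorElement_eq_one_iff_mul_comm.1 (by
      by_contra hk
      have h3 := hDAc.2.2.1 _ hdm (fun e' => hne1 c₀ hc₀ hc₀1 b₀ hb₀ hb₀1 (by
        rw [show c₀ * b₀ * c₀⁻¹ * b₀⁻¹ = (b₀ * c₀ * b₀⁻¹ * c₀⁻¹)⁻¹ by group, e', inv_one]))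
      exact hk (by
        have h4 := commutator_inj hS hDS hA hB hAB hDAc hdm ha₀ ha₀1 h1
        rw [h4]; simp)))

end Cfsg.Agent.RootLib
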