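import Cfsg.Agent.Lib.Root.SetsMore

/-!
Rank one groups acting quadratically on a module.
-/

set_option autoImplicit false

namespace Cfsg.Agent.RootLib

open Cfsg

variable {X : Type*} [Group X] {N : Type*} [AddCommGroup N] [DistribMulAction X N]

/-- `g - 1` as an endomorphism of the module. -/
noncomputable def dlt (N : Type*) [AddCommGroup N] [DistribMulAction X N] (g : X) : AddMonoid.End N :=
  DistribMulAction.toAddMonoidEnd X N g - 1

theorem dlt_apply (g : X) (n : N) : dlt N g n = g • n - n := rfl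

theorem dlt_mul (g h : X) : dlt N (g * h) = dlt N g * dlt N h + dlt N g + dlt N h := by
  simp only [dlt, map_mul]
  noncomm_ring

theorem dlt_one : dlt N (1 : X) = 0 := by rw [dlt, map_one, sub_self]

theorem dlt_inv_of_sq {g : X} (hg : dlt N g * dlt N g = 0) : dlt N g⁻¹ = -dlt N g := by
  have h := dlt_mul (N := N) g⁻¹ g
  rw [inv_mul_cancel, dlt_one] at h
  have e : dlt N g⁻¹ * (1 + dlt N g) = -dlt N g := by
    linear_combination (norm := noncomm_ring) -h
  calc dlt N g⁻¹ = dlt N g⁻¹ * (1 + dlt N g) * (1 - dlt N g) := by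
        linear_combination (norm := noncomm_ring) (dlt N g⁻¹ : AddMonoid.End N) * hg
    _ = -dlt N g := by rw [e]; linear_combination (norm := noncomm_ring) hg

theorem dlt_conj (g x : X) :
    dlt N (g * x * g⁻¹) = DistribMulAction.toAddMonoidEnd X N g * dlt N x *
      DistribMulAction.toAddMonoidEnd X N g⁻¹ := by
  have h : DistribMulAction.toAddMonoidEnd X N g * DistribMulAction.toAddMonoidEnd X N g⁻¹ = 1 := by
    rw [← map_mul, mul_inv_cancel, map_one]
  simp only [dlt, map_mul, mul_sub, sub_mul, mul_one, h]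

variable {A B : Subgroup X}

/-- `A` acts quadratically. -/
def Quad (N : Type*) [AddCommGroup N] [DistribMulAction X N] (A : Subgroup X) : Prop :=
  ∀ a ∈ A, ∀ a' ∈ A, dlt N a' * dlt N a = 0

theorem quad_of_smul (hq : ∀ a ∈ A, ∀ a' ∈ A, ∀ n : N, a' • (a • n - n) = a • n - n) : Quad N A := by
  intro a ha a' ha'
  refine AddMonoidHom.ext fun n => ?_
  show dlt N a' (dlt N a n) = 0
  rw [dlt_apply, dlt_apply, hq a ha a' ha', sub_self]

theorem quad_conj (hq : Quad N A) (g : X) : Quad N (conjBy A g) := by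
  rintro _ ⟨a, ha, rfl⟩ _ ⟨a', ha', rfl⟩
  simp only [MulEquiv.coe_toMonoidHom, MulAut.conj_apply, dlt_conj]
  have h : DistribMulAction.toAddMonoidEnd X N g⁻¹ * DistribMulAction.toAddMonoidEnd X N g = 1 := by
    rw [← map_mul, inv_mul_cancel, map_one]
  calc _ = DistribMulAction.toAddMonoidEnd X N g * (dlt N a' *
        (DistribMulAction.toAddMonoidEnd X N g⁻¹ * DistribMulAction.toAddMonoidEnd X N g) * dlt N a) *
          DistribMulAction.toAddMonoidEnd X N g⁻¹ := by simp only [mul_assoc]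
    _ = 0 := by rw [h, mul_one, hq a ha a' ha', mul_zero, zero_mul]

/-- The relations coming from a quadratic rank one group. -/
theorem quad_relations (h : IsRankOnePair A B) (hq : Quad N A) {a b : X} (ha : a ∈ A) (hb : b ∈ B)
    (he : conjBy A b⁻¹ = conjBy B a⁻¹) :
    (∀ a' ∈ A, ∀ b' ∈ B, dlt N a' * dlt N b' = dlt N a' * dlt N b * dlt N a * dlt N b') ∧
    (∀ a' ∈ A, ∀ b' ∈ B, dlt N b' * dlt N a' = dlt N b' * dlt N a * dlt N b * dlt N a') := by
  obtain ⟨x, -, hx⟩ := exists_conjBy_eq h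
  have hqB : Quad N B := hx ▸ quad_conj hq x
  have hC := quad_conj hq b⁻¹
  have hai : dlt N a⁻¹ = -dlt N a := dlt_inv_of_sq (hq a ha a ha)
  have hbi : dlt N b⁻¹ = -dlt N b := dlt_inv_of_sq (hqB b hb b hb)
  have key : ∀ a' ∈ A, ∀ b' ∈ B,
      dlt N a' * (1 + dlt N b) * (1 - dlt N a) * dlt N b' = 0 ∧
      dlt N b' * (1 + dlt N a) * (1 - dlt N b) * dlt N a' = 0 := by
    intro a' ha' b' hb'
    have m1 : b⁻¹ * a' * b⁻¹⁻¹ ∈ conjBy A b⁻¹ := conjBy_mem_conjBy ha'
    have m2 : a⁻¹ * b' * a⁻¹⁻¹ ∈ conjBy A b⁻¹ := he ▸ conjBy_mem_conjBy hb'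
    have t : ∀ g : X, DistribMulAction.toAddMonoidEnd X N g = 1 + dlt N g := fun g => by
      rw [dlt]; abel
    have u : ∀ g : X, (DistribMulAction.toAddMonoidEnd X N g⁻¹) * DistribMulAction.toAddMonoidEnd X N g = 1 :=
      fun g => by rw [← map_mul, inv_mul_cancel, map_one]
    have u' : ∀ g : X, (DistribMulAction.toAddMonoidEnd X N g) * DistribMulAction.toAddMonoidEnd X N g⁻¹ = 1 :=
      fun g => by rw [← map_mul, mul_inv_cancel, map_one]
    constructor
    · have h1 := hC _ m2 _ m1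
      rw [dlt_conj, dlt_conj, inv_inv, inv_inv] at h1
      have h2 := congrArg (fun z => DistribMulAction.toAddMonoidEnd X N b * z * DistribMulAction.toAddMonoidEnd X N a⁻¹) h1
      simp only [mul_zero, zero_mul] at h2
      simp only [← mul_assoc, u', one_mul] at h2
      rw [mul_assoc _ (DistribMulAction.toAddMonoidEnd X N a) _, u', mul_one, t b, t a⁻¹, hai] at h2
      linear_combination (norm := noncomm_ring) h2
    · have h1 := hC _ m1 _ m2
      rw [dlt_conj, dlt_conj, inv_inv, inv_inv] at h1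
      have h2 := congrArg (fun z => DistribMulAction.toAddMonoidEnd X N a * z * DistribMulAction.toAddMonoidEnd X N b⁻¹) h1
      simp only [mul_zero, zero_mul] at h2
      simp only [← mul_assoc, u', one_mul] at h2
      rw [mul_assoc _ (DistribMulAction.toAddMonoidEnd X N b) _, u', mul_one, t a, t b⁻¹, hbi] at h2
      linear_combination (norm := noncomm_ring) h2
  refine ⟨fun a' ha' b' hb' => ?_, fun a' ha' b' hb' => ?_⟩
  · linear_combination (norm := noncomm_ring) (key a' ha' b' hb').1 + hq a ha a' ha' * dlt N b' -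
      dlt N a' * hqB b' hb' b hb
  · linear_combination (norm := noncomm_ring) (key a' ha' b' hb').2 + hqB b hb b' hb' * dlt N a' -
      dlt N b' * hq a' ha' a ha

/-- The defect `D` annihilates `A - 1` and `B - 1` on both sides and measures the failure of the
special identity. -/
theorem quad_defect (h : IsRankOnePair A B) (hq : Quad N A) {a b : X} (ha : a ∈ A) (hb : b ∈ B)
    (he : conjBy A b⁻¹ = conjBy B a⁻¹) (D : AddMonoid.End N)
    (hD : D = dlt N a + dlt N b - dlt N a * dlt N b * dlt N a - dlt N b * dlt N a * dlt N b) :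
    (∀ g ∈ A, dlt N g * D = 0 ∧ D * dlt N g = 0) ∧ (∀ g ∈ B, dlt N g * D = 0 ∧ D * dlt N g = 0) ∧
      dlt N ((a⁻¹ * b⁻¹ * a)⁻¹ * (b⁻¹ * a * b)) = D := by
  obtain ⟨x, -, hx⟩ := exists_conjBy_eq h
  have hqB : Quad N B := hx ▸ quad_conj hq x
  obtain ⟨r1, r2⟩ := quad_relations h hq ha hb he
  have hA : ∀ g ∈ A, dlt N g * D = 0 ∧ D * dlt N g = 0 := by
    intro g hg
    subst hD
    constructor
    · linear_combination (norm := noncomm_ring) hq a ha g hg + r1 g hg b hb -
        hq a ha g hg * dlt N b * dlt N a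
    · linear_combination (norm := noncomm_ring) hq g hg a ha + r2 g hg b hb -
        dlt N a * dlt N b * hq g hg a ha
  have hB : ∀ g ∈ B, dlt N g * D = 0 ∧ D * dlt N g = 0 := by
    intro g hg
    subst hD
    constructor
    · linear_combination (norm := noncomm_ring) hqB b hb g hg + r2 a ha g hg -
        hqB b hb g hg * dlt N a * dlt N b
    · linear_combination (norm := noncomm_ring) hqB g hg b hb + r1 a ha g hg -
        dlt N b * dlt N a * hqB g hg b hb
  refine ⟨hA, hB, ?_⟩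
  have hbi : dlt N b⁻¹ = -dlt N b := dlt_inv_of_sq (hqB b hb b hb)
  have hai : dlt N a⁻¹ = -dlt N a := dlt_inv_of_sq (hq a ha a ha)
  rw [show (a⁻¹ * b⁻¹ * a)⁻¹ = a⁻¹ * b * a by group]
  have m1 : b⁻¹ * a * b ∈ conjBy A b⁻¹ := by simpa using conjBy_mem_conjBy (g := b⁻¹) ha
  have m2 : a⁻¹ * b * a ∈ conjBy A b⁻¹ := by
    rw [he]; simpa using conjBy_mem_conjBy (g := a⁻¹) hb
  rw [dlt_mul (a⁻¹ * b * a), quad_conj hq b⁻¹ _ m1 _ m2, zero_add]
  simp only [dlt_mul, hai, hbi]
  subst hD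
  linear_combination (norm := noncomm_ring) -hq a ha a ha - hqB b hb b hb

/-- A quadratic rank one group not acting as an abelian quadratic group is special. -/
theorem special_of_quad (hgen : A ⊔ B = ⊤) (h : IsRankOnePair A B) (hq : Quad N A)
    (hX : ∃ x y : X, dlt N y * dlt N x ≠ 0) : IsSpecialRankOnePair A B := by
  refine ⟨h, fun a ha ha1 b hb hb1 he => ?_⟩
  by_contra hne
  obtain ⟨D, hD⟩ : ∃ D, D = dlt N a + dlt N b - dlt N a * dlt N b * dlt N a - dlt N b * dlt N a * dlt N b :=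
    ⟨_, rfl⟩
  obtain ⟨hA, hB, hw⟩ := quad_defect h hq ha hb he D hD
  set w := (a⁻¹ * b⁻¹ * a)⁻¹ * (b⁻¹ * a * b) with hwdef
  have hw1 : w ≠ 1 := fun e => hne (inv_mul_eq_one.1 e).symm
  -- elements acting trivially on `[N, X]` and modulo the fixed points
  let K : Subgroup X :=
    { carrier := {g | ∀ x : X, dlt N g * dlt N x = 0 ∧ dlt N x * dlt N g = 0}
      one_mem' := fun x => by simp [dlt_one]
      mul_mem' := fun {g g'} hg hg' x => by
        rw [dlt_mul]
        exact ⟨by linear_combination (norm := noncomm_ring) (dlt N g) * (hg' x).1 + (hg x).1 + (hg' x).1,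
          by linear_combination (norm := noncomm_ring) (hg x).2 * dlt N g' + (hg x).2 + (hg' x).2⟩
      inv_mem' := fun {g} hg x => by
        rw [dlt_inv_of_sq (hg g).1]
        exact ⟨by rw [neg_mul, (hg x).1, neg_zero], by rw [mul_neg, (hg x).2, neg_zero]⟩ }
  have hKn : ∀ k ∈ K, ∀ g : X, g * k * g⁻¹ ∈ K := by
    intro k hk g x
    have u : ∀ g : X, (DistribMulAction.toAddMonoidEnd X N g) * DistribMulAction.toAddMonoidEnd X N g⁻¹ = 1 :=
      fun g => by rw [← map_mul, mul_inv_cancel, map_one]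
    obtain ⟨y, hy⟩ : ∃ y, y = g⁻¹ * x * g := ⟨_, rfl⟩
    have hx : dlt N x = DistribMulAction.toAddMonoidEnd X N g * dlt N y *
        DistribMulAction.toAddMonoidEnd X N g⁻¹ := by
      rw [← dlt_conj, hy]; congr 1; group
    have u' : DistribMulAction.toAddMonoidEnd X N g⁻¹ * DistribMulAction.toAddMonoidEnd X N g = 1 := by
      simpa using u g⁻¹
    rw [dlt_conj, hx]
    simp only [mul_assoc]
    simp only [← mul_assoc _ (DistribMulAction.toAddMonoidEnd X N g), u', one_mul]
    rw [← mul_assoc (dlt N k), (hk _).1, ← mul_assoc (dlt N y), (hk _).2]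
    simp only [zero_mul, mul_zero, and_self]
  have hwK : w ∈ K := by
    intro x
    rw [hw]
    have hx : x ∈ Subgroup.closure ((A : Set X) ∪ B) := by
      rw [← Subgroup.sup_eq_closure, hgen]; trivial
    induction hx using Subgroup.closure_induction'' with
    | mem x hx => exact hx.elim (fun hx => ⟨(hA x hx).2, (hA x hx).1⟩) fun hx => ⟨(hB x hx).2, (hB x hx).1⟩
    | inv_mem x hx =>
      exact hx.elim (fun hx => ⟨(hA _ (inv_mem hx)).2, (hA _ (inv_mem hx)).1⟩)
        fun hx => ⟨(hB _ (inv_mem hx)).2, (hB _ (inv_mem hx)).1⟩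
    | one => simp [dlt_one]
    | mul x y _ _ hx hy =>
      rw [dlt_mul]
      exact ⟨by linear_combination (norm := noncomm_ring) hx.1 * dlt N y + hx.1 + hy.1,
        by linear_combination (norm := noncomm_ring) dlt N x * hy.2 + hx.2 + hy.2⟩
  have hwC : w ∈ conjBy A b⁻¹ := by
    refine mul_mem (inv_mem ?_) ?_
    · rw [he]; simpa using conjBy_mem_conjBy (g := a⁻¹) (inv_mem hb)
    · simpa using conjBy_mem_conjBy (g := b⁻¹) ha
  have ha₀K : b⁻¹⁻¹ * w * b⁻¹ ∈ K := by simpa using hKn w hwK b⁻¹⁻¹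
  have ha₀A : b⁻¹⁻¹ * w * b⁻¹ ∈ A := mem_conjBy.1 hwC
  set a₀ := b⁻¹⁻¹ * w * b⁻¹ with ha₀
  obtain ⟨b₀, hb₀, -, he₀⟩ := h.cond_left a₀ ha₀A (fun e => hw1 (by simpa [ha₀] using e))
  -- modulo `K` the pair collapses
  have : K.Normal := ⟨hKn⟩
  let π := QuotientGroup.mk' K
  have hπ : A.map π = B.map π := by
    have h1 := congrArg (Subgroup.map π) he₀
    simp only [map_conjBy, map_inv, (QuotientGroup.eq_one_iff a₀).2 ha₀K, show π a₀ = 1 from
      (QuotientGroup.eq_one_iff a₀).2 ha₀K, inv_one, conjBy_one] at h1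
    rw [eq_inv_conjBy h1, inv_inv, conjBy_eq_self_of_mem (Subgroup.mem_map_of_mem π hb₀)]
  obtain ⟨x, y, hxy⟩ := hX
  refine hxy ?_
  have hdec : ∀ x : X, ∃ a ∈ A, ∃ k ∈ K, x = a * k := by
    intro x
    have h2 : π x ∈ A.map π := by
      have h3 : π x ∈ (A ⊔ B).map π := Subgroup.mem_map_of_mem π (hgen ▸ Subgroup.mem_top x)
      rwa [Subgroup.map_sup, ← hπ, sup_idem] at h3
    obtain ⟨a, ha, hax⟩ := h2
    exact ⟨a, ha, a⁻¹ * x, (QuotientGroup.eq).1 hax, by group⟩
  obtain ⟨p, hp, kx, hkx, rfl⟩ := hdec x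
  obtain ⟨q, hq', ky, hky, rfl⟩ := hdec y
  rw [dlt_mul q, dlt_mul p]
  linear_combination (norm := noncomm_ring)
    hq p hp q hq' * dlt N kx + hq p hp q hq' + dlt N q * (hky p).1 * dlt N kx + dlt N q * (hky p).1
      + dlt N q * (hky kx).1 + (hky p).1 * dlt N kx + (hky p).1 + (hky kx).1 + (hkx q).2

/-- A nonabelian faithful action is not an abelian quadratic one. -/
theorem exists_not_quad (h : IsRankOnePair A B) (hf : ∀ x : X, (∀ n : N, x • n = n) → x = 1) :
    ∃ x y : X, dlt N y * dlt N x ≠ 0 := by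
  by_contra hc
  push Not at hc
  have hcomm : ∀ x y : X, x * y = y * x := by
    intro x y
    refine mul_inv_eq_one.1 (hf _ fun n => ?_)
    have e : dlt N (x * y) = dlt N (y * x) := by rw [dlt_mul, dlt_mul, hc y x, hc x y]; abel
    have := DFunLike.congr_fun e ((y * x)⁻¹ • n)
    rw [dlt_apply, dlt_apply, sub_left_inj, smul_smul, smul_smul, mul_inv_cancel, one_smul] at this
    exact this
  obtain ⟨⟨a, ha⟩, hne⟩ := A.ne_bot_iff_exists_ne_one.1 (left_ne_bot h)
  exact hne (Subtype.ext (eq_one_of_normalizes h ha (conjBy_eq_of_commute fun x _ => hcomm a x)))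

end Cfsg.Agent.RootLib
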