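import Cfsg.Agent.Lib.Root.Examples
import Cfsg.Agent.Lib.SLGen.Transvections
import Cfsg.Agent.Lib.Transvection.GL

/-!
Transvection groups of incident point–hyperplane pairs in `SL_N(k)`.
-/

set_option autoImplicit false

namespace Cfsg.Agent.RootLib.SLEx

open Cfsg Matrix

variable {k : Type*} [Field k] {N : ℕ}

/-- The transvection group with centre `v` and axis `φ`. -/
def TG (v φ : Fin N → k) : Subgroup (Matrix.SpecialLinearGroup (Fin N) k) :=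
  Subgroup.closure {t | ∃ c : k, (t : Matrix (Fin N) (Fin N) k) = 1 + c • vecMulVec v φ}

theorem vv_zero {v φ w ψ : Fin N → k} (h : φ ⬝ᵥ w = 0) : vecMulVec v φ * vecMulVec w ψ = 0 := by
  rw [vecMulVec_mul_vecMulVec, h, zero_smul, vecMulVec_zero]

theorem vv_smul {v φ w ψ : Fin N → k} :
    vecMulVec v φ * vecMulVec w ψ = (φ ⬝ᵥ w) • vecMulVec v ψ := by
  rw [vecMulVec_mul_vecMulVec, vecMulVec_smul]

theorem exists_el {v φ : Fin N → k} (h : φ ⬝ᵥ v = 0) (c : k) :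
    ∃ t : Matrix.SpecialLinearGroup (Fin N) k,
      (t : Matrix (Fin N) (Fin N) k) = 1 + c • vecMulVec v φ := by
  refine ⟨SLGen.tv (c • v) φ (by rw [dotProduct_smul, h, smul_zero]), ?_⟩
  rw [SLGen.coe_tv, smul_vecMulVec]

theorem mem_TG {v φ : Fin N → k} (h : φ ⬝ᵥ v = 0) {g : Matrix.SpecialLinearGroup (Fin N) k} :
    g ∈ TG v φ ↔ ∃ c : k, (g : Matrix (Fin N) (Fin N) k) = 1 + c • vecMulVec v φ := by
  refine ⟨fun hg => ?_, fun hg => Subgroup.subset_closure hg⟩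
  induction hg using Subgroup.closure_induction with
  | mem x hx => exact hx
  | one => exact ⟨0, by simp⟩
  | mul x y _ _ hx hy =>
    obtain ⟨c, hc⟩ := hx
    obtain ⟨d, hd⟩ := hy
    refine ⟨c + d, ?_⟩
    rw [SLGen.cmul, hc, hd]
    simp only [add_mul, mul_add, one_mul, mul_one, smul_mul_smul_comm, vv_zero h, smul_zero, add_zero,
      add_smul]
    abel
  | inv x _ hx =>
    obtain ⟨c, hc⟩ := hx
    obtain ⟨t, ht⟩ := exists_el h (-c)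
    have hxt : x * t = 1 := by
      apply SLGen.coe_ext
      rw [SLGen.cmul, SLGen.cone, hc, ht]
      simp only [add_mul, mul_add, one_mul, mul_one, smul_mul_smul_comm, vv_zero h, smul_zero, add_zero]
      rw [neg_smul]
      abel
    rw [inv_eq_of_mul_eq_one_right hxt]
    exact ⟨-c, ht⟩

theorem TG_comm {v φ w ψ : Fin N → k} (h : φ ⬝ᵥ v = 0) (h' : ψ ⬝ᵥ w = 0) (ha : φ ⬝ᵥ w = 0)
    (hb : ψ ⬝ᵥ v = 0) : ∀ x ∈ TG v φ, ∀ y ∈ TG w ψ, x * y = y * x := by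
  intro x hx y hy
  obtain ⟨c, hc⟩ := (mem_TG h).1 hx
  obtain ⟨d, hd⟩ := (mem_TG h').1 hy
  apply SLGen.coe_ext
  rw [SLGen.cmul, SLGen.cmul, hc, hd]
  simp only [add_mul, mul_add, one_mul, mul_one, smul_mul_smul_comm, vv_zero ha, vv_zero hb, smul_zero,
    add_zero]
  abel

theorem TG_ne_bot {v φ : Fin N → k} (hv : v ≠ 0) (hφ : φ ≠ 0) (h : φ ⬝ᵥ v = 0) : TG v φ ≠ ⊥ := by
  intro e
  obtain ⟨t, ht⟩ := exists_el h 1
  have : t = 1 := Subgroup.mem_bot.1 (e ▸ (mem_TG h).2 ⟨1, ht⟩)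
  rw [this, SLGen.cone, one_smul, left_eq_add] at ht
  obtain ⟨i, hi⟩ := Function.ne_iff.1 hv
  obtain ⟨j, hj⟩ := Function.ne_iff.1 hφ
  have := congrFun (congrFun ht i) j
  rw [vecMulVec_apply] at this
  exact mul_ne_zero hi hj this

theorem conjBy_TG {v φ : Fin N → k} (h : φ ⬝ᵥ v = 0) (g : Matrix.SpecialLinearGroup (Fin N) k) :
    conjBy (TG v φ) g =
      TG ((g : Matrix (Fin N) (Fin N) k) *ᵥ v) (φ ᵥ* (g⁻¹ : Matrix.SpecialLinearGroup (Fin N) k).1) ∧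
      (φ ᵥ* (g⁻¹ : Matrix.SpecialLinearGroup (Fin N) k).1) ⬝ᵥ ((g : Matrix (Fin N) (Fin N) k) *ᵥ v) = 0 := by
  have hgi : (g⁻¹ : Matrix.SpecialLinearGroup (Fin N) k).1 * g.1 = 1 := by
    rw [← SLGen.cmul, inv_mul_cancel, SLGen.cone]
  have hgi' : g.1 * (g⁻¹ : Matrix.SpecialLinearGroup (Fin N) k).1 = 1 := by
    rw [← SLGen.cmul, mul_inv_cancel, SLGen.cone]
  have h' : (φ ᵥ* (g⁻¹ : Matrix.SpecialLinearGroup (Fin N) k).1) ⬝ᵥ ((g : Matrix (Fin N) (Fin N) k) *ᵥ v) = 0 := by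
    rw [dotProduct_mulVec, vecMul_vecMul, hgi, vecMul_one, h]
  refine ⟨?_, h'⟩
  have e : ∀ c : k, g.1 * (1 + c • vecMulVec v φ) * (g⁻¹ : Matrix.SpecialLinearGroup (Fin N) k).1 =
      1 + c • vecMulVec (g.1 *ᵥ v) (φ ᵥ* (g⁻¹ : Matrix.SpecialLinearGroup (Fin N) k).1) := by
    intro c
    rw [mul_add, add_mul, mul_one, hgi', mul_smul_comm, smul_mul_assoc, mul_vecMulVec, vecMulVec_mul]
  ext x
  constructor
  · rintro ⟨t, ht, rfl⟩
    obtain ⟨c, hc⟩ := (mem_TG h).1 ht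
    refine (mem_TG h').2 ⟨c, ?_⟩
    show ((g * t * g⁻¹ : Matrix.SpecialLinearGroup (Fin N) k) : Matrix (Fin N) (Fin N) k) = _
    rw [SLGen.cmul, SLGen.cmul, hc, e]
  · intro hx
    obtain ⟨c, hc⟩ := (mem_TG h').1 hx
    obtain ⟨t, ht⟩ := exists_el h c
    refine ⟨t, (mem_TG h).2 ⟨c, ht⟩, ?_⟩
    show g * t * g⁻¹ = x
    apply SLGen.coe_ext
    rw [SLGen.cmul, SLGen.cmul, ht, e, hc]

/-- The copy of `SL₂` on the plane of `v` and `w`. -/
theorem exists_hom {v φ w ψ : Fin N → k} (h : φ ⬝ᵥ v = 0) (h' : ψ ⬝ᵥ w = 0) (ha : φ ⬝ᵥ w ≠ 0)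
    (hb : ψ ⬝ᵥ v ≠ 0) :
    IsRankOnePair (TG v φ) (TG w ψ) ∧ IsPSL2PairOver k (TG v φ) (TG w ψ) := by
  let V : Matrix (Fin N) (Fin 2) k := (Matrix.of ![v, w])ᵀ
  let P : Matrix (Fin 2) (Fin N) k := Matrix.of ![(ψ ⬝ᵥ v)⁻¹ • ψ, (φ ⬝ᵥ w)⁻¹ • φ]
  have hPV : P * V = 1 := by
    ext i j
    show (![(ψ ⬝ᵥ v)⁻¹ • ψ, (φ ⬝ᵥ w)⁻¹ • φ] i) ⬝ᵥ (![v, w] j) = _
    fin_cases i <;> fin_cases j <;>
      simp only [Fin.zero_eta, Fin.mk_one, Matrix.cons_val_zero, Matrix.cons_val_one, smul_dotProduct,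
        h, h', smul_eq_mul, mul_zero, inv_mul_cancel₀ ha, inv_mul_cancel₀ hb] <;>
      simp
  let f : Matrix.SpecialLinearGroup (Fin 2) k →* Matrix.SpecialLinearGroup (Fin N) k :=
    { toFun := fun M => ⟨1 + V * (M.1 - 1) * P, by
        rw [Matrix.mul_assoc V, det_one_add_mul_comm, Matrix.mul_assoc, hPV, Matrix.mul_one, add_sub_cancel]
        exact M.2⟩
      map_one' := by
        apply SLGen.coe_ext
        show (1 : Matrix (Fin N) (Fin N) k) + V * (1 - 1) * P = 1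
        simp
      map_mul' := fun M M' => by
        apply SLGen.coe_ext
        show 1 + V * (M.1 * M'.1 - 1) * P = (1 + V * (M.1 - 1) * P) * (1 + V * (M'.1 - 1) * P)
        rw [show M.1 * M'.1 - 1 = (M.1 - 1) + (M'.1 - 1) + (M.1 - 1) * (M'.1 - 1) by noncomm_ring]
        simp only [Matrix.add_mul, Matrix.mul_add, Matrix.one_mul, Matrix.mul_one, Matrix.mul_assoc]
        rw [← Matrix.mul_assoc P V, hPV, Matrix.one_mul]
        abel }
  have hf : ∀ M, (f M).1 = 1 + V * (M.1 - 1) * P := fun M => rfl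
  have hinj : Function.Injective f := by
    intro M M' e
    apply SLGen.coe_ext
    have e1 := congrArg (fun X : Matrix.SpecialLinearGroup (Fin N) k => P * (X.1 - 1) * V) e
    simp only [hf, add_sub_cancel_left, Matrix.mul_assoc] at e1
    rw [← Matrix.mul_assoc P V, hPV, Matrix.mul_one, Matrix.mul_one, Matrix.one_mul,
      ← Matrix.mul_assoc P V, hPV, Matrix.one_mul] at e1
    exact sub_left_injective e1
  have hmul : ∀ (i j : Fin 2) (t : k), V * Matrix.single i j t * P =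
      t • vecMulVec (![v, w] i) (![(ψ ⬝ᵥ v)⁻¹ • ψ, (φ ⬝ᵥ w)⁻¹ • φ] j) := by
    intro i j t
    ext x y
    fin_cases i <;> fin_cases j <;>
      simp [V, P, Matrix.mul_apply, Matrix.single, Fin.sum_univ_two, vecMulVec_apply] <;> ring
  have hu : ∀ t, (f (uEl t)).1 = 1 + (t * (φ ⬝ᵥ w)⁻¹) • vecMulVec v φ := by
    intro t
    have e : (uEl t).1 - 1 = Matrix.single (0 : Fin 2) 1 t := by
      ext i j; fin_cases i <;> fin_cases j <;> simp [Matrix.single]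
    rw [hf, e, hmul, ← smul_smul]
    simp [vecMulVec_smul]
  have hl : ∀ t, (f (lEl t)).1 = 1 + (t * (ψ ⬝ᵥ v)⁻¹) • vecMulVec w ψ := by
    intro t
    have e : (lEl t).1 - 1 = Matrix.single (1 : Fin 2) 0 t := by
      ext i j; fin_cases i <;> fin_cases j <;> simp [Matrix.single]
    rw [hf, e, hmul, ← smul_smul]
    simp [vecMulVec_smul]
  refine pair_of_hom f hinj ?_ ?_
  · ext x
    constructor
    · rintro ⟨u, hu', rfl⟩
      obtain ⟨t, rfl⟩ := mem_upper.1 hu'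
      exact (mem_TG h).2 ⟨_, hu t⟩
    · intro hx
      obtain ⟨c, hc⟩ := (mem_TG h).1 hx
      refine ⟨uEl (c * (φ ⬝ᵥ w)), mem_upper.2 ⟨_, rfl⟩, SLGen.coe_ext ?_⟩
      rw [hu, hc, mul_inv_cancel_right₀ ha]
  · ext x
    constructor
    · rintro ⟨u, hu', rfl⟩
      obtain ⟨t, rfl⟩ := mem_lower.1 hu'
      exact (mem_TG h').2 ⟨_, hl t⟩
    · intro hx
      obtain ⟨c, hc⟩ := (mem_TG h').1 hx
      refine ⟨lEl (c * (ψ ⬝ᵥ v)), mem_lower.2 ⟨_, rfl⟩, SLGen.coe_ext ?_⟩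
      rw [hl, hc, mul_inv_cancel_right₀ hb]

/-- The family of all transvection groups of incident pairs. -/
def family (k : Type*) [Field k] (N : ℕ) : Set (Subgroup (Matrix.SpecialLinearGroup (Fin N) k)) :=
  {A | ∃ v φ : Fin N → k, v ≠ 0 ∧ φ ≠ 0 ∧ φ ⬝ᵥ v = 0 ∧ A = TG v φ}

theorem comm_formula {v φ w ψ : Fin N → k} (h : φ ⬝ᵥ v = 0) (h' : ψ ⬝ᵥ w = 0) (hb : ψ ⬝ᵥ v = 0)
    {x y z : Matrix.SpecialLinearGroup (Fin N) k} {c d : k}
    (hx : x.1 = 1 + c • vecMulVec v φ) (hy : y.1 = 1 + d • vecMulVec w ψ)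
    (hz : z.1 = 1 + (c * d * (φ ⬝ᵥ w)) • vecMulVec v ψ) : x * y * x⁻¹ * y⁻¹ = z := by
  have e : x * y = z * (y * x) := by
    apply SLGen.coe_ext
    rw [SLGen.cmul, SLGen.cmul, SLGen.cmul, hx, hy, hz]
    simp only [add_mul, mul_add, one_mul, mul_one, smul_mul_smul_comm, vv_zero h, vv_zero h', vv_zero hb,
      smul_zero, add_zero, zero_add]
    rw [vv_smul, smul_smul]
    abel
  rw [e]
  group

theorem case_TG {v φ w ψ : Fin N → k} (hv : v ≠ 0) (hφ : φ ≠ 0) (hψ : ψ ≠ 0) (h : φ ⬝ᵥ v = 0)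
    (h' : ψ ⬝ᵥ w = 0) (ha : φ ⬝ᵥ w ≠ 0) (hb : ψ ⬝ᵥ v = 0) :
    RootCommutatorCase (family k N) (TG v φ) (TG w ψ) := by
  refine case_of_formula (C := TG v ψ) ⟨v, ψ, hv, hψ, hb, rfl⟩ (TG_ne_bot hv hφ h) ?_
    (fun z hz x hx => TG_comm hb h hb h z hz x hx) (fun z hz x hx => TG_comm hb h' h' hb z hz x hx) ?_ ?_
  · intro x hx y hy
    obtain ⟨c, hc⟩ := (mem_TG h).1 hx
    obtain ⟨d, hd⟩ := (mem_TG h').1 hy
    obtain ⟨z, hz⟩ := exists_el hb (c * d * (φ ⬝ᵥ w))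
    rw [comm_formula h h' hb hc hd hz]
    exact (mem_TG hb).2 ⟨_, hz⟩
  · intro x hx hx1 z hz
    obtain ⟨c, hc⟩ := (mem_TG h).1 hx
    obtain ⟨e, he⟩ := (mem_TG hb).1 hz
    have hc0 : c ≠ 0 := fun e0 => hx1 (SLGen.coe_ext (by rw [hc, e0]; simp))
    obtain ⟨y, hy⟩ := exists_el h' (e / (c * (φ ⬝ᵥ w)))
    refine ⟨y, (mem_TG h').2 ⟨_, hy⟩, comm_formula h h' hb hc hy ?_⟩
    rw [he]
    congr 2
    field_simp
  · intro y hy hy1 z hz
    obtain ⟨d, hd⟩ := (mem_TG h').1 hy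
    obtain ⟨e, he⟩ := (mem_TG hb).1 hz
    have hd0 : d ≠ 0 := fun e0 => hy1 (SLGen.coe_ext (by rw [hd, e0]; simp))
    obtain ⟨x, hx⟩ := exists_el h (e / (d * (φ ⬝ᵥ w)))
    refine ⟨x, (mem_TG h).2 ⟨_, hx⟩, comm_formula h h' hb hx hd ?_⟩
    rw [he]
    congr 2
    field_simp

theorem isRootSubgroupSet (k : Type*) [Field k] (N : ℕ) : IsRootSubgroupSet (family k N) := by
  refine ⟨?_, ?_, ?_, ?_, ?_⟩
  · rintro A ⟨v, φ, -, -, h, rfl⟩
    exact ⟨⟨fun x y => Subtype.ext (TG_comm h h h h x x.2 y y.2)⟩⟩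
  · rintro A ⟨v, φ, hv, hφ, h, rfl⟩
    exact TG_ne_bot hv hφ h
  · rw [← top_le_iff, ← LinGrp.closure_transvectionSet, Subgroup.closure_le]
    rintro g ⟨i, j, hij, a, rfl⟩
    have h : (Pi.single j (1 : k) : Fin N → k) ⬝ᵥ Pi.single i 1 = 0 := by simp [hij.symm]
    refine le_iSup₂ (f := fun A (_ : A ∈ family k N) => A) (TG (Pi.single i 1) (Pi.single j 1))
      ⟨_, _, by simp, by simp, h, rfl⟩ ((mem_TG h).2 ⟨a, ?_⟩)
    rw [Matrix.SpecialLinearGroup.transvection_coe, ← Matrix.single_eq_single_vecMulVec_single,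
      Matrix.smul_single, smul_eq_mul, mul_one]
  · rintro A ⟨v, φ, hv, hφ, h, rfl⟩ g
    obtain ⟨e, h'⟩ := conjBy_TG h g
    refine ⟨_, _, ?_, ?_, h', e⟩
    · intro e0
      apply hv
      have := congrArg ((g⁻¹ : Matrix.SpecialLinearGroup (Fin N) k).1 *ᵥ ·) e0
      simpa only [mulVec_zero, mulVec_mulVec, ← SLGen.cmul, inv_mul_cancel, SLGen.cone, one_mulVec] using this
    · intro e0
      apply hφ
      have := congrArg (· ᵥ* g.1) e0
      simpa only [zero_vecMul, vecMul_vecMul, ← SLGen.cmul, inv_mul_cancel, SLGen.cone, vecMul_one] using this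
  · rintro A ⟨v, φ, hv, hφ, h, rfl⟩ B ⟨w, ψ, hw, hψ, h', rfl⟩
    by_cases ha : φ ⬝ᵥ w = 0
    · by_cases hb : ψ ⬝ᵥ v = 0
      · exact Or.inl (bracket_eq_bot_iff.2 (TG_comm h h' ha hb))
      · exact Or.inr (Or.inr (commutatorCase_symm (case_TG hw hψ hφ h' h hb ha)))
    · by_cases hb : ψ ⬝ᵥ v = 0
      · exact Or.inr (Or.inr (case_TG hv hφ hψ h h' ha hb))
      · exact Or.inr (Or.inl (exists_hom h h' ha hb).1)

end Cfsg.Agent.RootLib.SLEx
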