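import Cfsg.Agent.Lib.Root.Small
import Cfsg.Agent.Lib.Root.SLTwo

/-!
The Steinberg presentation of `SL₂` over a finite field.
-/

set_option autoImplicit false

namespace Cfsg.Agent.RootLibK

open Cfsg Cfsg.Agent.RootLib

variable {K : Type*} [Field K] [Finite K] {G : Type*} [Group G]

/-- The monomial elements. -/
def monEl (x y : K → G) (r : K) : G := x r * y r⁻¹ * x r

/-- The Steinberg relations of rank one. -/
structure Rels (x y : K → G) : Prop where
  addX : ∀ s t, x (s + t) = x s * x t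
  addY : ∀ s t, y (s + t) = y s * y t
  mon_x : ∀ {r : K}, r ≠ 0 → ∀ t, monEl x y r * x t = y (t / r ^ 2) * monEl x y r
  mon_y : ∀ {r : K}, r ≠ 0 → ∀ t, monEl x y r * y t = x (t * r ^ 2) * monEl x y r

/-- The diagonal elements. -/
def diagEl (x y : K → G) (r : K) : G := monEl x y r * (monEl x y 1)⁻¹

/-- Index set of the normal forms. -/
abbrev BIndex (K : Type*) [Field K] :=
  (K × {r : K // r ≠ 0}) ⊕ (K × {r : K // r ≠ 0} × K)

/-- The Bruhat normal forms. -/
def bform (x y : K → G) : BIndex K → G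
  | .inl (i, r) => x i * diagEl x y r
  | .inr (i, r, j) => x i * (diagEl x y r * monEl x y 1) * x j

theorem exists_sq_add_sq (c : K) : ∃ a b : K, a ^ 2 + b ^ 2 = c := by
  haveI := Fintype.ofFinite K
  rcases Nat.mod_two_eq_zero_or_one (Fintype.card K) with h | h
  · have h2 : ringChar K = 2 := FiniteField.even_card_iff_char_two.2 h
    obtain ⟨a, ha⟩ := FiniteField.isSquare_of_char_two h2 c
    exact ⟨a, 0, by rw [ha]; ring⟩
  · obtain ⟨a, b, hab⟩ := FiniteField.exists_root_sum_quadratic (f := (Polynomial.X : Polynomial K) ^ 2)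
      (g := Polynomial.X ^ 2 - Polynomial.C c) (Polynomial.degree_X_pow 2)
      (Polynomial.degree_X_pow_sub_C two_pos c) h
    exact ⟨a, b, by simpa [add_sub_assoc', sub_eq_zero] using hab⟩

section Words

variable {x y : K → G} (R : Rels x y)

include R

theorem Rels.braid {r : K} (hr : r ≠ 0) : x r * y r⁻¹ * x r = y r⁻¹ * x r * y r⁻¹ := by
  have h := R.mon_x hr r
  rw [monEl, show r / r ^ 2 = r⁻¹ by field_simp] at h
  apply mul_right_cancel (b := x r)
  rw [h]; group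

theorem Rels.x_zero : x 0 = 1 := by
  have := R.addX 0 0
  rw [add_zero] at this
  exact left_eq_mul.1 this

theorem Rels.y_zero : y 0 = 1 := by
  have := R.addY 0 0
  rw [add_zero] at this
  exact left_eq_mul.1 this

theorem Rels.x_neg (t : K) : x (-t) = (x t)⁻¹ :=
  eq_inv_of_mul_eq_one_left (by rw [← R.addX, neg_add_cancel, R.x_zero])

theorem Rels.y_neg (t : K) : y (-t) = (y t)⁻¹ :=
  eq_inv_of_mul_eq_one_left (by rw [← R.addY, neg_add_cancel, R.y_zero])

theorem Rels.mon_inv {r : K} : (monEl x y r)⁻¹ = monEl x y (-r) := by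
  rw [monEl, monEl, inv_neg, R.x_neg, R.y_neg]
  group

theorem Rels.mon_mon {r s : K} (hr : r ≠ 0) (hs : s ≠ 0) :
    monEl x y r * monEl x y s = monEl x y (r ^ 2 / s) * monEl x y r := by
  have hne : r ^ 2 / s ≠ 0 := div_ne_zero (pow_ne_zero _ hr) hs
  conv_rhs => rw [monEl, R.braid hne]
  conv_lhs => arg 2; rw [monEl]
  rw [inv_div, ← mul_assoc, ← mul_assoc, R.mon_x hr, mul_assoc (y _), R.mon_y hr,
    mul_assoc (y _), mul_assoc (x _), R.mon_x hr, show s⁻¹ * r ^ 2 = r ^ 2 / s by ring]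
  group

theorem Rels.diag_x {r : K} (hr : r ≠ 0) (t : K) :
    diagEl x y r * x t = x (t * r ^ 2) * diagEl x y r := by
  have h1 := R.mon_y (one_ne_zero (α := K)) t
  rw [one_pow, mul_one] at h1
  have h1' : (monEl x y 1)⁻¹ * x t = y t * (monEl x y 1)⁻¹ := by
    rw [inv_mul_eq_iff_eq_mul, ← mul_assoc, h1, mul_inv_cancel_right]
  rw [diagEl, mul_assoc, h1', ← mul_assoc, R.mon_y hr, mul_assoc]

theorem Rels.diag_y {r : K} (hr : r ≠ 0) (t : K) :
    diagEl x y r * y t = y (t / r ^ 2) * diagEl x y r := by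
  have h1 := R.mon_x (one_ne_zero (α := K)) t
  rw [one_pow, div_one] at h1
  have h1' : (monEl x y 1)⁻¹ * y t = x t * (monEl x y 1)⁻¹ := by
    rw [inv_mul_eq_iff_eq_mul, ← mul_assoc, h1, mul_inv_cancel_right]
  rw [diagEl, mul_assoc, h1', ← mul_assoc, R.mon_x hr, mul_assoc]

theorem Rels.diag_one : diagEl x y 1 = 1 := mul_inv_cancel _

theorem Rels.diag_comm {r s : K} (hr : r ≠ 0) (hs : s ≠ 0) :
    diagEl x y r * diagEl x y s = diagEl x y s * diagEl x y r := by
  -- a product of diagonal elements with the action of `diagEl x y r` differs from it centrally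
  obtain ⟨g, hg⟩ := IsCyclic.exists_generator (α := (K)ˣ)
  have hpow : ∀ (k : ℕ) (t : K),
      diagEl x y (g : K) ^ k * x t = x (t * ((g : K) ^ k) ^ 2) * diagEl x y (g : K) ^ k ∧
      diagEl x y (g : K) ^ k * y t = y (t / ((g : K) ^ k) ^ 2) * diagEl x y (g : K) ^ k := by
    intro k
    induction k with
    | zero => intro t; simp
    | succ k ih =>
      intro t
      constructor
      · rw [pow_succ (diagEl x y _), mul_assoc, R.diag_x g.ne_zero, ← mul_assoc, (ih _).1, mul_assoc]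
        congr 2
        ring
      · rw [pow_succ (diagEl x y _), mul_assoc, R.diag_y g.ne_zero, ← mul_assoc, (ih _).2, mul_assoc]
        congr 2
        rw [div_div]
        ring
  have hcen : ∀ r : K, r ≠ 0 → ∃ (k : ℕ) (c : G),
      (∀ t, Commute c (x t)) ∧ (∀ t, Commute c (y t)) ∧ diagEl x y r = diagEl x y (g : K) ^ k * c := by
    intro r hr
    obtain ⟨k, hk⟩ := (mem_powers_iff_mem_zpowers (x := g) (y := Units.mk0 r hr)).2 (hg _)
    have hk' : (g : K) ^ k = r := by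
      have := congrArg Units.val hk
      simpa using this
    refine ⟨k, (diagEl x y (g : K) ^ k)⁻¹ * diagEl x y r, fun t => ?_, fun t => ?_,
      (mul_inv_cancel_left _ _).symm⟩
    · show (diagEl x y (g : K) ^ k)⁻¹ * diagEl x y r * x t = x t * _
      rw [mul_assoc, R.diag_x hr, ← hk', ← mul_assoc, ← mul_assoc]
      congr 1
      rw [inv_mul_eq_iff_eq_mul, ← mul_assoc, (hpow k t).1, mul_inv_cancel_right]
    · show (diagEl x y (g : K) ^ k)⁻¹ * diagEl x y r * y t = y t * _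
      rw [mul_assoc, R.diag_y hr, ← hk', ← mul_assoc, ← mul_assoc]
      congr 1
      rw [inv_mul_eq_iff_eq_mul, ← mul_assoc, (hpow k t).2, mul_inv_cancel_right]
  obtain ⟨k, c, cx, cy, ec⟩ := hcen r hr
  obtain ⟨l, d, dx, dy, ed⟩ := hcen s hs
  have hdiag : ∀ {c : G}, (∀ t, Commute c (x t)) → (∀ t, Commute c (y t)) → ∀ u,
      Commute c (diagEl x y u) := fun hx hy u =>
    (((hx _).mul_right (hy _)).mul_right (hx _)).mul_right
      ((((hx _).mul_right (hy _)).mul_right (hx _)).inv_right)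
  have hcd : Commute c d := by
    have h1 : Commute c (diagEl x y s) := hdiag cx cy s
    rw [ed] at h1
    have h2 : Commute c (diagEl x y (g : K) ^ l) := (hdiag cx cy _).pow_right l
    have h3 := h2.inv_right.mul_right h1
    rwa [inv_mul_cancel_left] at h3
  rw [ec, ed]
  exact ((((Commute.refl _).pow_pow k l).mul_right ((hdiag dx dy _).symm.pow_left k))).mul_left
    (((hdiag cx cy _).pow_right l).mul_right hcd) |>.eq

theorem Rels.diag_conj {r s : K} (hr : r ≠ 0) (hs : s ≠ 0) :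
    diagEl x y r * diagEl x y s * (diagEl x y r)⁻¹ =
      diagEl x y (r ^ 2 * s) * (diagEl x y (r ^ 2))⁻¹ := by
  have h1 : ∀ t, t ≠ 0 → diagEl x y r * monEl x y t = monEl x y (r ^ 2 * t) * diagEl x y r := by
    intro t ht
    rw [diagEl, mul_assoc, show (monEl x y 1)⁻¹ * monEl x y t = monEl x y t⁻¹ * (monEl x y 1)⁻¹ by
      rw [inv_mul_eq_iff_eq_mul, ← mul_assoc, R.mon_mon one_ne_zero (inv_ne_zero ht), one_pow, one_div,
        inv_inv, mul_inv_cancel_right], ← mul_assoc, R.mon_mon hr (inv_ne_zero ht), div_inv_eq_mul,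
      mul_assoc]
  have h2 := h1 s hs
  have h3 := h1 1 one_ne_zero
  rw [mul_one] at h3
  have h3' : diagEl x y r * (monEl x y 1)⁻¹ * (diagEl x y r)⁻¹ = (monEl x y (r ^ 2))⁻¹ := by
    rw [← mul_inv_cancel_right (monEl x y (r ^ 2)) (diagEl x y r), ← h3]
    group
  calc diagEl x y r * diagEl x y s * (diagEl x y r)⁻¹
      = (diagEl x y r * monEl x y s) * (monEl x y 1)⁻¹ * (diagEl x y r)⁻¹ := by
        rw [show diagEl x y s = monEl x y s * (monEl x y 1)⁻¹ from rfl]; group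
    _ = monEl x y (r ^ 2 * s) * (diagEl x y r * (monEl x y 1)⁻¹ * (diagEl x y r)⁻¹) := by
        rw [h2]; group
    _ = _ := by rw [h3', diagEl, diagEl]; group

/-- Multiplying by squares. -/
theorem Rels.diag_sq_mul {r s : K} (hr : r ≠ 0) (hs : s ≠ 0) :
    diagEl x y (r ^ 2 * s) = diagEl x y (r ^ 2) * diagEl x y s := by
  have h := R.diag_conj hr hs
  rw [R.diag_comm hr hs, mul_inv_cancel_right, eq_mul_inv_iff_mul_eq] at h
  rw [← h, R.diag_comm hs (pow_ne_zero _ hr)]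

theorem Rels.add_identity {α β : K} (hα : α ≠ 0) (hβ : β ≠ 0) (hσ : α + β ≠ 0) :
    monEl x y (-(α ^ 2) / (α + β)) * monEl x y α * monEl x y β = monEl x y (α * β / (α + β)) := by
  obtain ⟨a, ha⟩ : ∃ a, a = -(α ^ 2) / (α + β) := ⟨_, rfl⟩
  obtain ⟨c, hc⟩ : ∃ c, c = α * β / (α + β) := ⟨_, rfl⟩
  have ha0 : a ≠ 0 := ha ▸ div_ne_zero (neg_ne_zero.2 (pow_ne_zero _ hα)) hσ
  rw [← ha, ← hc]
  -- the two sides of `y α⁻¹ * y β⁻¹`
  have hy : ∀ t, y t⁻¹ = x (-t) * monEl x y t * x (-t) := fun t => by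
    rw [monEl, R.x_neg]; group
  have hsum : α⁻¹ + β⁻¹ = c⁻¹ := by rw [hc]; field_simp; ring
  have hmid : monEl x y α * x (-α + -β) = y a⁻¹ * monEl x y α := by
    rw [R.mon_x hα]; congr 2; rw [ha]; field_simp; ring
  have hout : x (-a) * (monEl x y α * monEl x y β) =
      (monEl x y α * monEl x y β) * x (-a * (β ^ 2 / α ^ 2)) := by
    rw [mul_assoc (monEl x y α), R.mon_x hβ, ← mul_assoc (monEl x y α), R.mon_y hα, mul_assoc]
    congr 2
    field_simp
  have e1 : x (-c) * monEl x y c * x (-c) =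
      x (-α) * x (-a) * (monEl x y a * monEl x y α * monEl x y β) * x (-a * (β ^ 2 / α ^ 2)) * x (-β) := by
    rw [← hy, ← hsum, R.addY, hy α, hy β]
    calc x (-α) * monEl x y α * x (-α) * (x (-β) * monEl x y β * x (-β))
        = x (-α) * (monEl x y α * (x (-α) * x (-β))) * monEl x y β * x (-β) := by group
      _ = x (-α) * (y a⁻¹ * monEl x y α) * monEl x y β * x (-β) := by rw [← R.addX, hmid]
      _ = x (-α) * x (-a) * monEl x y a * (x (-a) * (monEl x y α * monEl x y β)) * x (-β) := by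
          rw [hy a]; group
      _ = _ := by rw [hout]; group
  have i1 : -α + -a = -c := by rw [ha, hc]; field_simp; ring
  have i2 : -a * (β ^ 2 / α ^ 2) + -β = -c := by rw [ha, hc]; field_simp; ring
  rw [mul_assoc _ (x (-a * (β ^ 2 / α ^ 2))), ← R.addX, ← R.addX, i1, i2] at e1
  exact (mul_left_cancel (mul_right_cancel e1)).symm

theorem Rels.diag_mul {r s : K} (hr : r ≠ 0) (hs : s ≠ 0) :
    diagEl x y (r * s) = diagEl x y r * diagEl x y s := by
  by_cases hsq : ∃ u, u ^ 2 = r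
  · obtain ⟨u, rfl⟩ := hsq
    exact R.diag_sq_mul (fun e => hr (by rw [e]; simp)) hs
  by_cases hsq' : ∃ u, u ^ 2 = s
  · obtain ⟨u, rfl⟩ := hsq'
    have hu : u ≠ 0 := fun e => hs (by rw [e]; simp)
    rw [mul_comm, R.diag_sq_mul hu hr, R.diag_comm (pow_ne_zero _ hu) hr]
  -- both are non-squares
  obtain ⟨g, hg0, hg⟩ : ∃ g, g ≠ 0 ∧ ∀ t : K, t ≠ 0 → (∃ u, u ^ 2 = t) ∨ ∃ u, u ^ 2 * g = t := by
    obtain ⟨g, hg⟩ := IsCyclic.exists_generator (α := (K)ˣ)
    refine ⟨g, g.ne_zero, fun t ht => ?_⟩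
    obtain ⟨k, hk⟩ := (mem_powers_iff_mem_zpowers (x := g) (y := Units.mk0 t ht)).2 (hg _)
    have hk' : (g : K) ^ k = t := by
      have := congrArg Units.val hk
      simpa using this
    rcases Nat.even_or_odd k with ⟨m, hm⟩ | ⟨m, hm⟩
    · exact Or.inl ⟨(g : K) ^ m, by rw [← hk', hm]; ring⟩
    · exact Or.inr ⟨(g : K) ^ m, by rw [← hk', hm]; ring⟩
  obtain ⟨u, hu⟩ := (hg r hr).resolve_left hsq
  obtain ⟨u', hu'⟩ := (hg s hs).resolve_left hsq'
  have hgns : ¬ ∃ v, v ^ 2 = g := fun ⟨v, hv⟩ => hsq ⟨u * v, by rw [mul_pow, hv, hu]⟩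
  have hu0 : u ≠ 0 := fun e => hr (by rw [← hu, e]; simp)
  have hu0' : u' ≠ 0 := fun e => hs (by rw [← hu', e]; simp)
  -- a square `w²` with `1 + w²` a non-square
  obtain ⟨w, hw0, hw⟩ : ∃ w : K, w ≠ 0 ∧ ¬ ∃ v, v ^ 2 = 1 + w ^ 2 := by
    obtain ⟨c, d, hcd⟩ := exists_sq_add_sq g
    have hc : c ≠ 0 := fun e => hgns ⟨d, by rw [← hcd, e]; ring⟩
    refine ⟨d / c, fun e => hgns ⟨c, ?_⟩, fun ⟨v, hv⟩ => hgns ⟨c * v, ?_⟩⟩
    · have hd : d = 0 := (div_eq_zero_iff.1 e).resolve_right hc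
      rw [← hcd, hd]; ring
    · rw [mul_pow, hv, ← hcd]; field_simp
  have hσ0 : (1 : K) + w ^ 2 ≠ 0 := fun e => hw ⟨0, by rw [e]; simp⟩
  obtain ⟨v, hv⟩ := (hg _ hσ0).resolve_left hw
  have hv0 : v ≠ 0 := fun e => hσ0 (by rw [← hv, e]; simp)
  have hgw : g + g * w ^ 2 = (v * g) ^ 2 := by rw [← mul_one_add, ← hv]; ring
  have key := R.add_identity hg0 (mul_ne_zero hg0 (pow_ne_zero 2 hw0)) (by rw [hgw]; exact pow_ne_zero 2 (mul_ne_zero hv0 hg0))
  rw [hgw, show -(g ^ 2) / (v * g) ^ 2 = (v⁻¹) ^ 2 * -1 by field_simp,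
    show g * (g * w ^ 2) / (v * g) ^ 2 = (w / v) ^ 2 by field_simp] at key
  have hn : ∀ t, monEl x y t = diagEl x y t * monEl x y 1 := fun t => by rw [diagEl, inv_mul_cancel_right]
  have hswap : ∀ t, t ≠ 0 → monEl x y 1 * diagEl x y t = diagEl x y t⁻¹ * monEl x y 1 := fun t ht => by
    rw [diagEl, ← mul_assoc, R.mon_mon one_ne_zero ht, mul_inv_cancel_right, one_pow, one_div, ← hn]
  have hneg : monEl x y 1 * monEl x y 1 = (diagEl x y (-1))⁻¹ := by
    simp [diagEl, ← R.mon_inv, mul_inv_rev]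
  rw [hn g, hn (g * w ^ 2), hn (v⁻¹ ^ 2 * -1), hn ((w / v) ^ 2)] at key
  have hg' : monEl x y 1 * (diagEl x y g * monEl x y 1) = diagEl x y g⁻¹ * (diagEl x y (-1))⁻¹ := by
    rw [← mul_assoc, hswap g hg0, mul_assoc, hneg]
  have key2 : diagEl x y (v⁻¹ ^ 2 * -1) * diagEl x y g⁻¹ * (diagEl x y (-1))⁻¹ * diagEl x y (g * w ^ 2) =
      diagEl x y ((w / v) ^ 2) := by
    refine mul_right_cancel (b := monEl x y 1) ?_
    rw [← key]
    calc diagEl x y (v⁻¹ ^ 2 * -1) * diagEl x y g⁻¹ * (diagEl x y (-1))⁻¹ * diagEl x y (g * w ^ 2) *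
          monEl x y 1
        = diagEl x y (v⁻¹ ^ 2 * -1) * (diagEl x y g⁻¹ * (diagEl x y (-1))⁻¹) *
          (diagEl x y (g * w ^ 2) * monEl x y 1) := by group
      _ = _ := by rw [← hg']; group
  have hm1 : (-1 : K) ≠ 0 := neg_ne_zero.2 one_ne_zero
  have hv' : v⁻¹ ≠ 0 := inv_ne_zero hv0
  have hgi : g⁻¹ ≠ 0 := inv_ne_zero hg0
  have e1 : diagEl x y (v⁻¹ ^ 2 * -1) * diagEl x y g⁻¹ * (diagEl x y (-1))⁻¹ =
      diagEl x y (v⁻¹ ^ 2) * diagEl x y g⁻¹ := by
    rw [R.diag_sq_mul hv' hm1, mul_assoc _ (diagEl x y (-1)), R.diag_comm hm1 hgi]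
    group
  rw [e1, show g⁻¹ = g⁻¹ ^ 2 * g by field_simp, R.diag_sq_mul hgi hg0,
    show g * w ^ 2 = w ^ 2 * g by ring, R.diag_sq_mul hw0 hg0,
    ← R.diag_comm hg0 (pow_ne_zero 2 hw0)] at key2
  -- the square of `diagEl g`
  have hgg : diagEl x y g * diagEl x y g = diagEl x y (g ^ 2) := by
    have hval : ((w / v) ^ 2) = v⁻¹ ^ 2 * (g⁻¹ ^ 2 * (g ^ 2 * w ^ 2)) := by field_simp
    rw [hval, R.diag_sq_mul hv' (by simp [hg0, hw0]), R.diag_sq_mul hgi (by simp [hg0, hw0]),
      R.diag_sq_mul hg0 (pow_ne_zero 2 hw0)] at key2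
    simp only [mul_assoc] at key2
    have key3 := mul_left_cancel (mul_left_cancel key2)
    simp only [← mul_assoc] at key3
    exact mul_right_cancel key3
  rw [← hu, ← hu', show u ^ 2 * g * (u' ^ 2 * g) = u ^ 2 * (u' ^ 2 * g ^ 2) by ring,
    R.diag_sq_mul hu0 (by simp [hu0', hg0]), R.diag_sq_mul hu0' (pow_ne_zero 2 hg0),
    R.diag_sq_mul hu0 hg0, R.diag_sq_mul hu0' hg0, ← hgg]
  have hc := R.diag_comm hg0 (pow_ne_zero 2 hu0')
  rw [mul_assoc (diagEl x y (u ^ 2)), ← mul_assoc (diagEl x y g), hc, mul_assoc]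

theorem Rels.bform_closed :
    (Subgroup.closure (Set.range x ∪ Set.range y : Set G) : Set G) ⊆ Set.range (bform x y) := by
  have hn : ∀ t, monEl x y t = diagEl x y t * monEl x y 1 := fun t => by rw [diagEl, inv_mul_cancel_right]
  have hn1 : ∀ t, t ≠ 0 → monEl x y 1 * diagEl x y t = diagEl x y t⁻¹ * monEl x y 1 := fun t ht => by
    rw [diagEl, ← mul_assoc, R.mon_mon one_ne_zero ht, mul_inv_cancel_right, one_pow, one_div, ← hn]
  have hm1 : (-1 : K) ≠ 0 := neg_ne_zero.2 one_ne_zero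
  have hneg : monEl x y 1 * monEl x y 1 = diagEl x y (-1) := by
    have h1 : diagEl x y (-1) * diagEl x y (-1) = 1 := by
      rw [← R.diag_mul hm1 hm1, neg_mul_neg, one_mul, R.diag_one]
    calc monEl x y 1 * monEl x y 1 = (diagEl x y (-1))⁻¹ := by simp [diagEl, ← R.mon_inv, mul_inv_rev]
      _ = _ := inv_eq_of_mul_eq_one_right h1
  have hX : ∀ k, ∀ g ∈ Set.range (bform x y), x k * g ∈ Set.range (bform x y) := by
    rintro k _ ⟨w | w, rfl⟩
    · exact ⟨.inl (k + w.1, w.2), by simp only [bform, R.addX, mul_assoc]⟩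
    · exact ⟨.inr (k + w.1, w.2), by simp only [bform, R.addX, mul_assoc]⟩
  have hD : ∀ s, s ≠ 0 → ∀ g ∈ Set.range (bform x y), diagEl x y s * g ∈ Set.range (bform x y) := by
    rintro s hs _ ⟨⟨i, r, hr⟩ | ⟨i, ⟨r, hr⟩, j⟩, rfl⟩
    · refine ⟨.inl (i * s ^ 2, ⟨s * r, mul_ne_zero hs hr⟩), ?_⟩
      simp only [bform]
      rw [← mul_assoc _ (x i), R.diag_x hs, R.diag_mul hs hr]
      simp only [mul_assoc]
    · refine ⟨.inr (i * s ^ 2, ⟨s * r, mul_ne_zero hs hr⟩, j), ?_⟩
      simp only [bform, ← mul_assoc]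
      rw [R.diag_x hs, R.diag_mul hs hr]
      simp only [mul_assoc]
  have hN : ∀ g ∈ Set.range (bform x y), monEl x y 1 * g ∈ Set.range (bform x y) := by
    rintro _ ⟨⟨i, r, hr⟩ | ⟨i, ⟨r, hr⟩, j⟩, rfl⟩
    · refine ⟨.inr (0, ⟨r⁻¹, inv_ne_zero hr⟩, i / r ^ 2), ?_⟩
      simp only [bform, R.x_zero, one_mul]
      have h1 : x i * diagEl x y r = diagEl x y r * x (i / r ^ 2) := by
        rw [R.diag_x hr, div_mul_cancel₀ _ (pow_ne_zero _ hr)]
      rw [h1, ← mul_assoc, hn1 r hr, mul_assoc]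
    · simp only [bform]
      have h2 : diagEl x y r * monEl x y 1 = monEl x y 1 * diagEl x y r⁻¹ := by
        rw [hn1 r⁻¹ (inv_ne_zero hr), inv_inv]
      have hr' : r⁻¹ ≠ 0 := inv_ne_zero hr
      by_cases hi : i = 0
      · subst hi
        refine ⟨.inl (j / r ^ 2, ⟨-r⁻¹, neg_ne_zero.2 hr'⟩), ?_⟩
        rw [R.x_zero, one_mul, h2, mul_assoc (monEl x y 1), ← mul_assoc, hneg, ← mul_assoc,
          ← R.diag_mul hm1 hr', neg_one_mul, R.diag_x (neg_ne_zero.2 hr')]
        show x (j / r ^ 2) * _ = _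
        congr 2
        field_simp
      · have hi' : i⁻¹ ≠ 0 := inv_ne_zero hi
        refine ⟨.inr (-i⁻¹, ⟨i⁻¹ * -r, mul_ne_zero hi' (neg_ne_zero.2 hr)⟩, j - r ^ 2 / i), ?_⟩
        have h3 : monEl x y 1 * x i = x (-i⁻¹) * (diagEl x y i⁻¹ * monEl x y 1) * x (-i⁻¹) * monEl x y 1 := by
          rw [R.mon_x one_ne_zero, one_pow, div_one, ← hn i⁻¹]
          congr 1
          rw [monEl, inv_inv, R.x_neg]; group
        have h4 : x (-i⁻¹) * (diagEl x y (-1) * diagEl x y r⁻¹) = diagEl x y (-r⁻¹) * x (-(r ^ 2) / i) := by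
          rw [← R.diag_mul hm1 hr', neg_one_mul, R.diag_x (neg_ne_zero.2 hr')]
          congr 2
          field_simp
        have h5 : monEl x y 1 * diagEl x y (-r⁻¹) = diagEl x y (-r) * monEl x y 1 := by
          rw [hn1 _ (neg_ne_zero.2 hr'), inv_neg, inv_inv]
        symm
        calc monEl x y 1 * (x i * (diagEl x y r * monEl x y 1) * x j)
            = (monEl x y 1 * x i) * (diagEl x y r * monEl x y 1) * x j := by group
          _ = x (-i⁻¹) * (diagEl x y i⁻¹ * monEl x y 1) * (x (-i⁻¹) * ((monEl x y 1 * monEl x y 1) *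
                diagEl x y r⁻¹)) * x j := by rw [h3, h2]; group
          _ = x (-i⁻¹) * diagEl x y i⁻¹ * (monEl x y 1 * diagEl x y (-r⁻¹)) *
                (x (-(r ^ 2) / i) * x j) := by rw [hneg, h4]; group
          _ = _ := by
            rw [h5, ← R.addX, show -(r ^ 2) / i + j = j - r ^ 2 / i by ring]
            show _ = bform x y (.inr _)
            simp only [bform]
            rw [R.diag_mul hi' (neg_ne_zero.2 hr)]
            group
  have hY : ∀ k, ∀ g ∈ Set.range (bform x y), y k * g ∈ Set.range (bform x y) := by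
    intro k g hg
    have h1 : y k = monEl x y 1 * x k * (monEl x y 1 * diagEl x y (-1)) := by
      have h2 : monEl x y 1 * diagEl x y (-1) = (monEl x y 1)⁻¹ := by
        have h3 : diagEl x y (-1) * diagEl x y (-1) = 1 := by
          rw [← R.diag_mul hm1 hm1, neg_mul_neg, one_mul, R.diag_one]
        exact eq_inv_of_mul_eq_one_right (by rw [← mul_assoc, hneg, h3])
      rw [h2, R.mon_x one_ne_zero, one_pow, div_one, mul_inv_cancel_right]
    rw [h1]
    simp only [mul_assoc]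
    exact hN _ (hX _ _ (hN _ (hD _ hm1 _ hg)))
  intro g hg
  induction hg using Subgroup.closure_induction_left with
  | one => exact ⟨.inl (0, ⟨1, one_ne_zero⟩), by simp [bform, R.x_zero, R.diag_one]⟩
  | mul_left a ha b _ hb =>
    rcases ha with ⟨k, rfl⟩ | ⟨k, rfl⟩
    exacts [hX _ _ hb, hY _ _ hb]
  | inv_mul_cancel a ha b _ hb =>
    rcases ha with ⟨k, rfl⟩ | ⟨k, rfl⟩
    · rw [← R.x_neg]; exact hX _ _ hb
    · rw [← R.y_neg]; exact hY _ _ hb

theorem Rels.bform_mem (w : BIndex K) :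
    bform x y w ∈ Subgroup.closure (Set.range x ∪ Set.range y : Set G) := by
  have hx : ∀ t, x t ∈ Subgroup.closure (Set.range x ∪ Set.range y : Set G) := fun t =>
    Subgroup.subset_closure (Or.inl ⟨t, rfl⟩)
  have hy : ∀ t, y t ∈ Subgroup.closure (Set.range x ∪ Set.range y : Set G) := fun t =>
    Subgroup.subset_closure (Or.inr ⟨t, rfl⟩)
  have hn : ∀ t, monEl x y t ∈ Subgroup.closure (Set.range x ∪ Set.range y : Set G) := fun t =>
    mul_mem (mul_mem (hx _) (hy _)) (hx _)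
  have hd : ∀ t, diagEl x y t ∈ Subgroup.closure (Set.range x ∪ Set.range y : Set G) := fun t =>
    mul_mem (hn _) (inv_mem (hn _))
  rcases w with ⟨i, r⟩ | ⟨i, r, j⟩
  · exact mul_mem (hx _) (hd _)
  · exact mul_mem (mul_mem (hx _) (mul_mem (hd _) (hn _))) (hx _)

end Words

omit [Finite K] in
theorem rels_sl_two : Rels (fun t : K => uEl t) (fun t : K => lEl (-t)) := by
  refine ⟨fun s t => (uEl_mul s t).symm, fun s t => ?_, fun {r} hr t => ?_, fun {r} hr t => ?_⟩
  · show lEl (-(s + t)) = _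
    rw [neg_add]; exact (lEl_mul _ _).symm
  all_goals
    apply Subtype.ext
    ext i j
    fin_cases i <;> fin_cases j <;>
      simp [monEl, Matrix.mul_apply, Fin.sum_univ_two, hr] <;> field_simp

theorem monEl_sl {r : K} (hr : r ≠ 0) :
    (monEl (fun t : K => uEl t) (fun t : K => lEl (-t)) r : Matrix.SpecialLinearGroup (Fin 2) (K)).1 =
      !![0, r; -r⁻¹, 0] := by
  ext i j
  fin_cases i <;> fin_cases j <;> simp [monEl, Matrix.mul_apply, Fin.sum_univ_two, hr]

theorem diagEl_sl {r : K} (hr : r ≠ 0) :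
    (diagEl (fun t : K => uEl t) (fun t : K => lEl (-t)) r : Matrix.SpecialLinearGroup (Fin 2) (K)).1 =
      !![r, 0; 0, r⁻¹] := by
  rw [diagEl, rels_sl_two.mon_inv, Matrix.SpecialLinearGroup.coe_mul, monEl_sl hr,
    monEl_sl (neg_ne_zero.2 one_ne_zero)]
  ext i j
  fin_cases i <;> fin_cases j <;> simp [Matrix.mul_apply, Fin.sum_univ_two]

theorem bform_bijective :
    Function.Bijective (bform (fun t : K => uEl t) (fun t : K => lEl (-t))) := by
  have hl : ∀ i r, (bform (fun t : K => uEl t) (fun t : K => lEl (-t)) (.inl (i, r))).1 =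
      !![(r : K), i * (r : K)⁻¹; 0, (r : K)⁻¹] := fun i r => by
    rw [bform, Matrix.SpecialLinearGroup.coe_mul, diagEl_sl r.2, uEl_val]
    ext a b
    fin_cases a <;> fin_cases b <;> simp [Matrix.mul_apply, Fin.sum_univ_two]
  have hr : ∀ i r j, (bform (fun t : K => uEl t) (fun t : K => lEl (-t)) (.inr (i, r, j))).1 =
      !![-(i * (r : K)⁻¹), (r : K) - i * (r : K)⁻¹ * j;
        -(r : K)⁻¹, -((r : K)⁻¹ * j)] := fun i r j => by
    rw [bform, Matrix.SpecialLinearGroup.coe_mul, Matrix.SpecialLinearGroup.coe_mul,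
      Matrix.SpecialLinearGroup.coe_mul, diagEl_sl r.2, monEl_sl one_ne_zero, uEl_val, uEl_val]
    ext a b
    fin_cases a <;> fin_cases b <;> simp [Matrix.mul_apply, Fin.sum_univ_two]
    ring
  constructor
  · intro w w' h
    have e := congrArg Subtype.val h
    rcases w with ⟨i, r⟩ | ⟨i, r, j⟩ <;> rcases w' with ⟨i', r'⟩ | ⟨i', r', j'⟩ <;>
      simp only [hl, hr] at e
    · have e00 := congrFun₂ e 0 0
      have e01 := congrFun₂ e 0 1
      simp at e00 e01
      obtain rfl : r = r' := Subtype.ext e00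
      simp [r.2] at e01
      rw [e01]
    · have e10 := congrFun₂ e 1 0
      simp at e10
      exact absurd e10 r'.2
    · have e10 := congrFun₂ e 1 0
      simp at e10
      exact absurd e10 r.2
    · have e00 := congrFun₂ e 0 0
      have e10 := congrFun₂ e 1 0
      have e11 := congrFun₂ e 1 1
      simp at e00 e10 e11
      obtain rfl : r = r' := Subtype.ext e10
      simp [r.2] at e00 e11
      rw [e00, e11]
  · intro M
    have hdet := M.2
    rw [Matrix.det_fin_two] at hdet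
    by_cases hc : M.1 1 0 = 0
    · rw [hc, mul_zero, sub_zero] at hdet
      have ha : M.1 0 0 ≠ 0 := left_ne_zero_of_mul_eq_one hdet
      have hd' : (M.1 0 0)⁻¹ = M.1 1 1 := inv_eq_of_mul_eq_one_right hdet
      refine ⟨.inl (M.1 0 1 * M.1 0 0, ⟨M.1 0 0, ha⟩), Subtype.ext ?_⟩
      rw [hl]
      ext a b
      fin_cases a <;> fin_cases b <;> simp [hc, hd', mul_assoc, hdet]
    · refine ⟨.inr (M.1 0 0 / M.1 1 0, ⟨-(M.1 1 0)⁻¹, neg_ne_zero.2 (inv_ne_zero hc)⟩,
        M.1 1 1 / M.1 1 0), Subtype.ext ?_⟩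
      rw [hr]
      ext a b
      fin_cases a <;> fin_cases b <;> simp [hc]
      · field_simp
        linear_combination hdet
      · field_simp


/-- The homomorphism from `SL₂(K)` given by the relations. -/
theorem Rels.exists_hom {X : Type*} [Group X] {x y : K → X} (R : Rels x y) :
    ∃ φ : Matrix.SpecialLinearGroup (Fin 2) K →* X,
      (∀ t, φ (uEl t) = x t) ∧ ∀ t, φ (lEl (-t)) = y t := by
  have Rp : Rels (fun t => ((uEl t : Matrix.SpecialLinearGroup (Fin 2) K), x t))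
      (fun t => ((lEl (-t) : Matrix.SpecialLinearGroup (Fin 2) K), y t)) :=
    ⟨fun s t => Prod.ext (rels_sl_two.addX s t) (R.addX s t),
      fun s t => Prod.ext (rels_sl_two.addY s t) (R.addY s t),
      fun hr t => Prod.ext (rels_sl_two.mon_x hr t) (R.mon_x hr t),
      fun hr t => Prod.ext (rels_sl_two.mon_y hr t) (R.mon_y hr t)⟩
  have hprod : ∀ w, bform (fun t => ((uEl t : Matrix.SpecialLinearGroup (Fin 2) K), x t))
      (fun t => ((lEl (-t) : Matrix.SpecialLinearGroup (Fin 2) K), y t)) w =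
      (bform (fun t : K => uEl t) (fun t : K => lEl (-t)) w, bform x y w) := by
    rintro (w | w) <;> simp [bform, diagEl, monEl, Prod.ext_iff]
  obtain ⟨φ, hφ⟩ := exists_hom_of_words _ _ _ (fun g hg => by
      obtain ⟨w, hw⟩ := Rp.bform_closed hg
      exact ⟨w, by rw [← hw, hprod]⟩)
    (fun w => by rw [← hprod]; exact Rp.bform_mem w) bform_bijective
  have hu : ∀ t, φ (uEl t) = x t := fun t => by
    have h := hφ (.inl (t, ⟨1, one_ne_zero⟩))
    simpa [bform, R.diag_one, rels_sl_two.diag_one] using h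
  have hm : φ (monEl (fun t : K => uEl t) (fun t : K => lEl (-t)) 1) = monEl x y 1 := by
    have h := hφ (.inr (0, ⟨1, one_ne_zero⟩, 0))
    simpa [bform, R.diag_one, rels_sl_two.diag_one, R.x_zero, rels_sl_two.x_zero] using h
  refine ⟨φ, hu, fun t => ?_⟩
  have h1 := rels_sl_two.mon_x (K := K) one_ne_zero t
  have h2 := R.mon_x one_ne_zero t
  rw [one_pow, div_one] at h1 h2
  have h3 := congrArg φ (eq_mul_inv_iff_mul_eq.2 h1.symm)
  rw [map_mul, map_mul, map_inv, hm, hu, ← eq_mul_inv_iff_mul_eq.2 h2.symm] at h3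
  exact h3

end Cfsg.Agent.RootLibK
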