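import Cfsg.Agent.Lib.Root.Examples
import Cfsg.Agent.Lib.Root.Nondeg
import Cfsg.Agent.Lib.AutPSU.Basic
import Cfsg.Agent.Lib.Forms.Alt

/-!
Unitary transvection groups as abstract transvection groups, and the passage from a family of
subgroups to the subgroup it generates.
-/

set_option autoImplicit false

namespace Cfsg.Agent.RootLib

open Cfsg

/-- A family of subgroups, seen inside the subgroup it generates, in which any two members commute or
are the images of the unitriangular subgroups of a copy of `SL₂(k)`, is degenerate and made of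
`k`-root subgroups. -/
theorem isRootSubgroupSet_subgroupOf {G : Type*} [Group G] (k : Type*) [Field k] {S : Set (Subgroup G)}
    {U : Subgroup G} (hU : U = ⨆ B ∈ S, B) (hne : ∀ A ∈ S, A ≠ ⊥)
    (hab : ∀ A ∈ S, ∀ x ∈ A, ∀ y ∈ A, x * y = y * x) (hconj : ∀ A ∈ S, ∀ g : G, conjBy A g ∈ S)
    (hpair : ∀ A ∈ S, ∀ B ∈ S, (∀ x ∈ A, ∀ y ∈ B, x * y = y * x) ∨
      ∃ φ : Matrix.SpecialLinearGroup (Fin 2) k →* G, Function.Injective φ ∧
        (upperUnipotentSL2 k).map φ = A ∧ (lowerUnipotentSL2 k).map φ = B)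
    (hreach : ∀ A ∈ S, ∀ B ∈ S, (∀ x ∈ A, ∀ y ∈ B, x * y = y * x) →
      ∃ C ∈ S, ¬ (∀ x ∈ A, ∀ y ∈ C, x * y = y * x) ∧ ¬ (∀ x ∈ C, ∀ y ∈ B, x * y = y * x)) :
    IsRootSubgroupSet ((fun A : Subgroup G => A.subgroupOf U) '' S) ∧
      IsDegenerateRootSet ((fun A : Subgroup G => A.subgroupOf U) '' S) ∧
      IsKRootSubgroupSet k ((fun A : Subgroup G => A.subgroupOf U) '' S) ∧
      IsConnectedFamily (FAdj ((fun A : Subgroup G => A.subgroupOf U) '' S))
        ((fun A : Subgroup G => A.subgroupOf U) '' S) := by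
  have hle : ∀ A ∈ S, A ≤ U := fun A hA => hU ▸ le_iSup₂ (f := fun B (_ : B ∈ S) => B) A hA
  have hcomm : ∀ A B : Subgroup G, A ≤ U → B ≤ U →
      (⁅A.subgroupOf U, B.subgroupOf U⁆ = ⊥ ↔ ∀ x ∈ A, ∀ y ∈ B, x * y = y * x) := by
    intro A B hA hB
    rw [bracket_eq_bot_iff]
    exact ⟨fun h x hx y hy => congrArg Subtype.val (h ⟨x, hA hx⟩ hx ⟨y, hB hy⟩ hy),
      fun h x hx y hy => Subtype.ext (h x hx y hy)⟩
  have hgood : ∀ A ∈ S, ∀ B ∈ S, ¬ (∀ x ∈ A, ∀ y ∈ B, x * y = y * x) →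
      IsRankOnePair (A.subgroupOf U) (B.subgroupOf U) ∧
        IsPSL2PairOver k (A.subgroupOf U) (B.subgroupOf U) := by
    intro A hA B hB hn
    obtain ⟨φ, hφ, hu, hl⟩ := (hpair A hA B hB).resolve_left hn
    have hmem : ∀ x, φ x ∈ U := by
      intro x
      have h1 : φ x ∈ (⊤ : Subgroup (Matrix.SpecialLinearGroup (Fin 2) k)).map φ :=
        Subgroup.mem_map_of_mem φ (Subgroup.mem_top x)
      rw [← sl_two_sup, Subgroup.map_sup, hu, hl] at h1
      exact sup_le (hle B hB) (hle A hA) h1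
    have hmap : ∀ (X : Subgroup (Matrix.SpecialLinearGroup (Fin 2) k)) (Y : Subgroup G),
        X.map φ = Y → X.map (φ.codRestrict U hmem) = Y.subgroupOf U := by
      intro X Y h
      ext y
      rw [Subgroup.mem_subgroupOf, ← h]
      constructor
      · rintro ⟨x, hx, rfl⟩
        exact ⟨x, hx, rfl⟩
      · rintro ⟨x, hx, e⟩
        exact ⟨x, hx, Subtype.ext e⟩
    exact pair_of_hom (φ.codRestrict U hmem) (fun x y e => hφ (congrArg Subtype.val e))
      (hmap _ _ hu) (hmap _ _ hl)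
  have hS : IsRootSubgroupSet ((fun A : Subgroup G => A.subgroupOf U) '' S) := by
    refine ⟨?_, ?_, ?_, ?_, ?_⟩
    · rintro _ ⟨A, hA, rfl⟩
      exact ⟨⟨fun x y => Subtype.ext (Subtype.ext (hab A hA _ x.2 _ y.2))⟩⟩
    · rintro _ ⟨A, hA, rfl⟩ e
      refine hne A hA ((Subgroup.eq_bot_iff_forall A).2 fun x hx => ?_)
      have h1 : (⟨x, hle A hA hx⟩ : U) ∈ A.subgroupOf U := hx
      simp only at e
      rw [e] at h1
      have h2 := Subgroup.mem_bot.1 h1
      exact congrArg Subtype.val h2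
    · apply Subgroup.map_injective U.subtype_injective
      rw [iSup_image, Subgroup.map_iSup, ← MonoidHom.range_eq_map, U.range_subtype]
      simp only [Subgroup.map_iSup]
      conv_rhs => rw [hU]
      exact iSup_congr fun A => iSup_congr fun hA => Subgroup.map_subgroupOf_eq_of_le (hle A hA)
    · rintro _ ⟨A, hA, rfl⟩ g
      refine ⟨conjBy A g, hconj A hA g, ?_⟩
      ext x
      show (x : G) ∈ conjBy A (g : G) ↔ x ∈ conjBy (A.subgroupOf U) g
      rw [mem_conjBy, mem_conjBy]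
      exact Iff.rfl
    · rintro _ ⟨A, hA, rfl⟩ _ ⟨B, hB, rfl⟩
      by_cases h : ∀ x ∈ A, ∀ y ∈ B, x * y = y * x
      · exact Or.inl ((hcomm A B (hle A hA) (hle B hB)).2 h)
      · exact Or.inr (Or.inl (hgood A hA B hB h).1)
  refine ⟨hS, ?_, ⟨hS, ?_⟩, ?_⟩
  · rintro _ ⟨A, hA, rfl⟩ _ ⟨B, hB, rfl⟩ hc
    by_cases h : ∀ x ∈ A, ∀ y ∈ B, x * y = y * x
    · exact hS.ne_bot _ hc.1 ((hcomm A B (hle A hA) (hle B hB)).2 h)
    · exact not_case_of_rankOne hS ⟨A, hA, rfl⟩ ⟨B, hB, rfl⟩ (hgood A hA B hB h).1 hc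
  · rintro _ ⟨A, hA, rfl⟩ _ ⟨B, hB, rfl⟩ hAB
    exact (hgood A hA B hB fun h => bracket_ne_bot hAB ((hcomm A B (hle A hA) (hle B hB)).2 h)).2
  · rintro _ ⟨A, hA, rfl⟩ _ ⟨B, hB, rfl⟩
    by_cases h : ∀ x ∈ A, ∀ y ∈ B, x * y = y * x
    swap
    · exact Relation.ReflTransGen.single ⟨⟨A, hA, rfl⟩, ⟨B, hB, rfl⟩, (hgood A hA B hB h).1⟩
    obtain ⟨C, hC, h1, h2⟩ := hreach A hA B hB h
    exact (Relation.ReflTransGen.single ⟨⟨A, hA, rfl⟩, ⟨C, hC, rfl⟩, (hgood A hA C hC h1).1⟩).tail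
      ⟨⟨C, hC, rfl⟩, ⟨B, hB, rfl⟩, (hgood C hC B hB h2).1⟩

namespace SUEx

open Matrix Cfsg.Agent.AutPSU

variable {F : Type*} [Field F] {q n : ℕ} [hQ : QField F q]

local notation "σ" => qb (F := F) q
local notation "H" => Cfsg.hermForm n F q

/-- The transvection group of the isotropic vector `p`. -/
def TU (q : ℕ) (p : Fin n → F) : Subgroup ↥(Cfsg.SU n F q) :=
  Subgroup.closure {g | (∀ v : Fin n → F, ∃ c : F,
      ((g : Matrix.SpecialLinearGroup (Fin n) F) : Matrix (Fin n) (Fin n) F) *ᵥ v = v + c • p) ∧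
    ∀ v : Fin n → F, Cfsg.hermForm n F q v p = 0 →
      ((g : Matrix.SpecialLinearGroup (Fin n) F) : Matrix (Fin n) (Fin n) F) *ᵥ v = v}

theorem mem_TU {p : Fin n → F} (hp : p ≠ 0) (hpp : H p p = 0) {g : ↥(Cfsg.SU n F q)} :
    g ∈ TU q p ↔ ∃ c : F, c + σ c = 0 ∧ ∀ v, app g v = v + (c * H v p) • p := by
  constructor
  · intro hg
    induction hg using Subgroup.closure_induction with
    | mem x hx =>
      obtain ⟨h1, h2⟩ := hx
      obtain ⟨w, hw⟩ := exists_H_eq_one (q := q) hp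
      obtain ⟨c, hc⟩ := h1 w
      have hpw : H p w = 1 := by rw [← H_flip w p, hw, map_one]
      refine ⟨c, ?_, fun v => ?_⟩
      · have h := app_H x w w
        simp only [app] at h
        rw [hc] at h
        simp only [H_add_left, H_add_right, H_smul_left, H_smul_right, hw, hpw, hpp, mul_one,
          mul_zero, add_zero] at h
        linear_combination h
      · have h := h2 (v - H v p • w) (by simp [hw])
        have hz : app x (v - H v p • w) = v - H v p • w := h
        rw [app_sub, app_smul, show app x w = w + c • p from hc, sub_eq_iff_eq_add] at hz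
        rw [hz]
        module
    | one => exact ⟨0, by simp, fun v => by simp [app_one]⟩
    | mul x y _ _ hx hy =>
      obtain ⟨c, hc, hc'⟩ := hx
      obtain ⟨d, hd, hd'⟩ := hy
      refine ⟨c + d, by rw [map_add]; linear_combination hc + hd, fun v => ?_⟩
      rw [app_mul, hd', hc']
      simp only [H_add_left, H_smul_left, hpp, mul_zero, add_zero]
      module
    | inv x _ hx =>
      obtain ⟨c, hc, hc'⟩ := hx
      refine ⟨-c, by rw [map_neg]; linear_combination -hc, fun v => ?_⟩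
      apply app_injective x
      rw [app_inv', hc']
      simp only [H_add_left, H_smul_left, hpp, mul_zero, add_zero]
      module
  · rintro ⟨c, -, hc⟩
    refine Subgroup.subset_closure ⟨fun v => ⟨_, hc v⟩, fun v hv => ?_⟩
    show app g v = v
    rw [hc, hv, mul_zero, zero_smul, add_zero]

theorem TU_ne_bot {p : Fin n → F} (hp : p ≠ 0) (hpp : H p p = 0) : TU q p ≠ ⊥ := by
  intro e
  obtain ⟨c, hc0, hc⟩ := exists_skew (F := F) (q := q)
  obtain ⟨w, hw⟩ := exists_H_eq_one (q := q) hp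
  have ht : IsT q p c := ⟨hpp, hc⟩
  have hv : ∀ v, app (tr p c ht) v = v + (c * H v p) • p := fun v => by simp [tr, qE_apply]
  have h1 : tr p c ht = 1 := Subgroup.mem_bot.1 (e ▸ (mem_TU hp hpp).2 ⟨c, hc, hv⟩)
  have h2 := hv w
  rw [h1, app_one, left_eq_add, hw, mul_one, smul_eq_zero] at h2
  exact h2.elim hc0 hp

theorem TU_comm {p r : Fin n → F} (hp : p ≠ 0) (hpp : H p p = 0) (hr : r ≠ 0) (hrr : H r r = 0)
    (h : H p r = 0) : ∀ x ∈ TU q p, ∀ y ∈ TU q r, x * y = y * x := by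
  intro x hx y hy
  obtain ⟨c, -, hc⟩ := (mem_TU hp hpp).1 hx
  obtain ⟨d, -, hd⟩ := (mem_TU hr hrr).1 hy
  refine su_ext fun v => ?_
  show app (x * y) v = app (y * x) v
  rw [app_mul, app_mul, hc, hd, hc, hd]
  simp only [H_add_left, H_smul_left, h, H_eq_zero_comm.1 h, mul_zero, add_zero]
  abel

theorem TU_smul {p : Fin n → F} (hp : p ≠ 0) (hpp : H p p = 0) {a : F} (ha : a ≠ 0) :
    TU q (a • p) = TU q p := by
  have hs : σ a ≠ 0 := by simpa using ha
  have hp' : a • p ≠ 0 := smul_ne_zero ha hp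
  have hpp' : H (a • p) (a • p) = 0 := by simp [hpp]
  ext g
  rw [mem_TU hp' hpp', mem_TU hp hpp]
  constructor
  · rintro ⟨c, hc, hv⟩
    refine ⟨c * (a * σ a), by rw [map_mul, map_mul, qb_qb]; linear_combination (a * σ a) * hc,
      fun v => ?_⟩
    rw [hv, H_smul_right, smul_smul]
    congr 2
    ring
  · rintro ⟨c, hc, hv⟩
    refine ⟨c * (a * σ a)⁻¹, ?_, fun v => ?_⟩
    · rw [map_mul, map_inv₀, map_mul, qb_qb, mul_comm (σ a) a, ← add_mul, hc, zero_mul]
    · rw [hv, H_smul_right, smul_smul]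
      congr 2
      field_simp

theorem conjBy_TU {p : Fin n → F} (hp : p ≠ 0) (hpp : H p p = 0) (g : ↥(Cfsg.SU n F q)) :
    conjBy (TU q p) g = TU q (app g p) := by
  have key : ∀ (g : ↥(Cfsg.SU n F q)) (p : Fin n → F), p ≠ 0 → H p p = 0 → ∀ x, x ∈ TU q p →
      g * x * g⁻¹ ∈ TU q (app g p) := by
    intro g p hp hpp x hx
    obtain ⟨c, hc, hc'⟩ := (mem_TU hp hpp).1 hx
    have hp' : app g p ≠ 0 := fun e => hp (app_injective g (by rw [e, app_zero]))
    refine (mem_TU hp' (by rw [app_H]; exact hpp)).2 ⟨c, hc, fun v => ?_⟩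
    have hv : H (app g⁻¹ v) p = H v (app g p) := by rw [← app_H g, app_inv']
    rw [app_mul, app_mul, hc', app_add, app_smul, app_inv', hv]
  ext x
  constructor
  · rintro ⟨t, ht, rfl⟩
    exact key g p hp hpp t ht
  · intro hx
    have := key g⁻¹ _ (fun e => hp (app_injective g (by rw [e, app_zero]))) (by rw [app_H]; exact hpp) _ hx
    rw [app_inv, inv_inv] at this
    exact mem_conjBy.2 this

/-- An isotropic vector not orthogonal to two given isotropic vectors. -/
theorem exists_common {p r : Fin n → F} (hp : p ≠ 0) (hpp : H p p = 0) (hr : r ≠ 0) :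
    ∃ s, s ≠ 0 ∧ H s s = 0 ∧ (H p r = 0 → H s p ≠ 0 ∧ H s r ≠ 0) := by
  by_cases h : H p r = 0
  · obtain ⟨u, hu⟩ := exists_H_eq_one (q := q) hp
    obtain ⟨v, hv⟩ := exists_H_eq_one (q := q) hr
    obtain ⟨z, hz1, hz2⟩ := FormsLib.exists_ne_zero_pair (f := Hl (q := q) p) (g := Hl (q := q) r)
      (u := u) (by simp [hu]) (v := v) (by simp [hv])
    simp only [Hl_apply] at hz1 hz2
    obtain ⟨t, ht⟩ := exists_trace (F := F) (q := q) (c := - H z z) (by rw [map_neg, H_self_fixed])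
    have hs : σ (H z p) ≠ 0 := by simpa using hz1
    refine ⟨z + (t / σ (H z p)) • p, fun e => ?_, ?_, fun _ => ?_⟩
    · have := congrArg (fun w => H w p) e
      simp [hpp] at this
      exact hz1 this
    · simp only [H_add_left, H_add_right, H_smul_left, H_smul_right, hpp, ← H_flip z p, map_div₀,
        qb_qb, mul_zero, add_zero]
      field_simp
      linear_combination ht
    · refine ⟨by simpa [hpp] using hz1, ?_⟩
      simpa [h] using hz2
  · exact ⟨p, hp, hpp, fun h' => absurd h' h⟩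

variable {L : Type*} [Field L] (ι : L →+* F)

set_option maxHeartbeats 1000000 in
/-- The copy of `SL₂` of the fixed field on a hyperbolic plane. -/
theorem exists_hom (hι : ∀ x, σ (ι x) = ι x) (hι' : ∀ a, σ a = a → ∃ x, ι x = a) {p r : Fin n → F}
    (hp : p ≠ 0) (hpp : H p p = 0) (hr : r ≠ 0) (hrr : H r r = 0) (h : H p r ≠ 0) :
    ∃ φ : Matrix.SpecialLinearGroup (Fin 2) L →* ↥(Cfsg.SU n F q), Function.Injective φ ∧
      (upperUnipotentSL2 L).map φ = TU q p ∧ (lowerUnipotentSL2 L).map φ = TU q r := by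
  obtain ⟨θ, hθ, hθs⟩ := exists_skew (F := F) (q := q)
  have hθ' : σ θ = -θ := by linear_combination hθs
  obtain ⟨r', hr'0, hr'r', hpr, hT⟩ : ∃ r', r' ≠ 0 ∧ H r' r' = 0 ∧ H p r' = θ ∧ TU q r' = TU q r := by
    have ha : σ (θ / H p r) ≠ 0 := by simp [hθ, h]
    exact ⟨σ (θ / H p r) • r, smul_ne_zero ha hr, by simp [hrr],
      by rw [H_smul_right, qb_qb, div_mul_cancel₀ _ h], TU_smul hr hrr ha⟩
  rw [← hT]
  have hrp : H r' p = -θ := by rw [← H_flip p r', hpr, hθ']
  let V : Matrix (Fin n) (Fin 2) F := (Matrix.of ![p, r'])ᵀ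
  let P : Matrix (Fin 2) (Fin n) F :=
    Matrix.of ![θ⁻¹ • (fun i => σ (r' i)), -θ⁻¹ • (fun i => σ (p i))]
  have hP : ∀ v, (P *ᵥ v) 0 = θ⁻¹ * H v r' ∧ (P *ᵥ v) 1 = -θ⁻¹ * H v p := fun v => by
    constructor <;> rw [H_eq, Finset.mul_sum] <;>
    · simp [P, Matrix.mulVec, dotProduct, mul_left_comm, mul_comm]
  have hPV : P * V = 1 := by
    ext i j
    have e : (P * V) i j = (P *ᵥ (![p, r'] j)) i := rfl
    rw [e]
    fin_cases i <;> fin_cases j <;> simp [(hP _).1, (hP _).2, hpp, hr'r', hpr, hrp, hθ]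
  have hact : ∀ (N : Matrix (Fin 2) (Fin 2) F) v, (1 + V * N * P) *ᵥ v =
      v + (N 0 0 * (θ⁻¹ * H v r') + N 0 1 * (-θ⁻¹ * H v p)) • p +
        (N 1 0 * (θ⁻¹ * H v r') + N 1 1 * (-θ⁻¹ * H v p)) • r' := by
    intro N v
    rw [Matrix.add_mulVec, Matrix.one_mulVec, ← Matrix.mulVec_mulVec, ← Matrix.mulVec_mulVec, add_assoc]
    congr 1
    ext x
    simp [V, Matrix.mulVec, dotProduct, Fin.sum_univ_two, ← (hP v).1, ← (hP v).2]
    ring
  let X : Matrix.SpecialLinearGroup (Fin 2) L → Matrix (Fin 2) (Fin 2) F := fun M => M.1.map ι - 1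
  have hdet1 : ∀ M, (1 + V * X M * P).det = 1 := fun M => by
    rw [Matrix.mul_assoc, Matrix.det_one_add_mul_comm, Matrix.mul_assoc, hPV, Matrix.mul_one]
    simp only [X, add_sub_cancel]
    rw [← RingHom.mapMatrix_apply, ← RingHom.map_det, M.2, map_one]
  let f : Matrix.SpecialLinearGroup (Fin 2) L →* ↥(Cfsg.SU n F q) :=
    { toFun := fun M => ⟨⟨1 + V * X M * P, hdet1 M⟩, fun u v => by
        show H ((1 + V * X M * P) *ᵥ u) ((1 + V * X M * P) *ᵥ v) = _
        have hdet : (M : Matrix (Fin 2) (Fin 2) L).det = 1 := M.2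
        rw [Matrix.det_fin_two] at hdet
        have hd := congrArg ι hdet
        rw [map_sub, map_mul, map_mul, map_one] at hd
        have hXs : ∀ i j, σ (X M i j) = X M i j := fun i j => by
          by_cases hij : i = j <;> simp [X, hij, hι]
        rw [hact, hact]
        simp only [H_add_left, H_add_right, H_smul_left, H_smul_right, map_add, map_mul, map_neg,
          map_inv₀, hXs, H_flip, hθ', hpp, hr'r', hpr, hrp]
        simp only [X, Matrix.sub_apply, Matrix.map_apply, Matrix.one_apply_eq, ne_eq,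
          Fin.zero_eq_one_iff, Nat.succ_ne_self, not_false_eq_true, Matrix.one_apply_ne,
          Fin.one_eq_zero_iff, sub_zero]
        field_simp
        linear_combination θ * (H u r' * H p v - H u p * H r' v) * hd⟩
      map_one' := Subtype.ext (Subtype.ext (by
        show 1 + V * X 1 * P = (1 : Matrix (Fin n) (Fin n) F)
        simp [X]))
      map_mul' := fun M M' => Subtype.ext (Subtype.ext (by
        show 1 + V * X (M * M') * P = (1 + V * X M * P) * (1 + V * X M' * P)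
        have e : X (M * M') = X M + X M' + X M * X M' := by
          show ((M.1 * M'.1).map ι) - 1 = _
          rw [Matrix.map_mul]
          simp only [X]
          noncomm_ring
        rw [e]
        simp only [Matrix.add_mul, Matrix.mul_add, Matrix.one_mul, Matrix.mul_one, Matrix.mul_assoc]
        rw [← Matrix.mul_assoc P V, hPV, Matrix.one_mul]
        abel)) }
  have hf : ∀ M v, app (f M) v = (1 + V * X M * P) *ᵥ v := fun M v => rfl
  have hinj : Function.Injective f := by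
    intro M M' e
    apply Subtype.ext
    have e0 : 1 + V * X M * P = 1 + V * X M' * P :=
      congrArg (fun s : ↥(Cfsg.SU n F q) => ((s : Matrix.SpecialLinearGroup (Fin n) F) :
        Matrix (Fin n) (Fin n) F)) e
    have e1 := congrArg (fun Y : Matrix (Fin n) (Fin n) F => P * (Y - 1) * V) e0
    simp only [add_sub_cancel_left, Matrix.mul_assoc] at e1
    rw [← Matrix.mul_assoc P V, hPV, Matrix.mul_one, Matrix.mul_one, Matrix.one_mul,
      ← Matrix.mul_assoc P V, hPV, Matrix.one_mul] at e1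
    exact Matrix.map_injective ι.injective (sub_left_injective e1)
  have hu : ∀ t v, app (f (uEl t)) v = v + ((-ι t * θ⁻¹) * H v p) • p := fun t v => by
    rw [hf, hact]
    simp [X, mul_assoc]
  have hl : ∀ t v, app (f (lEl t)) v = v + ((ι t * θ⁻¹) * H v r') • r' := fun t v => by
    rw [hf, hact]
    simp [X, mul_assoc]
  refine ⟨f, hinj, ?_, ?_⟩
  · ext x
    constructor
    · rintro ⟨u, hu', rfl⟩
      obtain ⟨t, rfl⟩ := mem_upper.1 hu'
      exact (mem_TU hp hpp).2 ⟨_, by rw [map_mul, map_neg, hι, map_inv₀, hθ', inv_neg]; ring, hu t⟩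
    · intro hx
      obtain ⟨c, hc, hcv⟩ := (mem_TU hp hpp).1 hx
      obtain ⟨t, ht⟩ := hι' (-(c * θ)) (by
        rw [map_neg, map_mul, hθ']
        linear_combination θ * hc)
      refine ⟨uEl t, mem_upper.2 ⟨_, rfl⟩, su_ext fun v => ?_⟩
      show app (f (uEl t)) v = app x v
      rw [hu, hcv, ht, neg_neg, mul_inv_cancel_right₀ hθ]
  · ext x
    constructor
    · rintro ⟨u, hu', rfl⟩
      obtain ⟨t, rfl⟩ := mem_lower.1 hu'
      exact (mem_TU hr'0 hr'r').2 ⟨_, by rw [map_mul, hι, map_inv₀, hθ', inv_neg]; ring, hl t⟩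
    · intro hx
      obtain ⟨c, hc, hcv⟩ := (mem_TU hr'0 hr'r').1 hx
      obtain ⟨t, ht⟩ := hι' (c * θ) (by
        rw [map_mul, hθ']
        linear_combination -θ * hc)
      refine ⟨lEl t, mem_lower.2 ⟨_, rfl⟩, su_ext fun v => ?_⟩
      show app (f (lEl t)) v = app x v
      rw [hl, hcv, ht, mul_inv_cancel_right₀ hθ]

/-- The family of all unitary transvection groups. -/
def family (F : Type*) [Field F] (q n : ℕ) : Set (Subgroup ↥(Cfsg.SU n F q)) :=
  {A | ∃ p : Fin n → F, p ≠ 0 ∧ Cfsg.hermForm n F q p p = 0 ∧ A = TU q p}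

omit hQ in
theorem exists_isotropic [QField F q] (m : ℕ) :
    ∃ p : Fin (m + 2) → F, p ≠ 0 ∧ Cfsg.hermForm (m + 2) F q p p = 0 := by
  obtain ⟨a, ha⟩ := exists_norm (F := F) (q := q) (c := -1) (by simp)
  refine ⟨Pi.single 0 1 + a • Pi.single 1 1, fun e => ?_, ?_⟩
  · have := congrFun e 0
    simp at this
  · rw [H_eq, Fin.sum_univ_succ, Fin.sum_univ_succ]
    simp [Pi.single_apply, Fin.succ_ne_zero, ha, Fin.ext_iff]

end SUEx

end Cfsg.Agent.RootLib
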