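import Cfsg.Agent.Lib.Root.RankOne

/-!
Sets of abstract root subgroups: basic lemmas, isolated vertices, components of the rank one graph.
-/

set_option autoImplicit false

namespace Cfsg.Agent.RootLib

open Cfsg

variable {G : Type*} [Group G] {S : Set (Subgroup G)}

theorem root_comm (hS : IsRootSubgroupSet S) {A : Subgroup G} (hA : A ∈ S) {a a' : G} (ha : a ∈ A)
    (ha' : a' ∈ A) : a * a' = a' * a :=
  congrArg Subtype.val ((hS.commutative A hA).is_comm.comm ⟨a, ha⟩ ⟨a', ha'⟩)

theorem exists_ne_one_of_mem (hS : IsRootSubgroupSet S) {A : Subgroup G} (hA : A ∈ S) :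
    ∃ a ∈ A, a ≠ 1 := by
  obtain ⟨⟨a, ha⟩, h⟩ := A.ne_bot_iff_exists_ne_one.1 (hS.ne_bot A hA)
  exact ⟨a, ha, fun e => h (Subtype.ext e)⟩

theorem commutatorCase_symm {A B : Subgroup G} (h : RootCommutatorCase S A B) :
    RootCommutatorCase S B A := by
  obtain ⟨hm, hc, ha, hb⟩ := h
  have hflip : ∀ (x : G) (C : Subgroup G), (fun a : G => x * a * x⁻¹ * a⁻¹) '' (C : Set G) =
      ((fun a : G => a * x * a⁻¹ * x⁻¹) '' (C : Set G))⁻¹ := by
    intro x C
    ext y
    simp only [Set.mem_image, Set.mem_inv, SetLike.mem_coe]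
    constructor
    · rintro ⟨a, haC, rfl⟩
      exact ⟨a, haC, by group⟩
    · rintro ⟨a, haC, he⟩
      exact ⟨a, haC, by rw [← inv_inv y, ← he]; group⟩
  have e : ⁅B, A⁆ = ⁅A, B⁆ := Subgroup.commutator_comm B A
  refine ⟨e ▸ hm, ?_, fun b hbB hb1 => ?_, fun a haA ha1 => ?_⟩
  · rw [e, sup_comm]; exact hc
  · rw [hflip, Subgroup.closure_inv, hb b hbB hb1, e]
  · rw [← inv_inv ((fun b : G => b * a * b⁻¹ * a⁻¹) '' (B : Set G)), ← hflip, Subgroup.closure_inv,
      ha a haA ha1, e]

/-- Members containing commuting non-identity elements commute, unless the second is centralised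
only partially. -/
theorem bracket_eq_bot_of_commute_left (hS : IsRootSubgroupSet S) {A B : Subgroup G} (hA : A ∈ S)
    (hB : B ∈ S) {a : G} (ha : a ∈ A) (ha1 : a ≠ 1) (hc : ∀ b ∈ B, a * b = b * a) : ⁅A, B⁆ = ⊥ := by
  rcases hS.pair A hA B hB with h | h | ⟨-, -, h, -⟩
  · exact h
  · exact absurd (eq_one_of_normalizes h ha (conjBy_eq_of_commute hc)) ha1
  · rw [← h a ha ha1, Subgroup.closure_eq_bot_iff]
    rintro _ ⟨b, hb, rfl⟩
    simp [hc b hb]

theorem bracket_eq_bot_of_commute (hS : IsRootSubgroupSet S) {A B : Subgroup G} (hA : A ∈ S)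
    (hB : B ∈ S) {a : G} (ha : a ∈ A) (ha1 : a ≠ 1) (hc : ∀ b ∈ B, a * b = b * a) :
    ∀ x ∈ A, ∀ y ∈ B, x * y = y * x :=
  bracket_eq_bot_iff.1 (bracket_eq_bot_of_commute_left hS hA hB ha ha1 hc)

theorem rankOne_of_not_commute (hS : IsRootSubgroupSet S) {A B : Subgroup G} (hA : A ∈ S)
    (hB : B ∈ S) (h : ⁅A, B⁆ ≠ ⊥) : IsRankOnePair A B ∨ RootCommutatorCase S A B :=
  (hS.pair A hA B hB).resolve_left h

theorem unipotent_mem_set (hS : IsRootSubgroupSet S) {A B C : Subgroup G} (hA : A ∈ S)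
    (hC : C ∈ unipotentSubgroups A B) : C ∈ S := by
  obtain ⟨x, -, rfl⟩ := hC
  exact hS.conj_mem A hA x

/-- Two different unipotent subgroups never commute. -/
theorem unipotent_eq_of_commute {A B C D : Subgroup G} (h : IsRankOnePair A B)
    (hC : C ∈ unipotentSubgroups A B) (hD : D ∈ unipotentSubgroups A B) (hc : ⁅C, D⁆ = ⊥) :
    C = D := by
  by_contra hne
  exact bracket_ne_bot (unipotent_rankOne h hC hD hne) hc

/-- Conjugates `e F e⁻¹` of a rank one partner do not commute with it. -/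
theorem conj_partner_not_commute {E F : Subgroup G} (h : IsRankOnePair E F) {e : G} (he : e ∈ E)
    (he1 : e ≠ 1) : ⁅conjBy F e, F⁆ ≠ ⊥ := fun hc =>
  he1 (eq_one_of_normalizes h he (unipotent_eq_of_commute h
    (unipotent_conj (unipotent_mem_B h) (Subgroup.mem_sup_left he)) (unipotent_mem_B h) hc))

/-- The main uniqueness lemma: `z e ∈ C` forces `C = E` and `z = 1`. -/
theorem eq_of_product_mem (hS : IsRootSubgroupSet S) {C E F : Subgroup G} (hC : C ∈ S) (hE : E ∈ S)
    (hF : F ∈ S) (hEF : IsRankOnePair E F) {z e : G} (he : e ∈ E) (he1 : e ≠ 1)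
    (hzE : ∀ x ∈ E, z * x = x * z) (hzF : ∀ x ∈ F, z * x = x * z) (hze : z * e ∈ C) :
    C = E ∧ z = 1 := by
  suffices hCE : C = E by
    refine ⟨hCE, eq_one_of_normalizes hEF ?_ (conjBy_eq_of_commute hzF)⟩
    rw [hCE] at hze
    simpa using E.mul_mem hze (E.inv_mem he)
  have hne : z * e ≠ 1 := by
    intro h0
    refine not_mem_normalizer hEF he he1 (conjBy_eq_iff_mem_normalizer.1 (conjBy_eq_of_commute ?_))
    intro x hx
    have he' : e = z⁻¹ := eq_inv_of_mul_eq_one_right h0
    rw [he']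
    exact (Commute.inv_left (hzF x hx : Commute z x))
  have hconj : ∀ x ∈ F, (z * e) * x * (z * e)⁻¹ = z * (e * x * e⁻¹) * z⁻¹ := fun x _ => by group
  have hcE : ⁅C, E⁆ = ⊥ := bracket_eq_bot_of_commute_left hS hC hE hze hne fun x hx => by
    rw [mul_assoc, root_comm hS hE he hx, ← mul_assoc, hzE x hx, mul_assoc]
  have hconjF : conjBy F (z * e)⁻¹ = conjBy F e⁻¹ := by
    rw [mul_inv_rev, ← conjBy_conjBy]
    congr 1
    exact conjBy_eq_of_commute fun x hx => Commute.inv_left (hzF x hx : Commute z x)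
  rcases hS.pair C hC F hF with h | h | h
  · exfalso
    refine not_mem_normalizer hEF he he1 (conjBy_eq_iff_mem_normalizer.1 ?_)
    have h1 : conjBy F (z * e) = F := conjBy_eq_of_commute fun x hx => bracket_eq_bot_iff.1 h _ hze x hx
    have h2 : conjBy F z⁻¹ = F :=
      conjBy_eq_of_commute fun x hx => Commute.inv_left (hzF x hx : Commute z x)
    calc conjBy F e = conjBy (conjBy F (z * e)) z⁻¹ := by rw [conjBy_conjBy, inv_mul_cancel_left]
      _ = F := by rw [h1, h2]
  · obtain ⟨f, hf, -, hfe⟩ := h.cond_left _ hze hne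
    obtain ⟨b, hb, -, hbe⟩ := hEF.cond_left e he he1
    rw [hconjF, ← hbe] at hfe
    have hCeq : C = conjBy E (f * b⁻¹) := by rw [eq_inv_conjBy hfe, inv_inv, conjBy_conjBy]
    rw [hCeq] at hcE ⊢
    exact unipotent_eq_of_commute hEF
      (unipotent_conj unipotent_mem_A (Subgroup.mem_sup_right (mul_mem hf (inv_mem hb))))
      unipotent_mem_A hcE
  · exfalso
    refine conj_partner_not_commute hEF he he1 (bracket_eq_bot_iff.2 ?_)
    intro y hy x hx
    obtain ⟨f, hf, rfl⟩ : ∃ f ∈ F, y = e * f * e⁻¹ :=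
      ⟨e⁻¹ * y * e, mem_conjBy.1 hy, by group⟩
    have hm : (z * e) * f * (z * e)⁻¹ * f⁻¹ ∈ ⁅C, F⁆ :=
      Subgroup.commutator_mem_commutator hze hf
    have hcx : Commute ((z * e) * f * (z * e)⁻¹ * f⁻¹) x := h.2.1 _ hm x (Subgroup.mem_sup_right hx)
    have hfx : Commute f x := root_comm hS hF hf hx
    have h3 : Commute ((z * e) * f * (z * e)⁻¹) x := by
      simpa using hcx.mul_left hfx
    rw [hconj f hf] at h3
    have hzx : Commute z x := hzF x hx
    have h4 : Commute (z⁻¹ * (z * (e * f * e⁻¹) * z⁻¹) * z) x :=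
      (hzx.inv_left.mul_left h3).mul_left hzx
    simpa [mul_assoc] using h4.eq

theorem not_isolated_exists {A : Subgroup G} (hA : ¬ IsIsolatedIn (FAdj S) S A) (hAS : A ∈ S) :
    ∃ B ∈ S, IsRankOnePair A B := by
  by_contra h
  push Not at h
  exact hA ⟨hAS, fun B => ⟨fun hh => h B hh.2.1 hh.2.2,
    fun hh => h B hh.1 (RankOnePair_symm hh.2.2)⟩⟩

/-- Non-isolated members are trivially intersecting. -/
theorem eq_of_inter (hS : IsRootSubgroupSet S) {A B F : Subgroup G} (hA : A ∈ S) (hB : B ∈ S)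
    (hF : F ∈ S) (hAF : IsRankOnePair A F) {a : G} (haA : a ∈ A) (haB : a ∈ B) (ha1 : a ≠ 1) :
    B = A :=
  (eq_of_product_mem hS hB hA hF hAF (z := 1) haA ha1 (fun _ _ => by simp) (fun _ _ => by simp)
    (by simpa using haB)).1

/-- A member inside a rank one group with a partner there is one of its unipotent subgroups. -/
theorem mem_unipotent_of_le (hS : IsRootSubgroupSet S) {A B C : Subgroup G} (hA : A ∈ S) (hB : B ∈ S)
    (hAB : IsRankOnePair A B) (hC : C ∈ S) (hCX : C ≤ A ⊔ B) {D : Subgroup G} (hDX : D ≤ A ⊔ B)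
    (hCD : IsRankOnePair C D) : C ∈ unipotentSubgroups A B := by
  obtain ⟨c, hc, hc1⟩ := exists_ne_one_of_mem hS hC
  -- if `c` commutes with some unipotent subgroup then `C` is that subgroup
  have step1 : ∀ E ∈ unipotentSubgroups A B, (∀ x ∈ E, c * x = x * c) →
      C ∈ unipotentSubgroups A B := by
    intro E hE hcE
    obtain ⟨F, hF, hne⟩ : ∃ F ∈ unipotentSubgroups A B, E ≠ F := by
      by_cases e : E = A
      · exact ⟨B, unipotent_mem_B hAB, e ▸ hAB.ne⟩
      · exact ⟨A, unipotent_mem_A, e⟩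
    have hEF := unipotent_rankOne hAB hE hF hne
    have hsup := unipotent_sup hAB hE hF hne
    obtain ⟨e, he, z, hz, hce⟩ := centralizer_unipotent hEF
      (hS.commutative E (unipotent_mem_set hS hA hE)) (hsup ▸ hCX hc) hcE
    by_cases he1 : e = 1
    · exfalso
      refine hc1 (eq_one_of_normalizes hCD hc (conjBy_eq_of_commute fun x hx => ?_))
      rw [hce, he1, one_mul]
      exact hz x (hsup ▸ hDX hx)
    · rw [hce, ← hz e (Subgroup.mem_sup_left he)] at hc
      rw [(eq_of_product_mem hS hC (unipotent_mem_set hS hA hE) (unipotent_mem_set hS hA hF) hEF he he1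
        (fun x hx => hz x (Subgroup.mem_sup_left hx)) (fun x hx => hz x (Subgroup.mem_sup_right hx))
        hc).1]
      exact hE
  rcases hS.pair C hC A hA with h | h | h
  · exact step1 A unipotent_mem_A (bracket_eq_bot_iff.1 h c hc)
  · obtain ⟨a, ha, -, he⟩ := h.cond_left c hc hc1
    rw [eq_inv_conjBy he, inv_inv, conjBy_conjBy]
    exact unipotent_conj unipotent_mem_A
      (mul_mem (Subgroup.mem_sup_left ha) (inv_mem (hCX hc)))
  · -- `c A c⁻¹` commutes with `A`, hence equals it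
    have hcA : conjBy A c = A := by
      refine unipotent_eq_of_commute hAB (unipotent_conj unipotent_mem_A (hCX hc)) unipotent_mem_A
        (bracket_eq_bot_iff.2 fun y hy x hx => ?_)
      have hy' := mem_conjBy.1 hy
      have hk : c * (c⁻¹ * y * c) * c⁻¹ * (c⁻¹ * y * c)⁻¹ ∈ ⁅C, A⁆ :=
        Subgroup.commutator_mem_commutator hc hy'
      have h1 : Commute (c * (c⁻¹ * y * c) * c⁻¹ * (c⁻¹ * y * c)⁻¹) x :=
        h.2.1 _ hk x (Subgroup.mem_sup_right hx)
      have h2 : Commute (c⁻¹ * y * c) x := root_comm hS hA hy' hx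
      simpa [mul_assoc] using (h1.mul_left h2).eq
    -- so `[C, A]` consists of elements of `A` centralising `A ⊔ B`, hence is trivial
    refine step1 A unipotent_mem_A fun x hx => ?_
    have hk : c * x * c⁻¹ * x⁻¹ ∈ ⁅C, A⁆ := Subgroup.commutator_mem_commutator hc hx
    have hkA : c * x * c⁻¹ * x⁻¹ ∈ A := mul_mem (hcA ▸ conjBy_mem_conjBy hx) (inv_mem hx)
    by_contra hne
    have hk1 : c * x * c⁻¹ * x⁻¹ ≠ 1 := fun e => hne (commutatorElement_eq_one_iff_mul_comm.1 e)
    have h0 : ⁅A, C⁆ = ⊥ := bracket_eq_bot_of_commute_left hS hA hC hkA hk1 fun w hw =>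
      h.2.1 _ hk w (Subgroup.mem_sup_left hw)
    exact hS.ne_bot _ h.1 (bracket_eq_bot_symm h0)

/-- A non-commuting commuting-product keeps the rank one partner: if `a ∈ A`, `A ~ F`, `c` commutes
with `A` and `ac ∈ D`, where `[c, F]` is central, then `D ~ F`. -/
theorem rankOne_of_product (hS : IsRootSubgroupSet S) {A F C D : Subgroup G} (hA : A ∈ S) (hF : F ∈ S)
    (hC : C ∈ S) (hD : D ∈ S) (hAF : IsRankOnePair A F) {a c : G} (ha : a ∈ A) (ha1 : a ≠ 1)
    (hc : c ∈ C) (hcA : ∀ x ∈ A, c * x = x * c) (hCF : RootCommutatorCase S C F)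
    (hd : a * c ∈ D) : IsRankOnePair D F := by
  have hd' : c * a ∈ D := by rw [hcA a ha]; exact hd
  have hFc : conjBy F c ∈ S := hS.conj_mem F hF c
  -- `c F c⁻¹` commutes with `F`
  have hcf : ∀ f ∈ F, ∀ x ∈ F, Commute (c * f * c⁻¹) x := fun f hf x hx => by
    have h1 : Commute (c * f * c⁻¹ * f⁻¹) x :=
      hCF.2.1 _ (Subgroup.commutator_mem_commutator hc hf) x (Subgroup.mem_sup_right hx)
    simpa using h1.mul_left (root_comm hS hF hf hx : Commute f x)
  rcases hS.pair D hD F hF with h | h | h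
  · -- `a` and `c⁻¹` act alike on `F`
    exfalso
    refine conj_partner_not_commute hAF ha ha1 (bracket_eq_bot_iff.2 fun y hy x hx => ?_)
    have hf := mem_conjBy.1 hy
    set f := a⁻¹ * y * a with hfdef
    have h1 : (c * a) * f * (c * a)⁻¹ = f := by
      rw [bracket_eq_bot_iff.1 h _ hd' f hf, mul_inv_cancel_right]
    have h2 : c * y * c⁻¹ = f := by rw [← h1, hfdef]; group
    have h3 : conjBy F c⁻¹ ∈ S := hS.conj_mem F hF c⁻¹
    have h4 : Commute (c * x * c⁻¹) f := hcf x hx f hf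
    rw [← h2] at h4
    have : c * (x * y) * c⁻¹ = c * (y * x) * c⁻¹ := by
      calc c * (x * y) * c⁻¹ = (c * x * c⁻¹) * (c * y * c⁻¹) := by group
        _ = (c * y * c⁻¹) * (c * x * c⁻¹) := h4.eq
        _ = c * (y * x) * c⁻¹ := by group
    exact (mul_left_cancel (mul_right_cancel this)).symm
  · exact h
  · exfalso
    -- `c F c⁻¹` centralises `F` and `a⁻¹ F a`, hence `A`
    have hkey : ∀ f ∈ F, ∀ x ∈ F, Commute (c * f * c⁻¹) (a⁻¹ * x * a) := fun f hf x hx => by
      have h1 : Commute ((a * c) * f * (a * c)⁻¹ * f⁻¹) x :=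
        h.2.1 _ (Subgroup.commutator_mem_commutator hd hf) x (Subgroup.mem_sup_right hx)
      have h2 : Commute ((a * c) * f * (a * c)⁻¹) x := by
        simpa using h1.mul_left (root_comm hS hF hf hx : Commute f x)
      have h4 : a⁻¹ * ((a * c) * f * (a * c)⁻¹ * x) * a = a⁻¹ * (x * ((a * c) * f * (a * c)⁻¹)) * a := by
        rw [h2.eq]
      show (c * f * c⁻¹) * (a⁻¹ * x * a) = (a⁻¹ * x * a) * (c * f * c⁻¹)
      calc _ = a⁻¹ * ((a * c) * f * (a * c)⁻¹ * x) * a := by group
        _ = a⁻¹ * (x * ((a * c) * f * (a * c)⁻¹)) * a := h4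
        _ = _ := by group
    have hne : conjBy F a⁻¹ ≠ F := fun e => inv_ne_one.2 ha1 (eq_one_of_normalizes hAF (inv_mem ha) e)
    have hsup := unipotent_sup hAF (unipotent_conj (unipotent_mem_B hAF)
      (inv_mem (Subgroup.mem_sup_left ha))) (unipotent_mem_B hAF) hne
    refine bracket_ne_bot hAF (bracket_eq_bot_iff.2 fun x hx f hf => ?_)
    have hle : A ⊔ F ≤ Subgroup.centralizer {c * f * c⁻¹} := by
      rw [← hsup]
      refine sup_le (fun y hy => ?_) (fun y hy => ?_) <;> rw [Subgroup.mem_centralizer_singleton_iff]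
      · have := hkey f hf _ (mem_conjBy.1 hy)
        simpa [mul_assoc] using this.symm.eq
      · exact (hcf f hf y hy).symm.eq
    have h5 := Subgroup.mem_centralizer_singleton_iff.1 (hle (Subgroup.mem_sup_left hx))
    have h6 : c * (x * f) * c⁻¹ = c * (f * x) * c⁻¹ := by
      calc c * (x * f) * c⁻¹ = x * (c * f * c⁻¹) := by rw [← mul_assoc c, hcA x hx]; group
        _ = (c * f * c⁻¹) * x := h5
        _ = c * f * c⁻¹ * x * c * c⁻¹ := by group
        _ = c * f * (c⁻¹ * (x * c)) * c⁻¹ := by group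
        _ = c * f * (c⁻¹ * (c * x)) * c⁻¹ := by rw [hcA x hx]
        _ = c * (f * x) * c⁻¹ := by group
    exact mul_left_cancel (mul_right_cancel h6)

theorem fadj_symm {A B : Subgroup G} (h : FAdj S A B) : FAdj S B A :=
  ⟨h.2.1, h.1, RankOnePair_symm h.2.2⟩

theorem reach_symm {A B : Subgroup G} (h : Relation.ReflTransGen (FAdj S) A B) :
    Relation.ReflTransGen (FAdj S) B A := by
  induction h with
  | refl => exact Relation.ReflTransGen.refl
  | tail _ h2 ih => exact Relation.ReflTransGen.head (fadj_symm h2) ih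

theorem componentOf_eq {A B : Subgroup G} (h : Relation.ReflTransGen (FAdj S) A B) :
    componentOf (FAdj S) S A = componentOf (FAdj S) S B := by
  ext C
  exact ⟨fun hC => ⟨hC.1, (reach_symm h).trans hC.2⟩, fun hC => ⟨hC.1, h.trans hC.2⟩⟩

/-- Line partners with rank one partners lie in one component. -/
theorem reach_of_product (hS : IsRootSubgroupSet S) {A B D FA FB : Subgroup G} (hA : A ∈ S)
    (hB : B ∈ S) (hD : D ∈ S) (hFA : FA ∈ S) (hFB : FB ∈ S) (hAF : IsRankOnePair A FA)
    (hBF : IsRankOnePair B FB) (hAB : ⁅A, B⁆ = ⊥) (hne : A ≠ B) {a b : G} (ha : a ∈ A) (ha1 : a ≠ 1)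
    (hb : b ∈ B) (hb1 : b ≠ 1) (hd : a * b ∈ D) (hDA : D ≠ A) (hDB : D ≠ B) :
    Relation.ReflTransGen (FAdj S) A B := by
  have hab : ∀ x ∈ A, ∀ y ∈ B, x * y = y * x := bracket_eq_bot_iff.1 hAB
  have h1 : Relation.ReflTransGen (FAdj S) A B ∨ IsRankOnePair D FA := by
    rcases hS.pair B hB FA hFA with h | h | h
    · refine absurd (eq_of_product_mem hS hD hA hFA hAF (z := b) ha ha1
        (fun x hx => (hab x hx b hb).symm) (bracket_eq_bot_iff.1 h b hb)
        (by rw [← hab a ha b hb]; exact hd)).1 hDA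
    · exact Or.inl (Relation.ReflTransGen.tail (.single ⟨hA, hFA, hAF⟩)
        ⟨hFA, hB, RankOnePair_symm h⟩)
    · exact Or.inr (rankOne_of_product hS hA hFA hB hD hAF ha ha1 hb
        (fun x hx => (hab x hx b hb).symm) h hd)
  have h2 : Relation.ReflTransGen (FAdj S) A B ∨ IsRankOnePair D FB := by
    rcases hS.pair A hA FB hFB with h | h | h
    · refine absurd (eq_of_product_mem hS hD hB hFB hBF (z := a) hb hb1
        (hab a ha) (bracket_eq_bot_iff.1 h a ha) hd).1 hDB
    · exact Or.inl (Relation.ReflTransGen.tail (.single ⟨hA, hFB, h⟩)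
        ⟨hFB, hB, RankOnePair_symm hBF⟩)
    · exact Or.inr (rankOne_of_product hS hB hFB hA hD hBF hb hb1 ha
        (hab a ha) h (by rw [← hab a ha b hb]; exact hd))
  rcases h1 with h1 | h1
  · exact h1
  rcases h2 with h2 | h2
  · exact h2
  exact (((Relation.ReflTransGen.single ⟨hA, hFA, hAF⟩).tail ⟨hFA, hD, RankOnePair_symm h1⟩).tail
    ⟨hD, hFB, h2⟩).tail ⟨hFB, hB, RankOnePair_symm hBF⟩

/-- Conjugation by root elements preserves components. -/
theorem conj_reach (hS : IsRootSubgroupSet S) {A B F : Subgroup G} (hA : A ∈ S) (hB : B ∈ S)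
    (hF : F ∈ S) (hAF : IsRankOnePair A F) {b : G} (hb : b ∈ B) :
    Relation.ReflTransGen (FAdj S) A (conjBy A b) := by
  have hAb := hS.conj_mem A hA b
  rcases hS.pair A hA B hB with h | h | h
  · rw [conjBy_eq_of_commute fun a ha => (bracket_eq_bot_iff.1 h a ha b hb).symm]
  · refine (Relation.ReflTransGen.single ⟨hA, hB, h⟩).tail ⟨hB, hAb, RankOnePair_symm ?_⟩
    have h1 := isRankOnePair_conj h b
    rwa [conjBy_eq_self_of_mem hb] at h1
  · by_cases hAA : conjBy A b = A
    · rw [hAA]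
    obtain ⟨a, ha, ha1⟩ := exists_ne_one_of_mem hS hA
    set c := b * a * b⁻¹ * a⁻¹ with hcdef
    have hc : c ∈ ⁅A, B⁆ := by
      rw [Subgroup.commutator_comm]
      exact Subgroup.commutator_mem_commutator hb ha
    set C := ⁅A, B⁆
    have hd : a * c ∈ conjBy A b := by
      rw [← h.2.1 c hc a (Subgroup.mem_sup_left ha), hcdef, inv_mul_cancel_right]
      exact conjBy_mem_conjBy ha
    have hcA : ∀ x ∈ A, c * x = x * c := fun x hx => h.2.1 c hc x (Subgroup.mem_sup_left hx)
    by_cases hc1 : c = 1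
    · rw [hc1, mul_one] at hd
      exact absurd (eq_of_inter hS hA hAb hF hAF ha hd ha1) hAA
    rcases hS.pair C h.1 F hF with h' | h' | h'
    · refine absurd (eq_of_product_mem hS hAb hA hF hAF (z := c) ha ha1 hcA
        (bracket_eq_bot_iff.1 h' c hc) (by rw [hcA a ha]; exact hd)).1 hAA
    · have hF2 := isRankOnePair_conj hAF b
      by_cases hCA : C = A
      · exfalso
        rw [hCA] at hc
        have h9 : a * c ∈ A := A.mul_mem ha hc
        by_cases hac : a * c = 1
        · have : b * a * b⁻¹ = a * c := by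
            rw [← hcA a ha, hcdef, inv_mul_cancel_right]
          rw [hac] at this
          exact ha1 (conj_eq_one_iff.1 this)
        exact hAA (eq_of_inter hS hA hAb hF hAF h9 hd hac)
      by_cases hDC : conjBy A b = C
      · rw [hDC]
        exact (Relation.ReflTransGen.single ⟨hA, hF, hAF⟩).tail ⟨hF, h.1, RankOnePair_symm h'⟩
      have hAC : ⁅A, C⁆ = ⊥ := bracket_eq_bot_iff.2 fun x hx y hy =>
        (h.2.1 y hy x (Subgroup.mem_sup_left hx)).symm
      have := reach_of_product hS hA h.1 hAb hF hF hAF h' hAC (Ne.symm hCA) ha ha1 hc hc1 hd hAA hDC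
      -- `C` lies in the component of `A`; transport along the product
      obtain ⟨x, hx, hx1⟩ : ∃ x ∈ conjBy A b, x ≠ 1 := exists_ne_one_of_mem hS hAb
      have hdc : (a * c) * c⁻¹ ∈ A := by rw [mul_inv_cancel_right]; exact ha
      have hDC' : ⁅conjBy A b, C⁆ = ⊥ := bracket_eq_bot_iff.2 fun x hx y hy => by
        have hx' := mem_conjBy.1 hx
        have h1 : Commute y (b⁻¹ * x * b) := h.2.1 y hy _ (Subgroup.mem_sup_left hx')
        have h2 : Commute y b := h.2.1 y hy b (Subgroup.mem_sup_right hb)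
        have h3 : Commute y (b * (b⁻¹ * x * b) * b⁻¹) := (h2.mul_right h1).mul_right h2.inv_right
        simpa [mul_assoc] using h3.eq.symm
      have hac : a * c ≠ 1 := by
        intro e
        have : b * a * b⁻¹ = a * c := by
          rw [← hcA a ha, hcdef, inv_mul_cancel_right]
        rw [e] at this
        exact ha1 (conj_eq_one_iff.1 this)
      exact this.trans (reach_symm (reach_of_product hS hAb h.1 hA (hS.conj_mem F hF b) hF hF2 h'
        hDC' hDC hd hac (inv_mem hc) (inv_ne_one.2 hc1) hdc (Ne.symm hAA) (Ne.symm hCA)))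
    · exact (Relation.ReflTransGen.single ⟨hA, hF, hAF⟩).tail
        ⟨hF, hAb, RankOnePair_symm (rankOne_of_product hS hA hF h.1 hAb hAF ha ha1 hc hcA h' hd)⟩

/-- Commuting elements of the two sides of a rank one pair. -/
theorem eq_one_of_commute_pair {A B : Subgroup G} (h : IsRankOnePair A B) {a b : G} (ha : a ∈ A)
    (hb : b ∈ B) (hab : a * b = b * a) (ha1 : a ≠ 1) : b = 1 := by
  obtain ⟨b', hb', -, he⟩ := h.cond_left a ha ha1
  have h1 : conjBy (conjBy B a⁻¹) b = conjBy B a⁻¹ := by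
    have h2 : Commute b a⁻¹ := (Commute.inv_left (hab : Commute a b)).symm
    rw [conjBy_conjBy, h2.eq, ← conjBy_conjBy, conjBy_eq_self_of_mem hb]
  rw [← he, conjBy_conjBy] at h1
  have h3 : conjBy A (b' * b * b'⁻¹) = A := by
    rw [mul_assoc, ← conjBy_conjBy, h1, conjBy_cancel_inv]
  have h4 := eq_one_of_normalizes (RankOnePair_symm h) (mul_mem (mul_mem hb' hb) (inv_mem hb')) h3
  exact conj_eq_one_iff.1 h4

/-- A central element times a root element is a root element only trivially. -/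
theorem central_eq_one (hS : IsRootSubgroupSet S) {A C F : Subgroup G} (hA : A ∈ S) (hC : C ∈ S)
    (hF : F ∈ S) (hAF : IsRankOnePair A F) {w a : G} (ha : a ∈ A) (ha1 : a ≠ 1)
    (hw : ∀ g, w * g = g * w) (hwa : w * a ∈ C) : w = 1 :=
  (eq_of_product_mem hS hC hA hF hAF ha ha1 (fun x _ => hw x) (fun x _ => hw x) hwa).2

end Cfsg.Agent.RootLib
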