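import Cfsg.Agent.Lib.Root.Examples
import Cfsg.Agent.Lib.Root.Nondeg
import Cfsg.Prelude.Def_Classical

/-!
Siegel transvection groups of the singular lines of a hyperbolic quadratic space as abstract root
subgroups.
-/

set_option autoImplicit false

namespace Cfsg.Agent.RootLib.SiegelEx

open Cfsg Matrix

variable {F : Type*} [Field F] {n : ℕ}

local notation "E" => Fin n ⊕ Fin n → F
set_option quotPrecheck false in
local notation "Gr" => ↥(Cfsg.isometryGroup F (Cfsg.quadFormPlus n F))
local notation "Qf" => Cfsg.quadFormPlus n F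

/-- The polar form. -/
def bil (u v : E) : F := ∑ i, (u (.inl i) * v (.inr i) + u (.inr i) * v (.inl i))

theorem bil_add_left (u u' v : E) : bil (u + u') v = bil u v + bil u' v := by
  simp only [bil, Pi.add_apply, ← Finset.sum_add_distrib]
  exact Finset.sum_congr rfl fun i _ => by ring

theorem bil_smul_left (c : F) (u v : E) : bil (c • u) v = c * bil u v := by
  simp only [bil, Pi.smul_apply, smul_eq_mul, Finset.mul_sum]
  exact Finset.sum_congr rfl fun i _ => by ring

theorem bil_comm (u v : E) : bil u v = bil v u := Finset.sum_congr rfl fun i _ => by ring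

theorem bil_add_right (u v v' : E) : bil u (v + v') = bil u v + bil u v' := by
  rw [bil_comm, bil_add_left, bil_comm v, bil_comm v']

theorem bil_smul_right (c : F) (u v : E) : bil u (c • v) = c * bil u v := by
  rw [bil_comm, bil_smul_left, bil_comm]

theorem bil_neg_left (u v : E) : bil (-u) v = -bil u v := by
  rw [← neg_one_smul F u, bil_smul_left]; ring

theorem bil_neg_right (u v : E) : bil u (-v) = -bil u v := by
  rw [bil_comm, bil_neg_left, bil_comm]

theorem bil_sub_left (u u' v : E) : bil (u - u') v = bil u v - bil u' v := by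
  rw [sub_eq_add_neg, bil_add_left, bil_neg_left]; ring

theorem bil_sub_right (u v v' : E) : bil u (v - v') = bil u v - bil u v' := by
  rw [bil_comm, bil_sub_left, bil_comm v, bil_comm v']

@[simp] theorem bil_zero_left (v : E) : bil (0 : E) v = 0 := by simp [bil]

@[simp] theorem bil_zero_right (v : E) : bil v (0 : E) = 0 := by simp [bil]

theorem Q_add (u v : E) : Qf (u + v) = Qf u + Qf v + bil u v := by
  simp only [Cfsg.quadFormPlus, bil, Pi.add_apply, ← Finset.sum_add_distrib]
  exact Finset.sum_congr rfl fun i _ => by ring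

theorem Q_smul (c : F) (u : E) : Qf (c • u) = c ^ 2 * Qf u := by
  simp only [Cfsg.quadFormPlus, Pi.smul_apply, smul_eq_mul, Finset.mul_sum]
  exact Finset.sum_congr rfl fun i _ => by ring

theorem bil_self {u : E} (h : Qf u = 0) : bil u u = 0 := by
  have := Q_add u u
  rw [← two_smul F u, Q_smul, h] at this
  linear_combination -this

theorem cond_iff {p : E} (v : E) : Qf (v + p) - Qf v - Qf p = bil v p := by
  rw [Q_add]; ring

/-- The bilinear form as a linear map in the first variable. -/
def bl (p : E) : (Fin n ⊕ Fin n → F) →ₗ[F] F where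
  toFun v := bil v p
  map_add' u v := bil_add_left u v p
  map_smul' c v := by rw [bil_smul_left]; rfl

@[simp] theorem bl_apply (p v : E) : bl p v = bil v p := rfl

theorem eq_zero_of_bil {a : E} (h : ∀ v, bil v a = 0) : a = 0 := by
  funext x
  rcases x with i | i
  · have := h (Pi.single (.inr i) 1)
    simpa [bil, Pi.single_apply] using this
  · have := h (Pi.single (.inl i) 1)
    simpa [bil, Pi.single_apply] using this

theorem exists_dual {k : ℕ} {f : Fin k → E} (hf : LinearIndependent F f) (c : Fin k → F) :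
    ∃ v : E, ∀ i, bil v (f i) = c i := by
  obtain ⟨Φ, hΦ⟩ : ∃ Φ : (Fin n ⊕ Fin n → F) →ₗ[F] (Fin k → F), Φ = LinearMap.pi fun i => bl (f i) :=
    ⟨_, rfl⟩
  have htop : LinearMap.range Φ = ⊤ := by
    by_contra hne
    obtain ⟨φ, hφ, hle⟩ := Submodule.exists_le_ker_of_lt_top _ (lt_top_iff_ne_top.2 hne)
    have hz : ∀ v : E, ∑ i, bil v (f i) * φ (Pi.single i 1) = 0 := fun v => by
      have h1 : φ (Φ v) = 0 := hle ⟨v, rfl⟩
      rw [pi_eq_sum_univ' (Φ v), map_sum] at h1
      simpa [hΦ] using h1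
    have hsum : ∑ i, φ (Pi.single i 1) • f i = 0 := eq_zero_of_bil fun v => by
      rw [show bil v (∑ i, φ (Pi.single i 1) • f i) = bl v (∑ i, φ (Pi.single i 1) • f i) from
        (bil_comm _ _).trans rfl, map_sum]
      refine Eq.trans (Finset.sum_congr rfl fun i _ => ?_) (hz v)
      rw [map_smul, bl_apply, bil_comm, smul_eq_mul, mul_comm]
    refine hφ (LinearMap.ext fun x => ?_)
    rw [pi_eq_sum_univ' x, map_sum, LinearMap.zero_apply]
    exact Finset.sum_eq_zero fun i _ => by
      rw [map_smul, Fintype.linearIndependent_iff.1 hf _ hsum i, smul_zero]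
  obtain ⟨v, hv⟩ := (LinearMap.range_eq_top.1 htop) c
  exact ⟨v, fun i => by rw [← hv, hΦ]; rfl⟩

theorem indep_pair {p r : E} (h : ∀ a b : F, a • p + b • r = 0 → a = 0 ∧ b = 0) :
    LinearIndependent F ![p, r] :=
  LinearIndependent.pair_iff.2 h

/-- The action. -/
def ap (g : Gr) (v : E) : E :=
  ((g : Matrix.GeneralLinearGroup (Fin n ⊕ Fin n) F) : Matrix (Fin n ⊕ Fin n) (Fin n ⊕ Fin n) F) *ᵥ v

theorem ap_mul (g h : Gr) (v : E) : ap (g * h) v = ap g (ap h v) := by
  simp [ap, Matrix.mulVec_mulVec]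

theorem ap_one (v : E) : ap (1 : Gr) v = v := by simp [ap]

theorem ap_ext {g h : Gr} (e : ∀ v, ap g v = ap h v) : g = h :=
  Subtype.ext (Units.ext (Matrix.ext_iff_mulVec.2 e))

theorem ap_inv (g : Gr) (v : E) : ap g⁻¹ (ap g v) = v := by rw [← ap_mul, inv_mul_cancel, ap_one]

theorem ap_inv' (g : Gr) (v : E) : ap g (ap g⁻¹ v) = v := by rw [← ap_mul, mul_inv_cancel, ap_one]

theorem ap_add (g : Gr) (u v : E) : ap g (u + v) = ap g u + ap g v := Matrix.mulVec_add _ _ _

theorem ap_sub (g : Gr) (u v : E) : ap g (u - v) = ap g u - ap g v := Matrix.mulVec_sub _ _ _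

theorem ap_smul (g : Gr) (c : F) (v : E) : ap g (c • v) = c • ap g v := Matrix.mulVec_smul _ _ _

theorem ap_Q (g : Gr) (v : E) : Qf (ap g v) = Qf v := g.2 v v

theorem ap_bil (g : Gr) (u v : E) : bil (ap g u) (ap g v) = bil u v := by
  have := ap_Q g (u + v)
  rw [ap_add, Q_add, Q_add, ap_Q, ap_Q] at this
  exact add_left_cancel this

/-- The Siegel transvection group of the line of `p` and `r`. -/
def SG (p r : E) : Subgroup Gr :=
  Subgroup.closure {σ | ∀ v : E, Qf (v + p) - Qf v - Qf p = 0 → Qf (v + r) - Qf v - Qf r = 0 →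
    ((σ : Matrix.GeneralLinearGroup (Fin n ⊕ Fin n) F) :
      Matrix (Fin n ⊕ Fin n) (Fin n ⊕ Fin n) F) *ᵥ v = v}

/-- A singular line, by a basis. -/
structure IsSLine (p r : E) : Prop where
  li : LinearIndependent F ![p, r]
  left : Cfsg.quadFormPlus n F p = 0
  right : Cfsg.quadFormPlus n F r = 0
  orth : bil p r = 0

theorem IsSLine.swap {p r : E} (h : IsSLine p r) : IsSLine r p :=
  ⟨LinearIndependent.pair_symm_iff.1 h.li, h.right, h.left, (bil_comm r p).trans h.orth⟩

theorem IsSLine.ne_left {p r : E} (h : IsSLine p r) : p ≠ 0 := h.li.ne_zero 0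

theorem IsSLine.ne_right {p r : E} (h : IsSLine p r) : r ≠ 0 := h.li.ne_zero 1

theorem SG_eq {p r p' r' : E} (h : ∀ v, (bil v p = 0 ∧ bil v r = 0) ↔ (bil v p' = 0 ∧ bil v r' = 0)) :
    SG p r = SG p' r' := by
  unfold SG
  congr 1
  ext σ
  simp only [Set.mem_ofPred_eq, cond_iff]
  exact ⟨fun hs v h1 h2 => hs v ((h v).2 ⟨h1, h2⟩).1 ((h v).2 ⟨h1, h2⟩).2,
    fun hs v h1 h2 => hs v ((h v).1 ⟨h1, h2⟩).1 ((h v).1 ⟨h1, h2⟩).2⟩

theorem SG_swap (p r : E) : SG p r = SG r p := SG_eq fun _ => And.comm

theorem SG_change {p r : E} (h : IsSLine p r) {a b c d : F} (hdet : a * d - b * c ≠ 0) :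
    IsSLine (a • p + b • r) (c • p + d • r) ∧ SG (a • p + b • r) (c • p + d • r) = SG p r := by
  refine ⟨⟨indep_pair fun x y e => ?_, ?_, ?_, ?_⟩, SG_eq fun v => ?_⟩
  · obtain ⟨h1, h2⟩ := LinearIndependent.pair_iff.1 h.li (x * a + y * c) (x * b + y * d)
      (by rw [← e]; module)
    constructor
    · exact (mul_eq_zero.1 (by linear_combination d * h1 - c * h2 : x * (a * d - b * c) = 0)).resolve_right hdet
    · exact (mul_eq_zero.1 (by linear_combination a * h2 - b * h1 : y * (a * d - b * c) = 0)).resolve_right hdet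
  · rw [Q_add, Q_smul, Q_smul, h.left, h.right, bil_smul_left, bil_smul_right, h.orth]; ring
  · rw [Q_add, Q_smul, Q_smul, h.left, h.right, bil_smul_left, bil_smul_right, h.orth]; ring
  · simp only [bil_add_left, bil_add_right, bil_smul_left, bil_smul_right, h.orth, bil_comm r p,
      bil_self h.left, bil_self h.right]
    ring
  · simp only [bil_add_right, bil_smul_right]
    constructor
    · rintro ⟨h1, h2⟩
      constructor
      · exact (mul_eq_zero.1 (by linear_combination d * h1 - b * h2 :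
          bil v p * (a * d - b * c) = 0)).resolve_right hdet
      · exact (mul_eq_zero.1 (by linear_combination a * h2 - c * h1 :
          bil v r * (a * d - b * c) = 0)).resolve_right hdet
    · rintro ⟨h1, h2⟩
      rw [h1, h2]
      simp

theorem mem_SG {p r : E} (h : IsSLine p r) {g : Gr} :
    g ∈ SG p r ↔ ∃ c : F, ∀ v, ap g v = v + (c * bil v r) • p - (c * bil v p) • r := by
  constructor
  · intro hg
    induction hg using Subgroup.closure_induction with
    | mem g hg =>
      obtain ⟨x, hx⟩ := exists_dual h.li ![1, 0]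
      obtain ⟨y, hy⟩ := exists_dual h.li ![0, 1]
      have hxp : bil x p = 1 := hx 0
      have hxr : bil x r = 0 := hx 1
      have hyp : bil y p = 0 := hy 0
      have hyr : bil y r = 1 := hy 1
      have hfix : ∀ v : E, bil v p = 0 → bil v r = 0 → ap g v = v := fun v h1 h2 =>
        hg v (by rw [cond_iff]; exact h1) (by rw [cond_iff]; exact h2)
      have hker : ∀ v : E, bil (v - bil v p • x - bil v r • y) p = 0 ∧
          bil (v - bil v p • x - bil v r • y) r = 0 := fun v => by
        constructor <;> simp [bil_sub_left, bil_smul_left, hxp, hxr, hyp, hyr]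
      have hdec : ∀ v : E, ap g v = v + bil v p • (ap g x - x) + bil v r • (ap g y - y) := fun v => by
        have := hfix _ (hker v).1 (hker v).2
        rw [ap_sub, ap_sub, ap_smul, ap_smul, sub_eq_iff_eq_add, sub_eq_iff_eq_add] at this
        rw [this]
        module
      -- the displacement of any vector lies on the line
      have hline : ∀ z : E, ap g z - z = bil (ap g z - z) x • p + bil (ap g z - z) y • r := fun z => by
        rw [← sub_eq_zero]
        refine eq_zero_of_bil fun v => ?_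
        obtain ⟨k1, k2⟩ := hker v
        have hk : bil (v - bil v p • x - bil v r • y) (ap g z - z) = 0 := by
          rw [bil_sub_right]
          nth_rewrite 1 [← hfix _ k1 k2]
          rw [ap_bil, sub_self]
        simp only [bil_sub_left, bil_smul_left] at hk
        simp only [bil_sub_right (u := v) (v := ap g z - z), bil_add_right, bil_smul_right,
          bil_comm (ap g z - z) x, bil_comm (ap g z - z) y]
        linear_combination hk
      obtain ⟨α, β, hα⟩ : ∃ α β : F, ap g x = x + (α • p + β • r) :=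
        ⟨_, _, by rw [← hline x, add_sub_cancel]⟩
      obtain ⟨γ, δ, hγ⟩ : ∃ γ δ : F, ap g y = y + (γ • p + δ • r) :=
        ⟨_, _, by rw [← hline y, add_sub_cancel]⟩
      have hp2 : bil p p = 0 := bil_self h.left
      have hr2 : bil r r = 0 := bil_self h.right
      have hrp : bil r p = 0 := (bil_comm r p).trans h.orth
      have e1 := ap_Q g x
      rw [hα, Q_add, Q_add, Q_smul, Q_smul, h.left, h.right] at e1
      simp only [bil_add_right, bil_smul_right, bil_smul_left, hxp, hxr, h.orth] at e1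
      have e2 := ap_Q g y
      rw [hγ, Q_add, Q_add, Q_smul, Q_smul, h.left, h.right] at e2
      simp only [bil_add_right, bil_smul_right, bil_smul_left, hyp, hyr, h.orth] at e2
      have e3 := ap_bil g x y
      rw [hα, hγ] at e3
      simp only [bil_add_left, bil_add_right, bil_smul_left, bil_smul_right, hxp, hxr, h.orth, hp2, hr2,
        hrp, bil_comm p y, bil_comm r y, hyp, hyr] at e3
      have hα0 : α = 0 := by linear_combination e1
      have hδ0 : δ = 0 := by linear_combination e2
      have hβγ : β = -γ := by linear_combination e3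
      refine ⟨γ, fun v => ?_⟩
      rw [hdec, hα, hγ, hα0, hδ0, hβγ]
      module
    | one => exact ⟨0, fun v => by simp [ap_one]⟩
    | mul x y _ _ hx hy =>
      obtain ⟨c, hc⟩ := hx
      obtain ⟨d, hd⟩ := hy
      refine ⟨c + d, fun v => ?_⟩
      rw [ap_mul, hd, hc]
      simp only [bil_sub_left, bil_add_left, bil_smul_left, h.orth, (bil_comm r p).trans h.orth,
        bil_self h.left, bil_self h.right]
      module
    | inv x _ hx =>
      obtain ⟨c, hc⟩ := hx
      refine ⟨-c, fun v => ?_⟩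
      obtain ⟨w, rfl⟩ : ∃ w, ap x w = v := ⟨_, ap_inv' x v⟩
      rw [ap_inv, hc]
      simp only [bil_sub_left, bil_add_left, bil_smul_left, h.orth, (bil_comm r p).trans h.orth,
        bil_self h.left, bil_self h.right]
      module
  · rintro ⟨c, hc⟩
    refine Subgroup.subset_closure fun v h1 h2 => ?_
    rw [cond_iff] at h1 h2
    show ap g v = v
    rw [hc, h1, h2]
    simp

/-- The element of the group of a line. -/
theorem exists_el {p r : E} (h : IsSLine p r) (c : F) :
    ∃ g : Gr, ∀ v, ap g v = v + (c * bil v r) • p - (c * bil v p) • r := by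
  obtain ⟨L, hL⟩ : ∃ L : F → (Fin n ⊕ Fin n → F) →ₗ[F] (Fin n ⊕ Fin n → F),
      ∀ c v, L c v = v + (c * bil v r) • p - (c * bil v p) • r :=
    ⟨fun c => LinearMap.id + (c • bl r).smulRight p - (c • bl p).smulRight r, fun c v => by simp⟩
  have hcomp : ∀ a b : F, L a ∘ₗ L b = L (a + b) := fun a b => LinearMap.ext fun v => by
    simp only [LinearMap.comp_apply, hL, bil_sub_left, bil_add_left, bil_smul_left, h.orth,
      (bil_comm r p).trans h.orth, bil_self h.left, bil_self h.right]
    module
  have h0 : L 0 = LinearMap.id := LinearMap.ext fun v => by simp [hL]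
  let U : Matrix.GeneralLinearGroup (Fin n ⊕ Fin n) F :=
    ⟨LinearMap.toMatrix' (L c), LinearMap.toMatrix' (L (-c)),
      by rw [← LinearMap.toMatrix'_comp, hcomp, add_neg_cancel, h0, LinearMap.toMatrix'_id],
      by rw [← LinearMap.toMatrix'_comp, hcomp, neg_add_cancel, h0, LinearMap.toMatrix'_id]⟩
  refine ⟨⟨U, fun u _ => ?_⟩, fun v => ?_⟩
  · show Qf (LinearMap.toMatrix' (L c) *ᵥ u) = Qf u
    rw [LinearMap.toMatrix'_mulVec, hL, sub_eq_add_neg, ← neg_smul, Q_add, Q_add, Q_smul, Q_smul,
      h.left, h.right]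
    simp only [bil_add_left, bil_smul_left, bil_smul_right, h.orth]
    ring
  · show LinearMap.toMatrix' (L c) *ᵥ v = _
    rw [LinearMap.toMatrix'_mulVec, hL]

theorem SG_ne_bot {p r : E} (h : IsSLine p r) : SG p r ≠ ⊥ := by
  intro e
  obtain ⟨g, hg⟩ := exists_el h 1
  have h1 : g = 1 := Subgroup.mem_bot.1 (e ▸ (mem_SG h).2 ⟨1, hg⟩)
  obtain ⟨y, hy⟩ := exists_dual h.li ![0, 1]
  have hyp : bil y p = 0 := hy 0
  have hyr : bil y r = 1 := hy 1
  have h2 := hg y
  rw [h1, ap_one, hyp, hyr] at h2
  simp at h2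
  exact h.ne_left h2

theorem conjBy_SG {p r : E} (h : IsSLine p r) (g : Gr) :
    IsSLine (ap g p) (ap g r) ∧ conjBy (SG p r) g = SG (ap g p) (ap g r) := by
  have hline : ∀ (g : Gr) {p r : E}, IsSLine p r → IsSLine (ap g p) (ap g r) := fun g p r h => by
    refine ⟨indep_pair fun a b e => ?_, by rw [ap_Q]; exact h.left, by rw [ap_Q]; exact h.right,
      by rw [ap_bil]; exact h.orth⟩
    have e' := congrArg (ap g⁻¹) e
    rw [ap_add, ap_smul, ap_smul, ap_inv, ap_inv] at e'
    exact LinearIndependent.pair_iff.1 h.li a b (e'.trans (by simp [ap]))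
  have key : ∀ (g : Gr) {p r : E}, IsSLine p r → ∀ x ∈ SG p r,
      g * x * g⁻¹ ∈ SG (ap g p) (ap g r) := fun g p r h x hx => by
    obtain ⟨c, hc⟩ := (mem_SG h).1 hx
    refine (mem_SG (hline g h)).2 ⟨c, fun v => ?_⟩
    obtain ⟨w, rfl⟩ : ∃ w, ap g w = v := ⟨_, ap_inv' g v⟩
    rw [ap_mul, ap_mul, ap_inv, hc, ap_sub, ap_add, ap_smul, ap_smul, ap_bil, ap_bil]
  refine ⟨hline g h, ?_⟩
  ext x
  constructor
  · rintro ⟨t, ht, rfl⟩
    exact key g h t ht
  · intro hx
    have := key g⁻¹ (hline g h) _ hx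
    rw [ap_inv, ap_inv, inv_inv] at this
    exact mem_conjBy.2 this

/-- Orthogonal lines commute. -/
theorem SG_comm {p r x y : E} (h : IsSLine p r) (h' : IsSLine x y) (h1 : bil p x = 0) (h2 : bil p y = 0)
    (h3 : bil r x = 0) (h4 : bil r y = 0) : ∀ a ∈ SG p r, ∀ b ∈ SG x y, a * b = b * a := by
  intro a ha b hb
  obtain ⟨c, hc⟩ := (mem_SG h).1 ha
  obtain ⟨d, hd⟩ := (mem_SG h').1 hb
  refine ap_ext fun v => ?_
  rw [ap_mul, ap_mul, hd, hc, hc, hd]
  simp only [bil_sub_left, bil_add_left, bil_smul_left, h1, h2, h3, h4, bil_comm x p, bil_comm y p,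
    bil_comm x r, bil_comm y r]
  module

/-- The rank one pair of two opposite lines. -/
theorem exists_hom {p r x y : E} (h : IsSLine p r) (h' : IsSLine x y) (hpx : bil p x = 1)
    (hpy : bil p y = 0) (hrx : bil r x = 0) (hry : bil r y = 1) :
    ∃ φ : Matrix.SpecialLinearGroup (Fin 2) F →* Gr, Function.Injective φ ∧
      (upperUnipotentSL2 F).map φ = SG p r ∧ (lowerUnipotentSL2 F).map φ = SG x y := by
  have hrp : bil r p = 0 := (bil_comm r p).trans h.orth
  have hyx : bil y x = 0 := (bil_comm y x).trans h'.orth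
  have hxp : bil x p = 1 := (bil_comm x p).trans hpx
  have hyp : bil y p = 0 := (bil_comm y p).trans hpy
  have hxr : bil x r = 0 := (bil_comm x r).trans hrx
  have hyr : bil y r = 1 := (bil_comm y r).trans hry
  obtain ⟨L, hL⟩ : ∃ L : Matrix (Fin 2) (Fin 2) F → (Fin n ⊕ Fin n → F) →ₗ[F] (Fin n ⊕ Fin n → F),
      ∀ M v, L M v = v + ((M 0 0 - 1) * bil v x + M 0 1 * bil v r) • p +
        (M 1 0 * bil v x + (M 1 1 - 1) * bil v r) • y +
        ((M 0 0 - 1) * bil v y - M 0 1 * bil v p) • r +
        ((M 1 1 - 1) * bil v p - M 1 0 * bil v y) • x :=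
    ⟨fun M => LinearMap.id + ((M 0 0 - 1) • bl x + M 0 1 • bl r).smulRight p +
        (M 1 0 • bl x + (M 1 1 - 1) • bl r).smulRight y +
        ((M 0 0 - 1) • bl y - M 0 1 • bl p).smulRight r +
        ((M 1 1 - 1) • bl p - M 1 0 • bl y).smulRight x, fun M v => by simp⟩
  have hmul : ∀ M N, L (M * N) = L M ∘ₗ L N := fun M N => LinearMap.ext fun v => by
    simp only [LinearMap.comp_apply, hL, bil_add_left, bil_smul_left, hpx, hpy, hrx, hry, hxp, hyp,
      hxr, hyr, h.orth, hrp, h'.orth, hyx, bil_self h.left, bil_self h.right, bil_self h'.left,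
      bil_self h'.right, Matrix.mul_apply, Fin.sum_univ_two]
    module
  have hone : L 1 = LinearMap.id := LinearMap.ext fun v => by simp [hL]
  let f : Matrix.SpecialLinearGroup (Fin 2) F →* Matrix (Fin n ⊕ Fin n) (Fin n ⊕ Fin n) F :=
    { toFun := fun M => LinearMap.toMatrix' (L M.1)
      map_one' := by rw [Matrix.SpecialLinearGroup.coe_one, hone, LinearMap.toMatrix'_id]
      map_mul' := fun M N => by
        rw [Matrix.SpecialLinearGroup.coe_mul, hmul, LinearMap.toMatrix'_comp] }
  have hiso : ∀ M, f.toHomUnits M ∈ Cfsg.isometryGroup F Qf := fun M u _ => by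
    show Qf (LinearMap.toMatrix' (L M.1) *ᵥ u) = Qf u
    have hdet : (M : Matrix (Fin 2) (Fin 2) F).det = 1 := M.2
    rw [Matrix.det_fin_two] at hdet
    rw [LinearMap.toMatrix'_mulVec, hL]
    simp only [Q_add, Q_smul, bil_add_left, bil_smul_left, bil_smul_right, h.left, h.right, h'.left,
      h'.right, hpx, hpy, hrx, hry, hxp, hyp, hxr, hyr, h.orth, hrp, h'.orth, hyx]
    linear_combination (bil u x * bil u p + bil u r * bil u y) * hdet
  obtain ⟨φ, hφ⟩ : ∃ φ : Matrix.SpecialLinearGroup (Fin 2) F →* Gr,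
      φ = f.toHomUnits.codRestrict _ hiso := ⟨_, rfl⟩
  have hapφ : ∀ M v, ap (φ M) v = L M.1 v := fun M v => by
    rw [hφ]
    show LinearMap.toMatrix' (L M.1) *ᵥ v = _
    rw [LinearMap.toMatrix'_mulVec]
  have hinj : Function.Injective φ := by
    intro M N e
    apply Subtype.ext
    have e1 := congrArg (fun g => bil (ap g p) x) e
    have e2 := congrArg (fun g => bil (ap g p) r) e
    have e3 := congrArg (fun g => bil (ap g y) x) e
    have e4 := congrArg (fun g => bil (ap g y) r) e
    simp only [hapφ, hL, bil_add_left, bil_smul_left, hpx, hpy, hrx, hry, hxp, hyp, hxr, hyr, h.orth,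
      hrp, h'.orth, hyx, bil_self h.left, bil_self h.right, bil_self h'.left, bil_self h'.right]
      at e1 e2 e3 e4
    ext i j
    fin_cases i <;> fin_cases j
    · simpa using e1
    · simpa using e3
    · simpa using e2
    · simpa using e4
  have hu : ∀ t v, ap (φ (uEl t)) v = v + (t * bil v r) • p - (t * bil v p) • r := fun t v => by
    rw [hapφ, hL]
    simp
    module
  have hl : ∀ t v, ap (φ (lEl t)) v = v + ((-t) * bil v y) • x - ((-t) * bil v x) • y := fun t v => by
    rw [hapφ, hL]
    simp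
    module
  refine ⟨φ, hinj, ?_, ?_⟩
  · ext g
    constructor
    · rintro ⟨u, hu', rfl⟩
      obtain ⟨t, rfl⟩ := mem_upper.1 hu'
      exact (mem_SG h).2 ⟨t, hu t⟩
    · intro hg
      obtain ⟨c, hc⟩ := (mem_SG h).1 hg
      exact ⟨uEl c, mem_upper.2 ⟨_, rfl⟩, ap_ext fun v => by rw [hu, hc]⟩
  · ext g
    constructor
    · rintro ⟨u, hu', rfl⟩
      obtain ⟨t, rfl⟩ := mem_lower.1 hu'
      exact (mem_SG h').2 ⟨-t, hl t⟩
    · intro hg
      obtain ⟨c, hc⟩ := (mem_SG h').1 hg
      exact ⟨lEl (-c), mem_lower.2 ⟨_, rfl⟩, ap_ext fun v => by rw [hl, hc, neg_neg]⟩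

/-- The possible behaviour of two members. -/
def Behaves (A B : Subgroup Gr) : Prop :=
  (∀ a ∈ A, ∀ b ∈ B, a * b = b * a) ∨
  (∃ φ : Matrix.SpecialLinearGroup (Fin 2) F →* Gr, Function.Injective φ ∧
    (upperUnipotentSL2 F).map φ = A ∧ (lowerUnipotentSL2 F).map φ = B) ∨
  (∃ u w : E, IsSLine u w ∧ (∀ a ∈ A, ∀ b ∈ B, a * b * a⁻¹ * b⁻¹ ∈ SG u w) ∧
    (∀ z ∈ SG u w, ∀ a ∈ A, z * a = a * z) ∧ (∀ z ∈ SG u w, ∀ b ∈ B, z * b = b * z) ∧
    (∀ a ∈ A, a ≠ 1 → ∀ z ∈ SG u w, ∃ b ∈ B, a * b * a⁻¹ * b⁻¹ = z) ∧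
    (∀ b ∈ B, b ≠ 1 → ∀ z ∈ SG u w, ∃ a ∈ A, a * b * a⁻¹ * b⁻¹ = z))

/-- Two lines in position `1`. -/
theorem behaves_one {u r w s : E} (h : IsSLine u r) (h' : IsSLine w s) (hrs : bil r s = 1)
    (huw : bil u w = 0) (hus : bil u s = 0) (hrw : bil r w = 0) : Behaves (SG u r) (SG w s) := by
  have hwu : bil w u = 0 := (bil_comm w u).trans huw
  have hsu : bil s u = 0 := (bil_comm s u).trans hus
  have hwr : bil w r = 0 := (bil_comm w r).trans hrw
  have hsr : bil s r = 1 := (bil_comm s r).trans hrs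
  have huu := bil_self h.left
  have hrr := bil_self h.right
  have hww := bil_self h'.left
  have hss := bil_self h'.right
  have hru : bil r u = 0 := (bil_comm r u).trans h.orth
  have hsw : bil s w = 0 := (bil_comm s w).trans h'.orth
  by_cases hdep : ∃ μ : F, u = μ • w
  · obtain ⟨μ, rfl⟩ := hdep
    left
    intro a ha b hb
    obtain ⟨c, hc⟩ := (mem_SG h).1 ha
    obtain ⟨d, hd⟩ := (mem_SG h').1 hb
    refine ap_ext fun v => ?_
    rw [ap_mul, ap_mul, hd, hc, hc, hd]
    simp only [bil_sub_left, bil_add_left, bil_smul_left, bil_smul_right, hrs, hrw, hwr, hsr, hww, hss,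
      h'.orth, hsw]
    module
  · have h3 : IsSLine u w := by
      refine ⟨indep_pair fun a b e => ?_, h.left, h'.left, huw⟩
      by_cases ha : a = 0
      · refine ⟨ha, ?_⟩
        rw [ha, zero_smul, zero_add, smul_eq_zero] at e
        exact e.resolve_right h'.ne_left
      · refine absurd ⟨-(b / a), ?_⟩ hdep
        rw [← sub_eq_zero]
        have := congrArg (fun z => a⁻¹ • z) e
        simp only [smul_add, smul_smul, inv_mul_cancel₀ ha, one_smul, smul_zero] at this
        rw [← this, div_eq_inv_mul]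
        module
    have key : ∀ (a b z : Gr) (c d : F), (∀ v, ap a v = v + (c * bil v r) • u - (c * bil v u) • r) →
        (∀ v, ap b v = v + (d * bil v s) • w - (d * bil v w) • s) →
        (∀ v, ap z v = v + ((-(c * d)) * bil v w) • u - ((-(c * d)) * bil v u) • w) →
        a * b * a⁻¹ * b⁻¹ = z := by
      intro a b z c d hc hd hz
      have e : a * b = z * b * a := ap_ext fun v => by
        rw [ap_mul, ap_mul, ap_mul, hd, hc, hc, hd, hz]
        simp only [bil_sub_left, bil_add_left, bil_smul_left, huw, hus, hrw, hrs, hwu, hsu, hwr, hsr,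
          huu, hrr, hww, hss, h.orth, hru, h'.orth, hsw]
        module
      rw [e]
      group
    refine Or.inr (Or.inr ⟨u, w, h3, ?_, ?_, ?_, ?_, ?_⟩)
    · intro a ha b hb
      obtain ⟨c, hc⟩ := (mem_SG h).1 ha
      obtain ⟨d, hd⟩ := (mem_SG h').1 hb
      obtain ⟨z, hz⟩ := exists_el h3 (-(c * d))
      rw [key a b z c d hc hd hz]
      exact (mem_SG h3).2 ⟨_, hz⟩
    · exact SG_comm h3 h huu h.orth hwu hwr
    · exact SG_comm h3 h' huw hus hww h'.orth
    · intro a ha ha1 z hz
      obtain ⟨c, hc⟩ := (mem_SG h).1 ha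
      obtain ⟨e, he⟩ := (mem_SG h3).1 hz
      have hc0 : c ≠ 0 := fun e0 => ha1 (ap_ext fun v => by rw [hc, e0, ap_one]; simp)
      obtain ⟨b, hb⟩ := exists_el h' (-(e / c))
      refine ⟨b, (mem_SG h').2 ⟨_, hb⟩, key a b z c _ hc hb ?_⟩
      rwa [show -(c * -(e / c)) = e by field_simp]
    · intro b hb hb1 z hz
      obtain ⟨d, hd⟩ := (mem_SG h').1 hb
      obtain ⟨e, he⟩ := (mem_SG h3).1 hz
      have hd0 : d ≠ 0 := fun e0 => hb1 (ap_ext fun v => by rw [hd, e0, ap_one]; simp)
      obtain ⟨a, ha⟩ := exists_el h (-(e / d))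
      refine ⟨a, (mem_SG h).2 ⟨_, ha⟩, key a b z _ d ha hd ?_⟩
      rwa [show -(-(e / d) * d) = e by field_simp]

theorem behaves {p r x y : E} (h : IsSLine p r) (h' : IsSLine x y) : Behaves (SG p r) (SG x y) := by
  by_cases hdet : bil p x * bil r y - bil p y * bil r x = 0
  swap
  · obtain ⟨D, hD⟩ : ∃ D, D = bil p x * bil r y - bil p y * bil r x := ⟨_, rfl⟩
    rw [← hD] at hdet
    obtain ⟨h1, h2⟩ := SG_change h' (a := bil r y / D) (b := -(bil r x / D)) (c := -(bil p y / D))
      (d := bil p x / D) (by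
        have : bil r y / D * (bil p x / D) - -(bil r x / D) * -(bil p y / D) = 1 / D := by
          field_simp
          linear_combination -hD
        rw [this]
        exact div_ne_zero one_ne_zero hdet)
    rw [← h2]
    exact Or.inr (Or.inl (exists_hom h h1
      (by simp only [bil_add_right, bil_smul_right]; field_simp; linear_combination -hD)
      (by simp only [bil_add_right, bil_smul_right]; field_simp; ring)
      (by simp only [bil_add_right, bil_smul_right]; field_simp; ring)
      (by simp only [bil_add_right, bil_smul_right]; field_simp; linear_combination -hD)))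
  have main : ∀ {p r x y : E}, IsSLine p r → IsSLine x y → bil r y ≠ 0 →
      bil p x * bil r y - bil p y * bil r x = 0 → Behaves (SG p r) (SG x y) := by
    intro p r x y h h' hne hdet
    obtain ⟨B, hB⟩ : ∃ B, B = bil r y := ⟨_, rfl⟩
    obtain ⟨g1, g2⟩ := SG_change h (a := 1) (b := -(bil p y / B)) (c := 0) (d := 1) (by simp)
    obtain ⟨k1, k2⟩ := SG_change h' (a := 1) (b := -(bil r x / B)) (c := 0) (d := B⁻¹)
      (by simpa [hB] using hne)
    rw [← hB] at hne hdet
    rw [← g2, ← k2]
    refine behaves_one g1 k1 ?_ ?_ ?_ ?_ <;>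
      simp only [bil_add_left, bil_add_right, bil_smul_left, bil_smul_right, ← hB] <;>
      field_simp <;>
      first
        | ring1
        | linear_combination hdet
  by_cases h4 : bil r y = 0
  swap
  · exact main h h' h4 hdet
  by_cases h3 : bil r x = 0
  swap
  · rw [SG_swap x y]
    exact main h h'.swap h3 (by linear_combination -hdet)
  by_cases h2 : bil p y = 0
  swap
  · rw [SG_swap p r]
    exact main h.swap h' h2 (by linear_combination -hdet)
  by_cases h1 : bil p x = 0
  swap
  · rw [SG_swap p r, SG_swap x y]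
    exact main h.swap h'.swap h1 (by linear_combination hdet)
  exact Or.inl (SG_comm h h' h1 h2 h3 h4)

/-- The family of all Siegel transvection groups. -/
def family (F : Type*) [Field F] (n : ℕ) :
    Set (Subgroup ↥(Cfsg.isometryGroup F (Cfsg.quadFormPlus n F))) :=
  {A | ∃ p r : Fin n ⊕ Fin n → F, LinearIndependent F ![p, r] ∧
    Cfsg.quadFormPlus n F p = 0 ∧ Cfsg.quadFormPlus n F r = 0 ∧
    Cfsg.quadFormPlus n F (p + r) = 0 ∧ A = SG p r}

theorem mem_family {A : Subgroup Gr} : A ∈ family F n ↔ ∃ p r : E, IsSLine p r ∧ A = SG p r := by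
  constructor
  · rintro ⟨p, r, h1, h2, h3, h4, rfl⟩
    exact ⟨p, r, ⟨h1, h2, h3, by rw [Q_add, h2, h3, zero_add, zero_add] at h4; exact h4⟩, rfl⟩
  · rintro ⟨p, r, h, rfl⟩
    exact ⟨p, r, h.li, h.left, h.right, by rw [Q_add, h.left, h.right, h.orth]; ring, rfl⟩

theorem exists_outside (hn : 3 ≤ n) {u r : E} (h : IsSLine u r) :
    ∃ z : E, Qf z = 0 ∧ bil z u = 0 ∧ bil z r = 0 ∧ ∀ a b : F, z ≠ a • u + b • r := by
  by_contra hcon
  push Not at hcon
  let ι : (Fin n → F) →ₗ[F] (Fin n ⊕ Fin n → F) :=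
    { toFun := fun z => Sum.elim z 0
      map_add' := fun a b => by funext x; rcases x with i | i <;> simp
      map_smul' := fun c a => by funext x; rcases x with i | i <;> simp }
  have hιi : Function.Injective ι := fun a b e => funext fun i => congrFun e (.inl i)
  have hιq : ∀ z, Qf (ι z) = 0 := fun z => by simp [Cfsg.quadFormPlus, ι]
  have hιb : ∀ z z', bil (ι z) (ι z') = 0 := fun z z' => by simp [bil, ι]
  obtain ⟨Φ, hΦ⟩ : ∃ Φ : (Fin n → F) →ₗ[F] F × F, Φ = ((bl u).comp ι).prod ((bl r).comp ι) := ⟨_, rfl⟩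
  have hK : ∀ z ∈ LinearMap.ker Φ, ι z ∈ Submodule.span F ({u, r} : Set (Fin n ⊕ Fin n → F)) := by
    intro z hz
    rw [LinearMap.mem_ker, hΦ] at hz
    simp at hz
    obtain ⟨a, b, e⟩ := hcon (ι z) (hιq z) hz.1 hz.2
    exact Submodule.mem_span_pair.2 ⟨a, b, e.symm⟩
  have hdim := LinearMap.finrank_range_add_finrank_ker Φ
  rw [Module.finrank_fin_fun] at hdim
  have hR : Module.finrank F (LinearMap.range Φ) ≤ 2 := by
    refine le_trans (Submodule.finrank_le _) ?_
    simp
  obtain ⟨k, hk, hk0⟩ : ∃ k ∈ LinearMap.ker Φ, k ≠ 0 := by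
    refine Submodule.exists_mem_ne_zero_of_ne_bot fun e => ?_
    rw [e, finrank_bot] at hdim
    omega
  obtain ⟨a, b, hab⟩ := Submodule.mem_span_pair.1 (hK k hk)
  have hR1 : ∀ w ∈ LinearMap.range Φ, a * w.1 + b * w.2 = 0 := by
    rintro _ ⟨z, rfl⟩
    have := hιb z k
    rw [← hab, bil_add_right, bil_smul_right, bil_smul_right] at this
    rw [hΦ]
    simpa using this
  have hab0 : a ≠ 0 ∨ b ≠ 0 := by
    by_contra h0
    push Not at h0
    rw [h0.1, h0.2, zero_smul, zero_smul, add_zero] at hab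
    exact hk0 (hιi (hab.symm.trans (map_zero ι).symm))
  have hR1' : Module.finrank F (LinearMap.range Φ) ≤ 1 := by
    have hle : LinearMap.range Φ ≤ Submodule.span F {((-b, a) : F × F)} := fun w hw => by
      have e := hR1 w hw
      rw [Submodule.mem_span_singleton]
      rcases hab0 with ha | hb
      · refine ⟨w.2 / a, Prod.ext ?_ (by simp [ha])⟩
        show w.2 / a * -b = w.1
        field_simp
        linear_combination -e
      · refine ⟨-(w.1 / b), Prod.ext (by simp [hb]) ?_⟩
        show -(w.1 / b) * a = w.2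
        field_simp
        linear_combination -e
    refine (Submodule.finrank_mono hle).trans ?_
    exact le_of_le_of_eq (finrank_span_le_card _) (by simp)
  -- the kernel maps injectively into the line
  have hspan : Module.finrank F (Submodule.span F ({u, r} : Set (Fin n ⊕ Fin n → F))) ≤ 2 := by
    classical
    have hcard := finrank_span_finset_le_card (R := F) ({u, r} : Finset (Fin n ⊕ Fin n → F))
    rw [Finset.coe_insert, Finset.coe_singleton] at hcard
    exact hcard.trans Finset.card_le_two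
  have hle2 : Submodule.map ι (LinearMap.ker Φ) ≤ Submodule.span F ({u, r} : Set (Fin n ⊕ Fin n → F)) := by
    rintro _ ⟨z, hz, rfl⟩
    exact hK z hz
  have hmap : Module.finrank F (Submodule.map ι (LinearMap.ker Φ)) = Module.finrank F (LinearMap.ker Φ) :=
    (Submodule.equivMapOfInjective ι hιi _).finrank_eq.symm
  have heq := Submodule.eq_of_le_of_finrank_le hle2 (by rw [hmap]; omega)
  have hu : u ∈ Submodule.map ι (LinearMap.ker Φ) := heq ▸ Submodule.subset_span (by simp)
  have hr : r ∈ Submodule.map ι (LinearMap.ker Φ) := heq ▸ Submodule.subset_span (by simp)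
  obtain ⟨zu, -, rfl⟩ := hu
  obtain ⟨zr, -, rfl⟩ := hr
  have hR0 : LinearMap.range Φ = ⊥ := by
    rw [LinearMap.range_eq_bot]
    exact LinearMap.ext fun z => by simp [hΦ, hιb]
  rw [hR0, finrank_bot] at hdim
  have := (Submodule.finrank_mono hle2).trans hspan
  omega

/-- A common opposite line of two lines with a common point. -/
theorem exists_opposite {u r r' : E} (h : IsSLine u r) (h' : IsSLine u r')
    (hout : ∀ a b : F, r' ≠ a • u + b • r) (hrr : bil r r' = 0) :
    ∃ a b : E, IsSLine a b ∧ bil u a * bil r b - bil u b * bil r a ≠ 0 ∧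
      bil u a * bil r' b - bil u b * bil r' a ≠ 0 := by
  have hli : LinearIndependent F ![u, r, r'] := by
    rw [Fintype.linearIndependent_iff]
    intro g hg
    simp only [Fin.sum_univ_three, Matrix.cons_val_zero, Matrix.cons_val_one, Matrix.cons_val,
      Matrix.head_cons, Matrix.tail_cons] at hg
    by_cases h2 : g 2 = 0
    · rw [h2, zero_smul, add_zero] at hg
      obtain ⟨h0, h1⟩ := LinearIndependent.pair_iff.1 h.li _ _ hg
      intro i
      fin_cases i <;> assumption
    · exfalso
      refine hout (-(g 0 / g 2)) (-(g 1 / g 2)) ?_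
      have := congrArg (fun z => (g 2)⁻¹ • z) hg
      simp only [smul_add, smul_smul, inv_mul_cancel₀ h2, one_smul, smul_zero] at this
      rw [← sub_eq_zero, ← this, div_eq_inv_mul, div_eq_inv_mul]
      module
  obtain ⟨b0, hb0⟩ := exists_dual hli ![0, 1, 1]
  have e0 : bil b0 u = 0 := hb0 0
  have e1 : bil b0 r = 1 := hb0 1
  have e2 : bil b0 r' = 1 := hb0 2
  obtain ⟨b, hb⟩ : ∃ b, b = b0 + (-Qf b0) • r := ⟨_, rfl⟩
  have hru : bil r u = 0 := (bil_comm r u).trans h.orth
  have hbu : bil b u = 0 := by rw [hb, bil_add_left, bil_smul_left, e0, hru]; ring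
  have hbr : bil b r = 1 := by rw [hb, bil_add_left, bil_smul_left, e1, bil_self h.right]; ring
  have hbr' : bil b r' = 1 := by rw [hb, bil_add_left, bil_smul_left, e2, hrr]; ring
  have hbQ : Qf b = 0 := by rw [hb, Q_add, Q_smul, h.right, bil_smul_right, e1]; ring
  have hub : LinearIndependent F ![u, b] := indep_pair fun x y e => by
    have := congrArg (fun z => bil z r) e
    simp only [bil_add_left, bil_smul_left, h.orth, hbr, mul_zero, zero_add, mul_one,
      bil_zero_left] at this
    subst this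
    rw [zero_smul, add_zero, smul_eq_zero] at e
    exact ⟨e.resolve_right h.ne_left, rfl⟩
  obtain ⟨a0, ha0⟩ := exists_dual hub ![1, 0]
  have f0 : bil a0 u = 1 := ha0 0
  have f1 : bil a0 b = 0 := ha0 1
  obtain ⟨a, ha⟩ : ∃ a, a = a0 + (-Qf a0) • u := ⟨_, rfl⟩
  have hau : bil a u = 1 := by rw [ha, bil_add_left, bil_smul_left, f0, bil_self h.left]; ring
  have hab : bil a b = 0 := by
    rw [ha, bil_add_left, bil_smul_left, f1, (bil_comm u b).trans hbu]; ring
  have haQ : Qf a = 0 := by rw [ha, Q_add, Q_smul, h.left, bil_smul_right, f0]; ring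
  refine ⟨a, b, ⟨indep_pair fun x y e => ?_, haQ, hbQ, hab⟩, ?_, ?_⟩
  · have h1 := congrArg (fun z => bil z u) e
    have h2 := congrArg (fun z => bil z r) e
    simp only [bil_add_left, bil_smul_left, hau, hbu, bil_zero_left, mul_one, mul_zero, add_zero] at h1
    simp only [bil_add_left, bil_smul_left, hbr, bil_zero_left, mul_one, h1, zero_mul, zero_add] at h2
    exact ⟨h1, h2⟩
  · rw [bil_comm u a, bil_comm u b, bil_comm r b, hau, hbu, hbr]; simp
  · rw [bil_comm u a, bil_comm u b, bil_comm r' b, hau, hbu, hbr']; simp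

theorem rankOne_of_det {p r x y : E} (h : IsSLine p r) (h' : IsSLine x y)
    (hd : bil p x * bil r y - bil p y * bil r x ≠ 0) : IsRankOnePair (SG p r) (SG x y) := by
  obtain ⟨D, hD⟩ : ∃ D, D = bil p x * bil r y - bil p y * bil r x := ⟨_, rfl⟩
  rw [← hD] at hd
  obtain ⟨h1, h2⟩ := SG_change h' (a := bil r y / D) (b := -(bil r x / D)) (c := -(bil p y / D))
    (d := bil p x / D) (by
      have : bil r y / D * (bil p x / D) - -(bil r x / D) * -(bil p y / D) = 1 / D := by
        field_simp
        linear_combination -hD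
      rw [this]
      exact div_ne_zero one_ne_zero hd)
  rw [← h2]
  obtain ⟨φ, hφ, hu, hl⟩ := exists_hom h h1
    (by simp only [bil_add_right, bil_smul_right]; field_simp; linear_combination -hD)
    (by simp only [bil_add_right, bil_smul_right]; field_simp; ring)
    (by simp only [bil_add_right, bil_smul_right]; field_simp; ring)
    (by simp only [bil_add_right, bil_smul_right]; field_simp; linear_combination -hD)
  exact (pair_of_hom φ hφ hu hl).1

theorem connected (hn : 3 ≤ n) : IsConnectedFamily (FAdj (family F n)) (family F n) := by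
  have hmem : ∀ {p r : E}, IsSLine p r → SG p r ∈ family F n := fun h => mem_family.2 ⟨_, _, h, rfl⟩
  have horth : ∀ {u r r' : E}, IsSLine u r → IsSLine u r' → (∀ a b : F, r' ≠ a • u + b • r) →
      bil r r' = 0 → Relation.ReflTransGen (FAdj (family F n)) (SG u r) (SG u r') := by
    intro u r r' h h' hout hrr
    obtain ⟨a, b, hab, d1, d2⟩ := exists_opposite h h' hout hrr
    exact (Relation.ReflTransGen.single ⟨hmem h, hmem hab, rankOne_of_det h hab d1⟩).tail
      ⟨hmem hab, hmem h', RankOnePair_symm (rankOne_of_det h' hab d2)⟩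
  have hshare : ∀ {u r r' : E}, IsSLine u r → IsSLine u r' →
      Relation.ReflTransGen (FAdj (family F n)) (SG u r) (SG u r') := by
    intro u r r' h h'
    by_cases hout : ∃ a b : F, r' = a • u + b • r
    · obtain ⟨a, b, e⟩ := hout
      have hb : b ≠ 0 := fun e0 => by
        subst e0
        rw [zero_smul, add_zero] at e
        exact one_ne_zero (LinearIndependent.pair_iff.1 h'.li (-a) 1 (by rw [e]; module)).2
      have := (SG_change h (a := 1) (b := 0) (c := a) (d := b) (by simpa using hb)).2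
      rw [one_smul, zero_smul, add_zero, ← e] at this
      rw [this]
    push Not at hout
    by_cases hrr : bil r r' = 0
    · exact horth h h' hout hrr
    obtain ⟨z, hzQ, hzu, hzr, hzout⟩ := exists_outside hn h
    obtain ⟨t, ht⟩ : ∃ t, t = -(bil z r' / bil r r') := ⟨_, rfl⟩
    obtain ⟨w, hw⟩ : ∃ w, w = z + t • r := ⟨_, rfl⟩
    have hru : bil r u = 0 := (bil_comm r u).trans h.orth
    have hwr' : bil w r' = 0 := by
      rw [hw, bil_add_left, bil_smul_left, ht]; field_simp; ring
    have hwr : bil w r = 0 := by rw [hw, bil_add_left, bil_smul_left, hzr, bil_self h.right]; ring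
    have hwout : ∀ a b : F, w ≠ a • u + b • r := fun a b e => hzout a (b - t) (by
      rw [hw] at e
      rw [eq_sub_of_add_eq e]
      module)
    have hline : IsSLine u w := by
      refine ⟨indep_pair fun a b e => ?_, h.left, ?_, ?_⟩
      · by_cases hb : b = 0
        · rw [hb, zero_smul, add_zero, smul_eq_zero] at e
          exact ⟨e.resolve_right h.ne_left, hb⟩
        · refine absurd ?_ (hwout (-(a / b)) 0)
          have := congrArg (fun z => b⁻¹ • z) e
          simp only [smul_add, smul_smul, inv_mul_cancel₀ hb, one_smul, smul_zero] at this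
          rw [← sub_eq_zero, ← this, div_eq_inv_mul]
          module
      · rw [hw, Q_add, Q_smul, hzQ, h.right, bil_smul_right, hzr]; ring
      · rw [hw, bil_add_right, bil_smul_right, bil_comm u z, hzu, h.orth]; ring
    have hout' : ∀ a b : F, r' ≠ a • u + b • w := fun a b e => by
      apply hrr
      rw [e, bil_add_right, bil_smul_right, bil_smul_right, hru, (bil_comm r w).trans hwr]
      ring
    exact (horth h hline hwout ((bil_comm r w).trans hwr)).trans (horth hline h' hout' hwr')
  intro A hA B hB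
  obtain ⟨p, r, h, rfl⟩ := mem_family.1 hA
  obtain ⟨x, y, h', rfl⟩ := mem_family.1 hB
  -- a point of the first line orthogonal to `x`
  obtain ⟨u, v, huv, hS, hux⟩ : ∃ u v : E, IsSLine u v ∧ SG u v = SG p r ∧ bil u x = 0 := by
    by_cases hp : bil p x = 0
    · exact ⟨p, r, h, rfl, hp⟩
    · obtain ⟨h1, h2⟩ := SG_change h (a := bil r x) (b := -bil p x) (c := 1) (d := 0) (by simpa using hp)
      exact ⟨_, _, h1, h2, by rw [bil_add_left, bil_smul_left, bil_smul_left]; ring⟩
  rw [← hS]
  by_cases hdep : ∃ μ : F, u = μ • x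
  · obtain ⟨μ, e⟩ := hdep
    have hμ : μ ≠ 0 := fun e0 => huv.ne_left (by rw [e, e0, zero_smul])
    obtain ⟨h1, h2⟩ := SG_change h' (a := μ) (b := 0) (c := 0) (d := 1) (by simpa using hμ)
    rw [zero_smul, add_zero, zero_smul, zero_add, one_smul, ← e] at h1 h2
    rw [← h2]
    exact hshare huv h1
  · push Not at hdep
    have hline : IsSLine u x := by
      refine ⟨indep_pair fun a b e => ?_, huv.left, h'.left, hux⟩
      by_cases ha : a = 0
      · rw [ha, zero_smul, zero_add, smul_eq_zero] at e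
        exact ⟨ha, e.resolve_right h'.ne_left⟩
      · refine absurd ?_ (hdep (-(b / a)))
        have := congrArg (fun z => a⁻¹ • z) e
        simp only [smul_add, smul_smul, inv_mul_cancel₀ ha, one_smul, smul_zero] at this
        rw [← sub_eq_zero, ← this, div_eq_inv_mul]
        module
    refine (hshare huv hline).trans ?_
    rw [SG_swap u x]
    exact hshare hline.swap h'

/-- The family, inside the subgroup it generates, consists of `F`-root subgroups. -/
theorem isKRootSubgroupSet {U : Subgroup Gr} (hU : U = ⨆ B ∈ family F n, B) :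
    IsKRootSubgroupSet F ((fun A : Subgroup Gr => A.subgroupOf U) '' family F n) := by
  have hle : ∀ A ∈ family F n, A ≤ U := fun A hA =>
    hU ▸ le_iSup₂ (f := fun B (_ : B ∈ family F n) => B) A hA
  have hcomm : ∀ A B : Subgroup Gr, A ≤ U → B ≤ U →
      ((∀ x ∈ A, ∀ y ∈ B, x * y = y * x) → ⁅A.subgroupOf U, B.subgroupOf U⁆ = ⊥) := fun A B _ _ h => by
    rw [bracket_eq_bot_iff]
    exact fun x hx y hy => Subtype.ext (h x hx y hy)
  have hnb : ∀ A ∈ family F n, A.subgroupOf U ≠ ⊥ := by
    intro A hA e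
    obtain ⟨p, r, h, hA'⟩ := mem_family.1 hA
    refine SG_ne_bot h (hA' ▸ (Subgroup.eq_bot_iff_forall A).2 fun x hx => ?_)
    have h1 : (⟨x, hle A hA hx⟩ : U) ∈ A.subgroupOf U := hx
    rw [e] at h1
    exact congrArg Subtype.val (Subgroup.mem_bot.1 h1)
  have hpair : ∀ A ∈ family F n, ∀ B ∈ family F n,
      ⁅A.subgroupOf U, B.subgroupOf U⁆ = ⊥ ∨
      (IsRankOnePair (A.subgroupOf U) (B.subgroupOf U) ∧
        IsPSL2PairOver F (A.subgroupOf U) (B.subgroupOf U)) ∨
      RootCommutatorCase ((fun A : Subgroup Gr => A.subgroupOf U) '' family F n)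
        (A.subgroupOf U) (B.subgroupOf U) := by
    intro A hA B hB
    obtain ⟨p, r, h, hA'⟩ := mem_family.1 hA
    obtain ⟨x, y, h', hB'⟩ := mem_family.1 hB
    have hb := behaves h h'
    rw [← hA', ← hB'] at hb
    rcases hb with hb | ⟨φ, hφ, hu, hl⟩ | ⟨u, w, h3, c1, c2, c3, c4, c5⟩
    · exact Or.inl (hcomm A B (hle A hA) (hle B hB) hb)
    · refine Or.inr (Or.inl ?_)
      have hmem : ∀ g, φ g ∈ U := by
        intro g
        have h1 : φ g ∈ (⊤ : Subgroup (Matrix.SpecialLinearGroup (Fin 2) F)).map φ :=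
          Subgroup.mem_map_of_mem φ (Subgroup.mem_top g)
        rw [← sl_two_sup, Subgroup.map_sup, hu, hl] at h1
        exact sup_le (hle B hB) (hle A hA) h1
      have hmap : ∀ (X : Subgroup (Matrix.SpecialLinearGroup (Fin 2) F)) (Y : Subgroup Gr),
          X.map φ = Y → X.map (φ.codRestrict U hmem) = Y.subgroupOf U := by
        intro X Y hXY
        ext z
        rw [Subgroup.mem_subgroupOf, ← hXY]
        constructor
        · rintro ⟨g, hg, rfl⟩
          exact ⟨g, hg, rfl⟩
        · rintro ⟨g, hg, e⟩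
          exact ⟨g, hg, Subtype.ext e⟩
      exact pair_of_hom (φ.codRestrict U hmem) (fun g g' e => hφ (congrArg Subtype.val e))
        (hmap _ _ hu) (hmap _ _ hl)
    · refine Or.inr (Or.inr ?_)
      have hC : SG u w ∈ family F n := mem_family.2 ⟨u, w, h3, rfl⟩
      refine case_of_formula ⟨_, hC, rfl⟩ (hnb A hA) (fun a ha b hb => c1 a ha b hb)
        (fun z hz a ha => Subtype.ext (c2 z hz a ha)) (fun z hz b hb => Subtype.ext (c3 z hz b hb)) ?_ ?_
      · intro a ha ha1 z hz
        obtain ⟨b, hb, e⟩ := c4 a ha (fun e => ha1 (Subtype.ext e)) z hz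
        exact ⟨⟨b, hle B hB hb⟩, hb, Subtype.ext e⟩
      · intro b hb hb1 z hz
        obtain ⟨a, ha, e⟩ := c5 b hb (fun e => hb1 (Subtype.ext e)) z hz
        exact ⟨⟨a, hle A hA ha⟩, ha, Subtype.ext e⟩
  have hS : IsRootSubgroupSet ((fun A : Subgroup Gr => A.subgroupOf U) '' family F n) := by
    refine ⟨?_, ?_, ?_, ?_, ?_⟩
    · rintro _ ⟨A, hA, rfl⟩
      obtain ⟨p, r, h, rfl⟩ := mem_family.1 hA
      exact ⟨⟨fun x y => Subtype.ext (Subtype.ext (SG_comm h h (bil_self h.left) h.orth
        ((bil_comm r p).trans h.orth) (bil_self h.right) _ x.2 _ y.2))⟩⟩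
    · rintro _ ⟨A, hA, rfl⟩
      exact hnb A hA
    · apply Subgroup.map_injective U.subtype_injective
      rw [iSup_image, Subgroup.map_iSup, ← MonoidHom.range_eq_map, U.range_subtype]
      simp only [Subgroup.map_iSup]
      conv_rhs => rw [hU]
      exact iSup_congr fun A => iSup_congr fun hA => Subgroup.map_subgroupOf_eq_of_le (hle A hA)
    · rintro _ ⟨A, hA, rfl⟩ g
      obtain ⟨p, r, h, rfl⟩ := mem_family.1 hA
      obtain ⟨h1, h2⟩ := conjBy_SG h (g : Gr)
      refine ⟨_, mem_family.2 ⟨_, _, h1, h2⟩, ?_⟩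
      ext x
      show (x : Gr) ∈ conjBy (SG p r) (g : Gr) ↔ x ∈ conjBy ((SG p r).subgroupOf U) g
      rw [mem_conjBy, mem_conjBy]
      exact Iff.rfl
    · rintro _ ⟨A, hA, rfl⟩ _ ⟨B, hB, rfl⟩
      rcases hpair A hA B hB with h | h | h
      exacts [Or.inl h, Or.inr (Or.inl h.1), Or.inr (Or.inr h)]
  refine ⟨hS, ?_⟩
  rintro _ ⟨A, hA, rfl⟩ _ ⟨B, hB, rfl⟩ hAB
  rcases hpair A hA B hB with h | h | h
  · exact absurd h (bracket_ne_bot hAB)
  · exact h.2
  · exact (not_case_of_rankOne hS ⟨A, hA, rfl⟩ ⟨B, hB, rfl⟩ hAB h).elim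

end Cfsg.Agent.RootLib.SiegelEx
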