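import Cfsg.Agent.Lib.Root.Special

/-!
Special rank one groups with unipotent subgroups of order two and three.
-/

set_option autoImplicit false

namespace Cfsg.Agent.RootLib

open Cfsg

variable {G : Type*} [Group G]

/-- The Bruhat normal forms `a^i` and `a^i n a^j`. -/
def smallWord {p : ℕ} (a n : G) : Fin p ⊕ Fin p × Fin p → G
  | .inl i => a ^ (i : ℕ)
  | .inr (i, j) => a ^ (i : ℕ) * n * a ^ (j : ℕ)

theorem pow_mul_fin {p : ℕ} [NeZero p] {a : G} (ha : a ^ p = 1) (i : Fin p) (m : ℕ) :
    ∃ k : Fin p, a ^ m * a ^ (i : ℕ) = a ^ (k : ℕ) :=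
  ⟨⟨(m + i) % p, Nat.mod_lt _ (Nat.pos_of_neZero p)⟩, by rw [← pow_add, pow_eq_pow_mod _ ha]⟩

section Two

variable {a c : G}

theorem two_word_closed (ha : a * a = 1) (hc : c * c = 1) (hb : a * c * a = c * a * c) :
    (Subgroup.closure ({a, c} : Set G) : Set G) ⊆ Set.range (smallWord (p := 2) a (a * c * a)) := by
  set n := a * c * a with hn
  have hn2 : n * n = 1 := by
    rw [hn, show a * c * a * (a * c * a) = a * c * (a * a) * c * a by group, ha, mul_one,
      mul_assoc a c c, hc, mul_one, ha]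
  have hc' : c = a * n * a := by
    rw [hn, show a * (a * c * a) * a = (a * a) * c * (a * a) by group, ha, one_mul, mul_one]
  have hnan : n * a * n = a * n * a := by
    calc n * a * n = a * c * (a * a) * (a * c * a) := by rw [hn]; group
      _ = a * (c * a * c) * a := by rw [ha]; group
      _ = a * n * a := by rw [← hb]
  have hmem : ∀ g ∈ Set.range (smallWord (p := 2) a n), a * g ∈ Set.range (smallWord (p := 2) a n) ∧
      n * g ∈ Set.range (smallWord (p := 2) a n) := by
    have ha2 : a ^ 2 = 1 := by rw [pow_two, ha]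
    rintro _ ⟨w | ⟨i, j⟩, rfl⟩
    · refine ⟨?_, ⟨.inr (0, w), by simp [smallWord]⟩⟩
      obtain ⟨k, hk⟩ := pow_mul_fin ha2 w 1
      exact ⟨.inl k, by simp only [smallWord]; rw [← hk, pow_one]⟩
    · constructor
      · obtain ⟨k, hk⟩ := pow_mul_fin ha2 i 1
        refine ⟨.inr (k, j), ?_⟩
        simp only [smallWord]
        rw [← hk, pow_one]; simp only [mul_assoc]
      · fin_cases i
        · exact ⟨.inl j, by simp only [smallWord, pow_zero, one_mul, ← mul_assoc, hn2]⟩
        · obtain ⟨k, hk⟩ := pow_mul_fin ha2 j 1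
          refine ⟨.inr (1, k), ?_⟩
          simp only [smallWord, Fin.val_one, pow_one, ← mul_assoc, hnan] at hk ⊢
          rw [mul_assoc _ a, hk]
  intro g hg
  induction hg using Subgroup.closure_induction_left with
  | one => exact ⟨.inl 0, by simp [smallWord]⟩
  | mul_left x hx y _ hy =>
    rcases hx with rfl | rfl
    · exact (hmem y hy).1
    · rw [show x * y = a * (n * (a * y)) by rw [hc']; group]
      exact (hmem _ (hmem _ (hmem y hy).1).2).1
  | inv_mul_cancel x hx y _ hy =>
    rcases hx with rfl | rfl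
    · rw [inv_eq_of_mul_eq_one_left ha]; exact (hmem y hy).1
    · rw [inv_eq_of_mul_eq_one_left hc, show x * y = a * (n * (a * y)) by rw [hc']; group]
      exact (hmem _ (hmem _ (hmem y hy).1).2).1

end Two

section Three

/-- The normal forms with the central element. -/
def smallWord3 (a n : G) : (Fin 3 ⊕ Fin 3 × Fin 3) × Fin 2 → G :=
  fun w => smallWord a n w.1 * (n * n) ^ (w.2 : ℕ)

variable {a c : G}

theorem three_facts (ha : a ^ 3 = 1) (hc : c ^ 3 = 1) (hb : a * c * a = c * a * c) :
    (∀ g ∈ ({a, c, a * c * a} : Set G), Commute (a * c * a * (a * c * a)) g) ∧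
      a * c * a * (a * c * a) * (a * c * a * (a * c * a)) = 1 ∧
      (a * c * a) * a⁻¹ * (a * c * a) = a * (a * c * a) * a ∧
      (a * c * a) * a * (a * c * a) = (a * c * a * (a * c * a)) * (a⁻¹ * (a * c * a) * a⁻¹) := by
  obtain ⟨n, hn⟩ : ∃ n, n = a * c * a := ⟨_, rfl⟩
  have h1 : n * a = c * n := by
    rw [hn]
    calc a * c * a * a = c * a * c * a := by rw [hb]
      _ = c * (a * c * a) := by group
  have h2 : n * c = a * n := by
    rw [hn]
    calc a * c * a * c = a * (c * a * c) := by group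
      _ = a * (a * c * a) := by rw [hb]
  have hza : Commute (n * n) a := by
    show n * n * a = a * (n * n)
    rw [mul_assoc, h1, ← mul_assoc, h2, mul_assoc]
  have hzc : Commute (n * n) c := by
    show n * n * c = c * (n * n)
    rw [mul_assoc, h2, ← mul_assoc, h1, mul_assoc]
  have hzn : Commute (n * n) n := (Commute.refl n).mul_left (Commute.refl n)
  have h3 : n * a⁻¹ * n = a * n * a := by
    have e1 : n * a⁻¹ = c⁻¹ * n := by
      rw [eq_inv_mul_iff_mul_eq, ← mul_assoc, ← h1, mul_inv_cancel_right]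
    calc n * a⁻¹ * n = c⁻¹ * (n * n) := by rw [e1, mul_assoc]
      _ = (n * n) * c⁻¹ := hzc.inv_right.eq.symm
      _ = n * (n * c⁻¹) := mul_assoc _ _ _
      _ = a * n * a := by
        have e2 : n = c * a * c := hn.trans hb
        rw [show n * c⁻¹ = c * a by rw [e2, mul_inv_cancel_right], ← mul_assoc, h2, mul_assoc]
  have h4 : n * a * n = (n * n) * (a⁻¹ * n * a⁻¹) := by
    have e : a⁻¹ * n * a⁻¹ = c := by rw [hn]; group
    rw [e, h1, mul_assoc, hzc.eq]
  have hz2 : (n * n) * (n * n) = 1 := by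
    have hc3 : c * c * c = 1 := by rw [← hc, pow_succ, pow_two]
    have e : c = a⁻¹ * n * a⁻¹ := by rw [hn]; group
    have e2 : c * c * c = (n * n) * (n * n) := by
      calc c * c * c = a⁻¹ * (n * (a⁻¹ * a⁻¹) * n) * (a⁻¹ * a⁻¹) * n * a⁻¹ := by rw [e]; group
        _ = a⁻¹ * (n * a * n) * a * n * a⁻¹ := by
          have : a⁻¹ * a⁻¹ = a := by
            rw [← mul_inv_rev]; exact inv_eq_of_mul_eq_one_left (by rw [← mul_assoc, ← ha, pow_succ, pow_two])
          rw [this]
        _ = a⁻¹ * ((n * n) * a⁻¹) * (n * n) * a⁻¹ := by rw [h4]; group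
        _ = (n * n) * (a⁻¹ * a⁻¹) * ((n * n) * a⁻¹) := by
          rw [← mul_assoc a⁻¹, ← hza.inv_right.eq]; group
        _ = (n * n) * (n * n) * (a⁻¹ * a⁻¹ * a⁻¹) := by
          rw [mul_assoc (n * n), ← mul_assoc (a⁻¹ * a⁻¹),
            ← (hza.inv_right.mul_right hza.inv_right).eq]
          group
        _ = (n * n) * (n * n) := by
          rw [show a⁻¹ * a⁻¹ * a⁻¹ = (a ^ 3)⁻¹ by group, ha, inv_one, mul_one]
    rw [← e2, hc3]
  subst hn
  refine ⟨?_, hz2, h3, h4⟩
  rintro g (rfl | rfl | rfl)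
  exacts [hza, hzc, hzn]

theorem three_word_closed (ha : a ^ 3 = 1) (hc : c ^ 3 = 1) (hb : a * c * a = c * a * c) :
    (Subgroup.closure ({a, c} : Set G) : Set G) ⊆ Set.range (smallWord3 a (a * c * a)) := by
  obtain ⟨hz, hz2, h3, h4⟩ := three_facts ha hc hb
  set n := a * c * a with hn
  set z := n * n with hzdef
  have hza : Commute z a := hz a (Or.inl rfl)
  have hzn : Commute z n := hz n (Or.inr (Or.inr rfl))
  have hmem : ∀ g ∈ Set.range (smallWord3 a n), a * g ∈ Set.range (smallWord3 a n) ∧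
      n * g ∈ Set.range (smallWord3 a n) := by
    rintro _ ⟨⟨w, e⟩, rfl⟩
    have hadd : ∀ (x : G), z * x = x * z → ∀ m : Fin 2, ∃ k : Fin 2, z * x * z ^ (m : ℕ) = x * z ^ (k : ℕ) := by
      intro x hx m
      obtain ⟨k, hk⟩ := pow_mul_fin (p := 2) (a := z) (by rw [pow_two]; exact hz2) m 1
      exact ⟨k, by rw [hx, mul_assoc, ← hk, pow_one]⟩
    rcases w with i | ⟨i, j⟩
    · refine ⟨?_, ⟨(.inr (0, i), e), by simp [smallWord3, smallWord, hzdef, mul_assoc]⟩⟩
      obtain ⟨k, hk⟩ := pow_mul_fin ha i 1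
      exact ⟨(.inl k, e), by simp only [smallWord3, smallWord]; rw [← hk, pow_one, mul_assoc]⟩
    · constructor
      · obtain ⟨k, hk⟩ := pow_mul_fin ha i 1
        refine ⟨(.inr (k, j), e), ?_⟩
        simp only [smallWord3, smallWord]
        rw [← hk, pow_one]; simp only [mul_assoc]
      · fin_cases i
        · obtain ⟨k, hk⟩ := hadd (a ^ (j : ℕ)) ((hza.pow_right _).eq) e
          refine ⟨(.inl j, k), ?_⟩
          simp only [smallWord3, smallWord, pow_zero, one_mul, ← hzdef]
          rw [← hk, hzdef]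
          simp only [mul_assoc]
        · obtain ⟨j', hj⟩ := pow_mul_fin ha j 2
          have ha' : a⁻¹ = a ^ 2 := inv_eq_of_mul_eq_one_right (by rw [← pow_succ', ha])
          obtain ⟨k, hk⟩ := hadd (a⁻¹ * n * a ^ (j' : ℕ))
            ((hza.inv_right.mul_right hzn).mul_right (hza.pow_right _)).eq e
          refine ⟨(.inr (2, j'), k), ?_⟩
          simp only [smallWord3, smallWord, Fin.val_one, pow_one, ← hzdef]
          rw [show ((2 : Fin 3) : ℕ) = 2 from rfl, ← ha', ← hk, ← hj, ← ha']
          calc z * (a⁻¹ * n * (a⁻¹ * a ^ (j : ℕ))) * z ^ (e : ℕ)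
              = (z * (a⁻¹ * n * a⁻¹)) * a ^ (j : ℕ) * z ^ (e : ℕ) := by group
            _ = n * (a * n * a ^ (j : ℕ) * z ^ (e : ℕ)) := by rw [← h4]; group
        · obtain ⟨j', hj⟩ := pow_mul_fin ha j 1
          refine ⟨(.inr (1, j'), e), ?_⟩
          have ha' : a ^ 2 = a⁻¹ := eq_inv_of_mul_eq_one_left (by rw [← pow_succ, ha])
          simp only [smallWord3, smallWord, Fin.val_one, pow_one, ← hzdef] at hj ⊢
          rw [ha', ← hj]
          calc a * n * (a * a ^ (j : ℕ)) * z ^ (e : ℕ) = (a * n * a) * a ^ (j : ℕ) * z ^ (e : ℕ) := by group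
            _ = n * (a⁻¹ * n * a ^ (j : ℕ) * z ^ (e : ℕ)) := by rw [← h3]; group
  have ha2 : a⁻¹ = a * a := inv_eq_of_mul_eq_one_right (by rw [← mul_assoc, ← ha, pow_succ, pow_two])
  have hc2 : c⁻¹ = c * c := inv_eq_of_mul_eq_one_right (by rw [← mul_assoc, ← hc, pow_succ, pow_two])
  have hcn : c = a * a * n * (a * a) := by rw [← ha2, hn]; group
  have hc' : ∀ y ∈ Set.range (smallWord3 a n), c * y ∈ Set.range (smallWord3 a n) := by
    intro y hy
    rw [hcn]
    simp only [mul_assoc]
    exact (hmem _ (hmem _ (hmem _ (hmem _ (hmem y hy).1).1).2).1).1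
  intro g hg
  induction hg using Subgroup.closure_induction_left with
  | one => exact ⟨(.inl 0, 0), by simp [smallWord3, smallWord]⟩
  | mul_left x hx y _ hy =>
    rcases hx with rfl | rfl
    · exact (hmem y hy).1
    · exact hc' y hy
  | inv_mul_cancel x hx y _ hy =>
    rcases hx with rfl | rfl
    · rw [ha2, mul_assoc]; exact (hmem _ (hmem y hy).1).1
    · rw [hc2, mul_assoc]; exact hc' _ (hc' y hy)

end Three

/-- A homomorphism defined by the same closed set of words on both sides. -/
theorem exists_hom_of_words {K X ι : Type*} [Group K] [Group X]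
    (f : ι → K) (fX : ι → X) (gens : Set (K × X))
    (hcl : (Subgroup.closure gens : Set (K × X)) ⊆ Set.range fun i => (f i, fX i))
    (hmem : ∀ i, (f i, fX i) ∈ Subgroup.closure gens) (hbij : Function.Bijective f) :
    ∃ φ : K →* X, ∀ i, φ (f i) = fX i := by
  have huniq : ∀ {k : K} {x y : X}, (k, x) ∈ Subgroup.closure gens → (k, y) ∈ Subgroup.closure gens → x = y := by
    intro k x y hx hy
    obtain ⟨i, hi⟩ := hcl hx
    obtain ⟨j, hj⟩ := hcl hy
    simp only [Prod.mk.injEq] at hi hj
    rw [← hi.2, ← hj.2, hbij.1 (hi.1.trans hj.1.symm)]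
  let e := Equiv.ofBijective f hbij
  refine ⟨MonoidHom.mk' (fun k => fX (e.symm k)) fun k l => ?_, fun i => ?_⟩
  · have hk := hmem (e.symm k)
    have hl := hmem (e.symm l)
    have hkl := hmem (e.symm (k * l))
    have he : ∀ k, f (e.symm k) = k := fun k => e.apply_symm_apply k
    rw [he] at hk hl hkl
    exact huniq hkl (mul_mem hk hl)
  · show fX (e.symm (f i)) = fX i
    rw [show f i = e i from rfl, e.symm_apply_apply]

end Cfsg.Agent.RootLib

namespace Cfsg.Agent.RootLib

open Cfsg

section Dichotomy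

variable {X : Type*} [Group X] {A B : Subgroup X}

theorem SpecialPair.word_eq_one (h : SpecialPair A B) {p : ℕ} {a c : X} (pr : Partner A B a c)
    (hord : orderOf a = p) {z : X} (hzA : conjBy A z = A) (hzB : conjBy B z = B)
    {w : Fin p ⊕ Fin p × Fin p} (he : smallWord a (a * c * a) w * z = 1) :
    ∃ i : Fin p, w = .inl i ∧ (i : ℕ) = 0 := by
  rcases w with i | ⟨i, j⟩
  · refine ⟨i, rfl, ?_⟩
    simp only [smallWord] at he
    have h1 : conjBy B (a ^ (i : ℕ)) = B := by
      conv_lhs => rw [← hzB]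
      rw [conjBy_conjBy, he, conjBy_one]
    have h2 := eq_one_of_normalizes h.pair (pow_mem pr.1 _) h1
    exact Nat.eq_zero_of_dvd_of_lt (orderOf_dvd_of_pow_eq_one h2) (by rw [hord]; exact i.2)
  · exfalso
    simp only [smallWord] at he
    have h1 := congrArg (conjBy A) he
    rw [conjBy_one, ← conjBy_conjBy, hzA, ← conjBy_conjBy, conjBy_eq_self_of_mem (pow_mem pr.1 _),
      ← conjBy_conjBy, h.weyl_A pr] at h1
    have h2 := eq_inv_conjBy h1
    rw [conjBy_eq_self_of_mem (inv_mem (pow_mem pr.1 _))] at h2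
    exact h.pair.ne h2.symm

theorem smallWord_mem {G : Type*} [Group G] {p : ℕ} {a c : G} {H : Subgroup G} (ha : a ∈ H) (hc : c ∈ H)
    (w : Fin p ⊕ Fin p × Fin p) : smallWord a (a * c * a) w ∈ H := by
  rcases w with i | ⟨i, j⟩
  · exact pow_mem ha _
  · exact mul_mem (mul_mem (pow_mem ha _) (mul_mem (mul_mem ha hc) ha)) (pow_mem ha _)

theorem smallWord_prod {K : Type*} [Group K] {p : ℕ} (u n : K) (u' n' : X) (w : Fin p ⊕ Fin p × Fin p) :
    smallWord ((u, u') : K × X) (n, n') w = (smallWord u n w, smallWord u' n' w) := by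
  rcases w with i | ⟨i, j⟩ <;> simp [smallWord]

/-- The small cases: `SL₂(2)`, `SL₂(3)`, `PSL₂(3)`. -/
theorem SpecialPair.small_cases (h : SpecialPair A B) (hgen : A ⊔ B = ⊤) (hA : ENat.card A ≤ 3) :
    Nonempty (X ≃* Matrix.SpecialLinearGroup (Fin 2) (ZMod 2)) ∨
      Nonempty (X ≃* Matrix.SpecialLinearGroup (Fin 2) (ZMod 3)) ∨
      Nonempty (X ≃* Matrix.ProjectiveSpecialLinearGroup (Fin 2) (ZMod 3)) := by
  have hfin : Finite A := by
    rw [← ENat.card_lt_top]
    exact lt_of_le_of_lt hA (WithTop.coe_lt_top _)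
  have hcard : Nat.card A ≤ 3 := by
    rw [ENat.card_eq_coe_natCard] at hA
    exact_mod_cast hA
  have hA1 : 1 < Nat.card A := (A.one_lt_card_iff_ne_bot).2 (left_ne_bot h.pair)
  obtain ⟨⟨a, ha⟩, hane⟩ := A.ne_bot_iff_exists_ne_one.1 (left_ne_bot h.pair)
  have ha1 : a ≠ 1 := fun e => hane (Subtype.ext e)
  have hp : (Nat.card A).Prime := by
    rcases (show Nat.card A = 2 ∨ Nat.card A = 3 by omega) with e | e <;> rw [e] <;> norm_num
  have hapow : a ^ Nat.card A = 1 := congrArg Subtype.val (pow_card_eq_one' (x := (⟨a, ha⟩ : A)))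
  have : Fact (Nat.card A).Prime := ⟨hp⟩
  have hord : orderOf a = Nat.card A := orderOf_eq_prime hapow ha1
  have hzp : Subgroup.zpowers a = A := Subgroup.eq_of_le_of_card_ge (Subgroup.zpowers_le.2 ha)
    (by rw [Nat.card_zpowers, hord])
  obtain ⟨c, pr⟩ := h.exists_partner ha ha1
  have hb := h.braid a c pr
  have hcc : c = (a * c * a) * a * (a * c * a)⁻¹ := (h.conj_weyl_a pr).symm
  have hcpow : c ^ Nat.card A = 1 := by rw [hcc, conj_pow, hapow, mul_one, mul_inv_cancel]
  have hB : B ≤ Subgroup.zpowers c := by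
    intro y hy
    have h1 : (a * c * a)⁻¹ * y * (a * c * a) ∈ A := mem_conjBy.1 (by rw [h.weyl_A pr]; exact hy)
    rw [← hzp, Subgroup.mem_zpowers_iff] at h1
    obtain ⟨k, hk⟩ := h1
    refine Subgroup.mem_zpowers_iff.2 ⟨k, ?_⟩
    rw [hcc, conj_zpow, hk]
    group
  have hclosure : Subgroup.closure ({a, c} : Set X) = ⊤ := by
    refine top_le_iff.1 (hgen ▸ sup_le ?_ ?_)
    · rw [← hzp, Subgroup.zpowers_le]
      exact Subgroup.subset_closure (Or.inl rfl)
    · exact hB.trans (Subgroup.zpowers_le.2 (Subgroup.subset_closure (Or.inr rfl)))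
  rcases (show Nat.card A = 2 ∨ Nat.card A = 3 by omega) with e | e
  · left
    rw [e] at hapow hcpow hord
    rw [pow_two] at hapow hcpow
    let u : Matrix.SpecialLinearGroup (Fin 2) (ZMod 2) := ⟨!![1, 1; 0, 1], by decide⟩
    let l : Matrix.SpecialLinearGroup (Fin 2) (ZMod 2) := ⟨!![1, 0; 1, 1], by decide⟩
    have hu : u * u = 1 := by decide
    have hl : l * l = 1 := by decide
    have hbul : u * l * u = l * u * l := by decide
    obtain ⟨φ, hφ⟩ := exists_hom_of_words (K := Matrix.SpecialLinearGroup (Fin 2) (ZMod 2)) (X := X)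
      (smallWord (p := 2) u (u * l * u)) (smallWord (p := 2) a (a * c * a)) {(u, a), (l, c)}
      (fun g hg => by
        obtain ⟨w, hw⟩ := two_word_closed (a := ((u, a) : _ × X)) (c := (l, c))
          (Prod.ext hu hapow) (Prod.ext hl hcpow) (Prod.ext hbul hb) hg
        exact ⟨w, by rw [← hw]; exact (smallWord_prod _ _ _ _ w).symm⟩)
      (fun w => by
        rw [← smallWord_prod]
        exact smallWord_mem (a := ((u, a) : _ × X)) (c := (l, c)) (Subgroup.subset_closure (Or.inl rfl))
          (Subgroup.subset_closure (Or.inr rfl)) w)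
      (by decide +kernel)
    have hsurj : Function.Surjective φ := fun x => by
      obtain ⟨w, hw⟩ := two_word_closed hapow hcpow hb (hclosure ▸ Subgroup.mem_top x)
      exact ⟨_, (hφ w).trans hw⟩
    have hinj : Function.Injective φ := by
      rw [injective_iff_map_eq_one]
      intro g hg
      obtain ⟨w, rfl⟩ := (show Function.Surjective (smallWord (p := 2) u (u * l * u)) by decide +kernel) g
      rw [hφ] at hg
      obtain ⟨i, rfl, hi⟩ := h.word_eq_one pr hord (z := 1) (conjBy_one A) (conjBy_one B) (by rw [mul_one]; exact hg)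
      simp [smallWord, hi]
    exact ⟨(MulEquiv.ofBijective φ ⟨hinj, hsurj⟩).symm⟩
  · right
    rw [e] at hapow hcpow hord
    let u : Matrix.SpecialLinearGroup (Fin 2) (ZMod 3) := ⟨!![1, 1; 0, 1], by decide⟩
    let l : Matrix.SpecialLinearGroup (Fin 2) (ZMod 3) := ⟨!![1, 0; 2, 1], by decide⟩
    have hu : u ^ 3 = 1 := by decide
    have hl : l ^ 3 = 1 := by decide
    have hbul : u * l * u = l * u * l := by decide
    set n := u * l * u with hn
    set m := a * c * a with hm
    have hprod : ∀ w, smallWord3 ((u, a) : _ × X) (n, m) w = (smallWord3 u n w, smallWord3 a m w) :=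
      fun w => by simp [smallWord3, smallWord_prod]
    obtain ⟨φ, hφ⟩ := exists_hom_of_words (K := Matrix.SpecialLinearGroup (Fin 2) (ZMod 3)) (X := X)
      (smallWord3 u n) (smallWord3 a m) {(u, a), (l, c)}
      (fun g hg => by
        obtain ⟨w, hw⟩ := three_word_closed (a := ((u, a) : _ × X)) (c := (l, c))
          (Prod.ext hu hapow) (Prod.ext hl hcpow) (Prod.ext hbul hb) hg
        exact ⟨w, by rw [← hw]; exact (hprod w).symm⟩)
      (fun w => by
        rw [← hprod]
        have hua : ((u, a) : Matrix.SpecialLinearGroup (Fin 2) (ZMod 3) × X) ∈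
            Subgroup.closure {((u, a) : Matrix.SpecialLinearGroup (Fin 2) (ZMod 3) × X), (l, c)} :=
          Subgroup.subset_closure (Or.inl rfl)
        have hlc : ((l, c) : Matrix.SpecialLinearGroup (Fin 2) (ZMod 3) × X) ∈
            Subgroup.closure {((u, a) : Matrix.SpecialLinearGroup (Fin 2) (ZMod 3) × X), (l, c)} :=
          Subgroup.subset_closure (Or.inr rfl)
        exact mul_mem (smallWord_mem hua hlc w.1)
          (pow_mem (mul_mem (mul_mem (mul_mem hua hlc) hua) (mul_mem (mul_mem hua hlc) hua)) _))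
      (by decide +kernel)
    have hsurj : Function.Surjective φ := fun x => by
      obtain ⟨w, hw⟩ := three_word_closed hapow hcpow hb (hclosure ▸ Subgroup.mem_top x)
      exact ⟨_, (hφ w).trans hw⟩
    have hz : ∀ e : ℕ, conjBy A ((m * m) ^ e) = A ∧ conjBy B ((m * m) ^ e) = B := by
      intro e
      induction e with
      | zero => rw [pow_zero]; exact ⟨conjBy_one A, conjBy_one B⟩
      | succ e ih =>
        rw [pow_succ]
        exact ⟨by rw [← conjBy_conjBy, ← conjBy_conjBy, h.weyl_A pr, h.weyl_B pr, ih.1],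
          by rw [← conjBy_conjBy, ← conjBy_conjBy, h.weyl_B pr, h.weyl_A pr, ih.2]⟩
    have hker : ∀ g ∈ φ.ker, g = 1 ∨ g = n * n ∧ m * m = 1 := by
      intro g hg
      obtain ⟨⟨w, e⟩, rfl⟩ := (show Function.Surjective (smallWord3 u n) by decide +kernel) g
      rw [MonoidHom.mem_ker, hφ] at hg
      obtain ⟨i, rfl, hi⟩ := h.word_eq_one pr hord (hz e).1 (hz e).2 hg
      fin_cases e
      · left; simp [smallWord3, smallWord, hi]
      · right
        simp only [smallWord3, smallWord, hi, pow_zero, one_mul, Fin.val_one, pow_one] at hg ⊢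
        exact ⟨by simp, hg⟩
    by_cases hm1 : m * m = 1
    · right
      have hke : φ.ker = Subgroup.center (Matrix.SpecialLinearGroup (Fin 2) (ZMod 3)) := by
        refine le_antisymm (fun g hg => ?_) fun g hg => ?_
        · rcases hker g hg with rfl | ⟨rfl, -⟩
          · exact one_mem _
          · rw [Subgroup.mem_center_iff]; decide +kernel
        · have hc2 : ∀ g : Matrix.SpecialLinearGroup (Fin 2) (ZMod 3),
              g * u = u * g → g * l = l * g → g = 1 ∨ g = n * n := by decide +kernel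
          rw [Subgroup.mem_center_iff] at hg
          rcases hc2 g (hg u).symm (hg l).symm with rfl | rfl
          · exact one_mem _
          · have h1 := hφ (.inl 0, 1)
            simp only [smallWord3, smallWord, Fin.val_zero, pow_zero, one_mul, Fin.val_one, pow_one] at h1
            rw [MonoidHom.mem_ker, h1, hm1]
      exact ⟨((QuotientGroup.quotientMulEquivOfEq hke.symm).trans
        (QuotientGroup.quotientKerEquivOfSurjective φ hsurj)).symm⟩
    · left
      have hinj : Function.Injective φ := by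
        rw [injective_iff_map_eq_one]
        intro g hg
        exact (hker g hg).resolve_right fun h' => hm1 h'.2
      exact ⟨(MulEquiv.ofBijective φ ⟨hinj, hsurj⟩).symm⟩

end Dichotomy

end Cfsg.Agent.RootLib
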