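import Cfsg.Agent.Lib.Root.Examples
import Cfsg.Agent.Lib.Root.Nondeg
import Cfsg.Agent.Lib.Forms.Sp

/-!
Symplectic transvection groups as abstract transvection groups.
-/

set_option autoImplicit false

namespace Cfsg.Agent.RootLib.SpEx

open Cfsg Matrix FormsLib

variable {F : Type*} [Field F] {n : ℕ}

/-- The transvection group of the vector `p`. -/
def TS (p : Fin n ⊕ Fin n → F) : Subgroup ↥(Matrix.symplecticGroup (Fin n) F) :=
  Subgroup.closure {g | ∃ c : F, ∀ v : Fin n ⊕ Fin n → F,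
    (g : Matrix (Fin n ⊕ Fin n) (Fin n ⊕ Fin n) F) *ᵥ v = v + (c * (v ⬝ᵥ (Matrix.J (Fin n) F *ᵥ p))) • p}

theorem ext_mulVec {g h : ↥(Matrix.symplecticGroup (Fin n) F)} (e : ∀ v, g.1 *ᵥ v = h.1 *ᵥ v) : g = h :=
  Subtype.ext (Matrix.ext_iff_mulVec.2 e)

theorem mul_act (g h : ↥(Matrix.symplecticGroup (Fin n) F)) (v : Fin n ⊕ Fin n → F) :
    (g * h).1 *ᵥ v = g.1 *ᵥ (h.1 *ᵥ v) := by
  rw [Submonoid.coe_mul, Matrix.mulVec_mulVec]

theorem exists_el (p : Fin n ⊕ Fin n → F) (c : F) : ∃ g : ↥(Matrix.symplecticGroup (Fin n) F),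
    ∀ v, g.1 *ᵥ v = v + (c * spB n F v p) • p :=
  ⟨⟨_, transvection_mem_symplectic p c⟩, fun v => by
    show _ *ᵥ v = _
    rw [sympTransvection_mulVec, tau_apply]⟩

theorem mem_TS {p : Fin n ⊕ Fin n → F} {g : ↥(Matrix.symplecticGroup (Fin n) F)} :
    g ∈ TS p ↔ ∃ c : F, ∀ v, g.1 *ᵥ v = v + (c * spB n F v p) • p := by
  simp only [spB_apply]
  refine ⟨fun hg => ?_, fun hg => Subgroup.subset_closure hg⟩
  induction hg using Subgroup.closure_induction with
  | mem x hx => exact hx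
  | one => exact ⟨0, fun v => by simp⟩
  | mul x y _ _ hx hy =>
    obtain ⟨c, hc⟩ := hx
    obtain ⟨d, hd⟩ := hy
    refine ⟨c + d, fun v => ?_⟩
    rw [mul_act, hd, hc]
    simp only [← spB_apply, map_add, map_smul, LinearMap.add_apply, LinearMap.smul_apply, spB_alt p,
      smul_eq_mul, mul_zero, add_zero]
    module
  | inv x _ hx =>
    obtain ⟨c, hc⟩ := hx
    obtain ⟨t, ht⟩ := exists_el p (-c)
    have hxt : x * t = 1 := ext_mulVec fun v => by
      rw [mul_act, ht, hc, Submonoid.coe_one, Matrix.one_mulVec]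
      simp only [← spB_apply, map_add, map_smul, LinearMap.add_apply, LinearMap.smul_apply, spB_alt p,
        smul_eq_mul, mul_zero, add_zero]
      module
    rw [inv_eq_of_mul_eq_one_right hxt]
    exact ⟨-c, fun v => by rw [ht, spB_apply]⟩

theorem TS_comm {p r : Fin n ⊕ Fin n → F} (h : spB n F p r = 0) :
    ∀ x ∈ TS p, ∀ y ∈ TS r, x * y = y * x := by
  intro x hx y hy
  obtain ⟨c, hc⟩ := mem_TS.1 hx
  obtain ⟨d, hd⟩ := mem_TS.1 hy
  refine ext_mulVec fun v => ?_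
  have h' : spB n F r p = 0 := by rw [alt_swap spB_alt p r, h, neg_zero]
  rw [mul_act, mul_act, hc, hd, hc, hd]
  simp only [map_add, map_smul, LinearMap.add_apply, LinearMap.smul_apply, h, h', smul_eq_mul, mul_zero,
    add_zero]
  abel

theorem exists_pairing {p : Fin n ⊕ Fin n → F} (hp : p ≠ 0) : ∃ u, spB n F p u ≠ 0 := by
  by_contra hno
  push Not at hno
  exact hp (spB_nondeg.1 p hno)

theorem TS_ne_bot {p : Fin n ⊕ Fin n → F} (hp : p ≠ 0) : TS p ≠ ⊥ := by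
  intro e
  obtain ⟨u, hu⟩ := exists_pairing hp
  obtain ⟨t, ht⟩ := exists_el p 1
  have h1 : t = 1 := Subgroup.mem_bot.1 (e ▸ mem_TS.2 ⟨1, ht⟩)
  have := ht u
  rw [h1, Submonoid.coe_one, Matrix.one_mulVec, left_eq_add, one_mul, smul_eq_zero, alt_swap spB_alt p u,
    neg_eq_zero] at this
  exact this.elim hu hp

theorem conjBy_TS (p : Fin n ⊕ Fin n → F) (g : ↥(Matrix.symplecticGroup (Fin n) F)) :
    conjBy (TS p) g = TS (g.1 *ᵥ p) := by
  have key : ∀ (g : ↥(Matrix.symplecticGroup (Fin n) F)) (p : Fin n ⊕ Fin n → F) x,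
      x ∈ TS p → g * x * g⁻¹ ∈ TS (g.1 *ᵥ p) := by
    intro g p x hx
    obtain ⟨c, hc⟩ := mem_TS.1 hx
    refine mem_TS.2 ⟨c, fun v => ?_⟩
    have hv : g.1 *ᵥ ((g⁻¹).1 *ᵥ v) = v := by
      rw [← mul_act, mul_inv_cancel, Submonoid.coe_one, Matrix.one_mulVec]
    rw [mul_act, mul_act, hc, Matrix.mulVec_add, Matrix.mulVec_smul, hv,
      ← (mem_symplectic_iff _).1 g.2 ((g⁻¹).1 *ᵥ v) p, hv]
  ext x
  constructor
  · rintro ⟨t, ht, rfl⟩
    exact key g p t ht
  · intro hx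
    have := key g⁻¹ _ x hx
    rw [← mul_act, inv_mul_cancel, Submonoid.coe_one, Matrix.one_mulVec, inv_inv] at this
    exact mem_conjBy.2 this

/-- The copy of `SL₂` on a hyperbolic plane. -/
theorem exists_hom {p r : Fin n ⊕ Fin n → F} (h : spB n F p r ≠ 0) :
    IsRankOnePair (TS p) (TS r) ∧ IsPSL2PairOver F (TS p) (TS r) := by
  obtain ⟨a, ha⟩ : ∃ a, a = spB n F p r := ⟨_, rfl⟩
  rw [← ha] at h
  have hrp : spB n F r p = -a := by rw [alt_swap spB_alt p r, ha]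
  let V : Matrix (Fin n ⊕ Fin n) (Fin 2) F := (Matrix.of ![p, r])ᵀ
  let P : Matrix (Fin 2) (Fin n ⊕ Fin n) F :=
    Matrix.of ![a⁻¹ • (Matrix.J (Fin n) F *ᵥ r), -a⁻¹ • (Matrix.J (Fin n) F *ᵥ p)]
  have hP : ∀ v, (P *ᵥ v) 0 = a⁻¹ * spB n F v r ∧ (P *ᵥ v) 1 = -a⁻¹ * spB n F v p := fun v => by
    constructor <;> rw [spB_apply, dotProduct_comm]
    · show (a⁻¹ • (Matrix.J (Fin n) F *ᵥ r)) ⬝ᵥ v = _
      rw [smul_dotProduct, smul_eq_mul]
    · show (-a⁻¹ • (Matrix.J (Fin n) F *ᵥ p)) ⬝ᵥ v = _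
      rw [smul_dotProduct, smul_eq_mul]
  have hPV : P * V = 1 := by
    ext i j
    have e : (P * V) i j = (P *ᵥ (![p, r] j)) i := rfl
    rw [e]
    fin_cases i <;> fin_cases j <;>
      simp [(hP _).1, (hP _).2, spB_alt p, spB_alt r, ← ha, hrp, h]
  have hact : ∀ (N : Matrix (Fin 2) (Fin 2) F) v, (1 + V * N * P) *ᵥ v =
      v + (N 0 0 * (a⁻¹ * spB n F v r) + N 0 1 * (-a⁻¹ * spB n F v p)) • p +
        (N 1 0 * (a⁻¹ * spB n F v r) + N 1 1 * (-a⁻¹ * spB n F v p)) • r := by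
    intro N v
    rw [Matrix.add_mulVec, Matrix.one_mulVec, ← Matrix.mulVec_mulVec, ← Matrix.mulVec_mulVec, add_assoc]
    congr 1
    ext x
    simp [V, Matrix.mulVec, dotProduct, Fin.sum_univ_two, ← (hP v).1, ← (hP v).2]
    ring
  let f : Matrix.SpecialLinearGroup (Fin 2) F →* ↥(Matrix.symplecticGroup (Fin n) F) :=
    { toFun := fun M => ⟨1 + V * (M.1 - 1) * P, (mem_symplectic_iff _).2 fun u v => by
        have hdet : (M : Matrix (Fin 2) (Fin 2) F).det = 1 := M.2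
        rw [Matrix.det_fin_two] at hdet
        rw [hact, hact]
        simp only [map_add, map_smul, LinearMap.add_apply, LinearMap.smul_apply, smul_eq_mul, spB_alt p,
          spB_alt r, ← ha, hrp, alt_swap spB_alt v p, alt_swap spB_alt v r, Matrix.sub_apply,
          Matrix.one_apply_eq, ne_eq, Fin.zero_eq_one_iff, Nat.succ_ne_self, not_false_eq_true,
          Matrix.one_apply_ne, Fin.one_eq_zero_iff, sub_zero]
        field_simp
        linear_combination a * (spB n F u p * spB n F v r - spB n F u r * spB n F v p) * hdet⟩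
      map_one' := Subtype.ext (by
        show 1 + V * (1 - 1) * P = (1 : Matrix (Fin n ⊕ Fin n) (Fin n ⊕ Fin n) F)
        simp)
      map_mul' := fun M M' => Subtype.ext (by
        show 1 + V * (M.1 * M'.1 - 1) * P = (1 + V * (M.1 - 1) * P) * (1 + V * (M'.1 - 1) * P)
        rw [show M.1 * M'.1 - 1 = (M.1 - 1) + (M'.1 - 1) + (M.1 - 1) * (M'.1 - 1) by noncomm_ring]
        simp only [Matrix.add_mul, Matrix.mul_add, Matrix.one_mul, Matrix.mul_one, Matrix.mul_assoc]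
        rw [← Matrix.mul_assoc P V, hPV, Matrix.one_mul]
        abel) }
  have hf : ∀ M v, (f M).1 *ᵥ v = (1 + V * (M.1 - 1) * P) *ᵥ v := fun M v => rfl
  have hinj : Function.Injective f := by
    intro M M' e
    apply Subtype.ext
    have e0 : 1 + V * (M.1 - 1) * P = 1 + V * (M'.1 - 1) * P := congrArg Subtype.val e
    have e1 := congrArg (fun X : Matrix (Fin n ⊕ Fin n) (Fin n ⊕ Fin n) F => P * (X - 1) * V) e0
    simp only [add_sub_cancel_left, Matrix.mul_assoc] at e1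
    rw [← Matrix.mul_assoc P V, hPV, Matrix.mul_one, Matrix.mul_one, Matrix.one_mul,
      ← Matrix.mul_assoc P V, hPV, Matrix.one_mul] at e1
    exact sub_left_injective e1
  have hu : ∀ t v, (f (uEl t)).1 *ᵥ v = v + ((-t * a⁻¹) * spB n F v p) • p := fun t v => by
    rw [hf, hact]
    simp [mul_assoc]
  have hl : ∀ t v, (f (lEl t)).1 *ᵥ v = v + ((t * a⁻¹) * spB n F v r) • r := fun t v => by
    rw [hf, hact]
    simp [mul_assoc]
  refine pair_of_hom f hinj ?_ ?_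
  · ext x
    constructor
    · rintro ⟨u, hu', rfl⟩
      obtain ⟨t, rfl⟩ := mem_upper.1 hu'
      exact mem_TS.2 ⟨_, hu t⟩
    · intro hx
      obtain ⟨c, hc⟩ := mem_TS.1 hx
      refine ⟨uEl (-(c * a)), mem_upper.2 ⟨_, rfl⟩, ext_mulVec fun v => ?_⟩
      rw [hu, hc, neg_neg, mul_inv_cancel_right₀ h]
  · ext x
    constructor
    · rintro ⟨u, hu', rfl⟩
      obtain ⟨t, rfl⟩ := mem_lower.1 hu'
      exact mem_TS.2 ⟨_, hl t⟩
    · intro hx
      obtain ⟨c, hc⟩ := mem_TS.1 hx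
      refine ⟨lEl (c * a), mem_lower.2 ⟨_, rfl⟩, ext_mulVec fun v => ?_⟩
      rw [hl, hc, mul_inv_cancel_right₀ h]

/-- The family of all symplectic transvection groups. -/
def family (F : Type*) [Field F] (n : ℕ) : Set (Subgroup ↥(Matrix.symplecticGroup (Fin n) F)) :=
  {A | ∃ p : Fin n ⊕ Fin n → F, p ≠ 0 ∧ A = TS p}

theorem isRootSubgroupSet (F : Type*) [Field F] (n : ℕ) :
    IsRootSubgroupSet (family F n) ∧ IsDegenerateRootSet (family F n) ∧
      IsKRootSubgroupSet F (family F n) ∧ IsConnectedFamily (FAdj (family F n)) (family F n) := by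
  have hS : IsRootSubgroupSet (family F n) := by
    refine ⟨?_, ?_, ?_, ?_, ?_⟩
    · rintro A ⟨p, -, rfl⟩
      exact ⟨⟨fun x y => Subtype.ext (TS_comm (spB_alt p) x x.2 y y.2)⟩⟩
    · rintro A ⟨p, hp, rfl⟩
      exact TS_ne_bot hp
    · rw [← top_le_iff]
      have h := congrArg (Subgroup.map (spEquiv n F).symm.toMonoidHom) (closure_spTau (m := n) (F := F))
      rw [MonoidHom.map_closure, Subgroup.map_top_of_surjective _ (spEquiv n F).symm.surjective] at h
      rw [← h, Subgroup.closure_le]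
      rintro _ ⟨_, ⟨w, c, rfl⟩, rfl⟩
      by_cases hw : w = 0
      · have : (spEquiv n F).symm (spTau w c) = 1 := ext_mulVec fun v => by
          rw [spEquiv_symm_mulVec]; simp [hw]
        show (spEquiv n F).symm (spTau w c) ∈ _
        rw [this]
        exact one_mem _
      · refine le_iSup₂ (f := fun A (_ : A ∈ family F n) => A) (TS w) ⟨w, hw, rfl⟩
          (mem_TS.2 ⟨c, fun v => ?_⟩)
        show ((spEquiv n F).symm (spTau w c)).1 *ᵥ v = _
        rw [spEquiv_symm_mulVec, coe_spTau, tau_apply]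
    · rintro A ⟨p, hp, rfl⟩ g
      refine ⟨_, fun e => hp ?_, conjBy_TS p g⟩
      have := congrArg ((g⁻¹).1 *ᵥ ·) e
      simpa only [Matrix.mulVec_zero, ← mul_act, inv_mul_cancel, Submonoid.coe_one, Matrix.one_mulVec]
        using this
    · rintro A ⟨p, hp, rfl⟩ B ⟨r, hr, rfl⟩
      by_cases h : spB n F p r = 0
      · exact Or.inl (bracket_eq_bot_iff.2 (TS_comm h))
      · exact Or.inr (Or.inl (exists_hom h).1)
  have hdeg : IsDegenerateRootSet (family F n) := by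
    rintro A ⟨p, hp, rfl⟩ B ⟨r, hr, rfl⟩ hc
    by_cases h : spB n F p r = 0
    · exact hS.ne_bot _ hc.1 (bracket_eq_bot_iff.2 (TS_comm h))
    · exact not_case_of_rankOne hS ⟨p, hp, rfl⟩ ⟨r, hr, rfl⟩ (exists_hom h).1 hc
  refine ⟨hS, hdeg, ⟨hS, ?_⟩, ?_⟩
  · rintro A ⟨p, hp, rfl⟩ B ⟨r, hr, rfl⟩ hAB
    by_cases h : spB n F p r = 0
    · exact absurd (bracket_eq_bot_iff.2 (TS_comm h)) (bracket_ne_bot hAB)
    · exact (exists_hom h).2
  · rintro A ⟨p, hp, rfl⟩ B ⟨r, hr, rfl⟩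
    by_cases h : spB n F p r = 0
    · obtain ⟨u, hu⟩ := exists_pairing hp
      obtain ⟨v, hv⟩ := exists_pairing hr
      obtain ⟨s, hs1, hs2⟩ := exists_ne_zero_pair hu hv
      have hs0 : s ≠ 0 := fun e => hs1 (by rw [e, map_zero])
      exact (Relation.ReflTransGen.single ⟨⟨p, hp, rfl⟩, ⟨s, hs0, rfl⟩, (exists_hom hs1).1⟩).tail
        ⟨⟨s, hs0, rfl⟩, ⟨r, hr, rfl⟩, RankOnePair_symm (exists_hom hs2).1⟩
    · exact Relation.ReflTransGen.single ⟨⟨p, hp, rfl⟩, ⟨r, hr, rfl⟩, (exists_hom h).1⟩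

end Cfsg.Agent.RootLib.SpEx
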